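import Cfsg.Agent.Lib.Frobenius.Action
import Cfsg.Agent.Lib.ConstStab.Basic
import Cfsg.Agent.Lib.TwoGroups.OneInvolution

/-!
A `p`-group acting fixed-point-freely on a nontrivial finite group is cyclic or generalized
quaternion.
-/

set_option autoImplicit false
set_option linter.style.haveILetI false

namespace CfsgLib.Structure81

open Subgroup CfsgLib.Frobenius

variable {A N : Type*} [Group A] [Group N] [MulDistribMulAction A N] [Finite A] [Finite N]
  [Nontrivial N]

/-- Commuting elements of prime order in a fixed-point-free group generate a cyclic group of that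
order. -/
theorem mem_zpowers_of_commute (h : IsFPF A N) {p : ℕ} (hp : p.Prime) {x y : A} (hx : x ≠ 1)
    (hxp : x ^ p = 1) (hyp : y ^ p = 1) (hxy : Commute x y) : y ∈ zpowers x := by
  set B := closure ({x, y} : Set A) with hBdef
  haveI : IsMulCommutative B := isMulCommutative_closure (by
    rintro a (rfl | rfl) b (rfl | rfl)
    exacts [rfl, hxy.eq, hxy.eq.symm, rfl])
  letI : MulDistribMulAction B N := MulDistribMulAction.compHom N B.subtype
  haveI : IsCyclic B := (h.comp B.subtype B.subtype_injective).isCyclic_of_commutative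
  have hB : ∀ b ∈ B, b ^ p = 1 := by
    intro b hb
    induction hb using closure_induction with
    | mem a ha => rcases ha with rfl | rfl <;> assumption
    | one => simp
    | mul a b ha hb iha ihb =>
      have : Commute a b := congrArg Subtype.val (mul_comm' (⟨a, ha⟩ : B) ⟨b, hb⟩)
      rw [this.mul_pow, iha, ihb, one_mul]
    | inv a ha iha => rw [inv_pow, iha, inv_one]
  obtain ⟨⟨g, hg⟩, hgen⟩ := IsCyclic.exists_generator (α := B)
  have hxB : x ∈ B := subset_closure (by simp)
  have hyB : y ∈ B := subset_closure (by simp)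
  have hcard : Nat.card B ∣ p := by
    rw [← orderOf_eq_card_of_forall_mem_zpowers hgen, Subgroup.orderOf_mk]
    exact orderOf_dvd_of_pow_eq_one (hB g hg)
  have hle : zpowers x ≤ B := zpowers_le.2 hxB
  have heq : zpowers x = B := by
    refine Subgroup.eq_of_le_of_card_ge hle ?_
    rw [Nat.card_zpowers]
    haveI := Fact.mk hp
    rw [orderOf_eq_prime hxp hx]
    exact Nat.le_of_dvd hp.pos hcard
  rw [heq]
  exact hyB

/-- A `p`-group acting fixed-point-freely on a nontrivial finite group is cyclic or generalized
quaternion. -/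
theorem isCyclic_or_quaternion_of_fpf {p : ℕ} [hp : Fact p.Prime] (hA : IsPGroup p A)
    (h : IsFPF A N) : IsCyclic A ∨ ∃ n : ℕ, Nonempty (A ≃* QuaternionGroup (2 ^ n)) := by
  rcases subsingleton_or_nontrivial A with hs | hn
  · exact Or.inl inferInstance
  haveI := hA.center_nontrivial
  obtain ⟨z, hz⟩ := exists_prime_orderOf_dvd_card' (G := center A) p
    (((IsPGroup.to_subgroup hA (center A)).nontrivial_iff_card.1 inferInstance).elim
      fun n hn => hn.2 ▸ dvd_pow_self p hn.1.ne')
  have hz1 : (z : A) ≠ 1 := fun e => by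
    have : z = 1 := Subtype.ext e
    rw [this, orderOf_one] at hz
    exact hp.out.ne_one hz.symm
  have hzp : (z : A) ^ p = 1 := by
    rw [← hz, ← Subgroup.orderOf_coe z]; exact pow_orderOf_eq_one _
  have hzc : ∀ y : A, y ^ p = 1 → y ∈ zpowers (z : A) := fun y hy =>
    mem_zpowers_of_commute h hp.out hz1 hzp hy ((mem_center_iff.1 z.2 y).symm)
  have hord : ∀ x : A, x ≠ 1 → x ^ p = 1 → zpowers x = zpowers (z : A) := by
    intro x hx hxp
    refine Subgroup.eq_of_le_of_card_ge (zpowers_le.2 (hzc x hxp)) ?_
    rw [Nat.card_zpowers, Nat.card_zpowers, orderOf_eq_prime hxp hx, orderOf_eq_prime hzp hz1]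
  by_cases h2 : p = 2
  · subst h2
    have huniq : ∀ a b : A, orderOf a = 2 → orderOf b = 2 → a = b := by
      intro a b ha hb
      have ha2 : a ^ 2 = 1 := ha ▸ pow_orderOf_eq_one a
      have hb2 : b ^ 2 = 1 := hb ▸ pow_orderOf_eq_one b
      have hne : ∀ c : A, orderOf c = 2 → c = (z : A) := by
        intro c hc
        have hc2 : c ^ 2 = 1 := hc ▸ pow_orderOf_eq_one c
        obtain ⟨k, hk⟩ := hzc c hc2
        have hc1 : c ≠ 1 := fun e => by rw [e, orderOf_one] at hc; norm_num at hc
        have hz2 : orderOf (z : A) = 2 := orderOf_eq_prime hzp hz1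
        rw [← hk]
        show (z : A) ^ k = z
        rw [← zpow_mod_orderOf, hz2]
        rcases Int.emod_two_eq_zero_or_one k with hk2 | hk2
        · exfalso
          apply hc1
          rw [← hk]
          show (z : A) ^ k = 1
          rw [← zpow_mod_orderOf, hz2]
          simp [hk2]
        · simp [hk2]
      rw [hne a ha, hne b hb]
    rcases CfsgLib.TwoGroups.OneInvolution.isCyclic_or_quaternion hA huniq with hc | ⟨n, -, hn⟩
    · exact Or.inl hc
    · exact Or.inr ⟨n, hn⟩
  · refine Or.inl (CfsgLib.ConstStab.isCyclic_of_unique_prime_subgroup h2 hA fun x y hx hxp hyp => ?_)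
    rw [hord x hx hxp]
    exact hzc y hyp

end CfsgLib.Structure81
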