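import Cfsg.Prelude.Def_DegreeGraph
import Cfsg.Agent.Lib.Characters.Clifford
import Cfsg.Agent.Lib.Characters.LinearTwist
import Cfsg.Agent.Lib.Characters.Values
import Cfsg.Agent.Lib.CharCorr.Basic
import Cfsg.Agent.Lib.Blocks.PRational
import Mathlib.GroupTheory.FiniteAbelian.Duality
import Mathlib.Algebra.Polynomial.Eval.Degree
import Mathlib.GroupTheory.Perm.Cycle.Type

/-!
# The common-divisor graph of the relative degrees `cd(G | N)` for `N ≤ G'`

For a linear character `λ` of prime order `r` of `N` put `w λ` = the length of its `G`-orbit, or `r` if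
`λ` is invariant.  If a power of the determinant of a constituent `θ` of `χ_N` has prime order, its
`w` divides `χ(1)`: the orbit length does because the inertia group of `θ` fixes the determinant,
and, for an invariant one, `det χ` is trivial on `N`.  Everything follows from this.
-/

set_option autoImplicit false
set_option linter.unusedSectionVars false
set_option linter.unusedFintypeInType false
set_option linter.style.haveILetI false

namespace CfsgLib.Structure81.RelDegree

open Cfsg CfsgLib.Characters CfsgLib.Clifford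
open scoped ComplexConjugate

universe u

/-! ## Determinants from traces -/

theorem prod_eq_of_pow_sum_eq {ι κ : Type*} [Fintype ι] [Fintype κ] (ω : ι → ℂ) (ω' : κ → ℂ)
    (h : ∀ j : ℕ, ∑ i, ω i ^ j = ∑ k, ω' k ^ j) : ∏ i, ω i = ∏ k, ω' k := by
  classical
  set S := Finset.univ.image ω ∪ Finset.univ.image ω' with hS
  have heval : ∀ P : Polynomial ℂ, ∑ i, P.eval (ω i) = ∑ k, P.eval (ω' k) := by
    intro P
    simp only [Polynomial.eval_eq_sum_range]
    rw [Finset.sum_comm, Finset.sum_comm (s := (Finset.univ : Finset κ))]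
    exact Finset.sum_congr rfl fun j _ => by rw [← Finset.mul_sum, ← Finset.mul_sum, h j]
  have hmem : ∀ i, ω i ∈ S := fun i =>
    Finset.mem_union_left _ (Finset.mem_image_of_mem _ (Finset.mem_univ i))
  have hmem' : ∀ k, ω' k ∈ S := fun k =>
    Finset.mem_union_right _ (Finset.mem_image_of_mem _ (Finset.mem_univ k))
  have hcount : ∀ z ∈ S, (Finset.univ.filter fun i => ω i = z).card =
      (Finset.univ.filter fun k => ω' k = z).card := by
    intro z hz
    let P : Polynomial ℂ := ∏ y ∈ S.erase z, (Polynomial.X - Polynomial.C y)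
    have hP : ∀ x, P.eval x = ∏ y ∈ S.erase z, (x - y) := fun x => by
      simp [P, Polynomial.eval_prod]
    have hne : P.eval z ≠ 0 := by
      rw [hP, Finset.prod_ne_zero_iff]
      exact fun y hy => sub_ne_zero.2 (Finset.ne_of_mem_erase hy).symm
    have hzero : ∀ x ∈ S, x ≠ z → P.eval x = 0 := fun x hx hxz => by
      rw [hP]
      exact Finset.prod_eq_zero (Finset.mem_erase.2 ⟨hxz, hx⟩) (sub_self x)
    have h1 := heval P
    rw [← Finset.sum_subset (Finset.subset_univ (Finset.univ.filter fun i => ω i = z))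
        fun i _ hi => hzero _ (hmem i) (by simpa using hi),
      ← Finset.sum_subset (Finset.subset_univ (Finset.univ.filter fun k => ω' k = z))
        fun k _ hk => hzero _ (hmem' k) (by simpa using hk),
      Finset.sum_congr rfl (fun i hi => show P.eval (ω i) = P.eval z by
        rw [(Finset.mem_filter.1 hi).2]),
      Finset.sum_congr rfl (fun k hk => show P.eval (ω' k) = P.eval z by
        rw [(Finset.mem_filter.1 hk).2]),
      Finset.sum_const, Finset.sum_const, nsmul_eq_mul, nsmul_eq_mul] at h1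
    exact_mod_cast mul_right_cancel₀ hne h1
  rw [← Finset.prod_fiberwise_of_maps_to (fun i _ => hmem i),
    ← Finset.prod_fiberwise_of_maps_to (fun k _ => hmem' k)]
  refine Finset.prod_congr rfl fun z hz => ?_
  rw [Finset.prod_congr rfl (fun i hi => (Finset.mem_filter.1 hi).2), Finset.prod_const,
    Finset.prod_congr rfl (fun i hi => (Finset.mem_filter.1 hi).2), Finset.prod_const, hcount z hz]

theorem det_eq_prod_eigen {V ι : Type*} [AddCommGroup V] [Module ℂ V] [Fintype ι]
    (T : V →ₗ[ℂ] V) (b : Module.Basis ι ℂ V) (ω : ι → ℂ) (h : ∀ i, T (b i) = ω i • b i) :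
    LinearMap.det T = ∏ i, ω i := by
  classical
  rw [← LinearMap.det_toMatrix b, ← Matrix.det_diagonal]
  congr 1
  ext i j
  rw [LinearMap.toMatrix_apply, h, map_smul, Module.Basis.repr_self]
  by_cases hij : i = j
  · subst hij; simp
  · simp [Finsupp.single_apply, Matrix.diagonal, hij, Ne.symm hij]

theorem exists_eigen_det {H : Type u} [Group H] [Finite H] {V : Type*} [AddCommGroup V]
    [Module ℂ V] [FiniteDimensional ℂ V] (ρ : Representation ℂ H V) (x : H) :
    ∃ ω : Fin (Module.finrank ℂ V) → ℂ,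
      LinearMap.det (ρ x) = ∏ i, ω i ∧ ∀ j : ℕ, ρ.character (x ^ j) = ∑ i, ω i ^ j := by
  obtain ⟨b, ω, -, hb⟩ := exists_eigenbasis ρ x
  refine ⟨ω, det_eq_prod_eigen _ b ω hb, fun j => character_eq_sum_of_eigenbasis ρ _ b _ fun i => ?_⟩
  rw [map_pow]
  induction j with
  | zero => simp
  | succ j ih => rw [pow_succ', Module.End.mul_apply, ih, map_smul, hb, smul_smul, pow_succ]

/-- The determinant of a representation, from the constituents of its character. -/
theorem det_eq_prod_detChar {H : Type u} [Group H] [Finite H] {M : ℕ}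
    (σ : Representation ℂ H (Fin M → ℂ)) (S : Finset (H → ℂ)) (e : ℕ)
    (hS : ∀ ψ ∈ S, IsIrrCharacter H ψ) (hσ : ∀ y, σ.character y = (e : ℂ) * ∑ ψ ∈ S, ψ y) (x : H) :
    LinearMap.det (σ x) = ∏ ψ ∈ S, detChar ψ x ^ e := by
  classical
  choose d ρ hirr hchar using fun ψ : S => hS ψ.1 ψ.2
  choose ω hdet hpow using fun ψ : S => exists_eigen_det (ρ ψ) x
  obtain ⟨ν, hν1, hν2⟩ := exists_eigen_det σ x
  have hD : ∀ ψ : S, detChar (ψ : H → ℂ) x = ∏ i, ω ψ i := fun ψ => by
    rw [← hdet]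
    haveI := hirr ψ
    rw [← hchar ψ, CfsgLib.CharExtension.detChar_eq]
  have key := prod_eq_of_pow_sum_eq ν
    (fun q : (ψ : S) × (Fin e × Fin (Module.finrank ℂ (Fin (d ψ) → ℂ))) => ω q.1 q.2.2) fun j => by
      rw [← hν2, hσ, Fintype.sum_sigma, Finset.mul_sum, ← Finset.sum_coe_sort S]
      refine Finset.sum_congr rfl fun ψ _ => ?_
      rw [Fintype.sum_prod_type]
      dsimp only
      rw [Finset.sum_const, Finset.card_univ, Fintype.card_fin, nsmul_eq_mul, ← hpow, hchar]
  rw [hν1, key, Fintype.prod_sigma, ← Finset.prod_coe_sort S]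
  refine Finset.prod_congr rfl fun ψ _ => ?_
  rw [Fintype.prod_prod_type]
  dsimp only
  rw [Finset.prod_const, Finset.card_univ, Fintype.card_fin, hD]

theorem detChar_hom {H : Type u} [Group H] [Finite H] (f : H →* ℂˣ) :
    detChar (fun h => (f h : ℂ)) = fun h => (f h : ℂ) := by
  have h1 : detChar (fun _ : H => (1 : ℂ)) = fun _ => (1 : ℂ) := by
    rw [CfsgLib.PRational.detChar_of_char isIrrCharacter_one
      (Representation.trivial ℂ H (Fin 1 → ℂ)) (by funext h; simp [Representation.character])]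
    funext h; simp
  have h2 := CfsgLib.PRational.detChar_mul_hom (X := H) isIrrCharacter_one (d := 1) (by simp) f
  simpa [h1] using h2

/-! ## Linear characters of the normal subgroup -/

variable {G : Type u} [Group G] [Finite G] {N : Subgroup G}

/-- `G` acts on the linear characters of a normal subgroup. -/
@[reducible] def linAction (hN : N.Normal) : MulAction G (N →* ℂˣ) where
  smul g f := f.comp (conjHom hN g⁻¹)
  one_smul f := MonoidHom.ext fun n => congrArg f (Subtype.ext (by simp [conjHom]))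
  mul_smul g h f := MonoidHom.ext fun n => congrArg f (Subtype.ext (by simp [conjHom, mul_assoc]))

/-- The stabilizer of a linear character. -/
def stab (hN : N.Normal) (f : N →* ℂˣ) : Subgroup G :=
  @MulAction.stabilizer G _ _ (linAction hN) f

theorem mem_stab {hN : N.Normal} {f : N →* ℂˣ} {g : G} :
    g ∈ stab hN f ↔ f.comp (conjHom hN g⁻¹) = f := Iff.rfl

theorem stab_le_pow (hN : N.Normal) (f : N →* ℂˣ) (i : ℕ) : stab hN f ≤ stab hN (f ^ i) := by
  intro g hg
  rw [mem_stab] at hg ⊢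
  refine MonoidHom.ext fun n => ?_
  have := DFunLike.congr_fun hg n
  simp only [MonoidHom.comp_apply, MonoidHom.pow_apply] at this ⊢
  rw [this]

/-- The number every degree over `f` is divisible by. -/
noncomputable def wgt (hN : N.Normal) (f : N →* ℂˣ) : ℕ :=
  if (stab hN f).index = 1 then orderOf f else (stab hN f).index

theorem one_lt_wgt {hN : N.Normal} {f : N →* ℂˣ} {r : ℕ} (hr : r.Prime) (hf : orderOf f = r) :
    1 < wgt hN f := by
  rw [wgt]
  split_ifs with h
  · rw [hf]; exact hr.one_lt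
  · have := Subgroup.index_ne_zero_of_finite (H := stab hN f); omega

theorem wgt_pow {hN : N.Normal} {f : N →* ℂˣ} {r : ℕ} (hr : r.Prime) (hf : orderOf f = r)
    {i : ℕ} (hi : ¬ r ∣ i) : wgt hN (f ^ i) = wgt hN f := by
  have hcop : (orderOf f).Coprime i := hf ▸ (hr.coprime_iff_not_dvd.2 hi)
  obtain ⟨j, hj⟩ := exists_pow_eq_self_of_coprime hcop.symm
  have hst : stab hN (f ^ i) = stab hN f := by
    refine le_antisymm ?_ (stab_le_pow hN f i)
    have h2 := stab_le_pow hN (f ^ i) j
    rwa [hj] at h2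
  rw [wgt, wgt, hst, hcop.orderOf_pow]

/-- Coprime orbits of characters of order `r`, with lengths prime to `r`: their sum links them. -/
theorem exists_gcd_ne_one (hN : N.Normal) {r : ℕ} (hr : r.Prime) {f f' : N →* ℂˣ}
    (hf' : f' ^ r = 1) (hfr : f ^ r = 1) (h1 : 1 < (stab hN f).index)
    (hcop : (stab hN f).index.Coprime (stab hN f').index)
    (h2 : ¬ r ∣ (stab hN f').index) :
    ¬ (stab hN (f * f')).index.Coprime (stab hN f).index := by
  classical
  letI : MulAction G (N →* ℂˣ) := linAction hN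
  haveI : Finite (N →* ℂˣ) := inferInstance
  set n₁ := (stab hN f).index with hn₁
  set n₂ := (stab hN f').index with hn₂
  set n₃ := (stab hN (f * f')).index with hn₃
  intro hco
  have horb : ∀ k : N →* ℂˣ, (MulAction.orbit G k).ncard = (stab hN k).index := fun k =>
    (MulAction.index_stabilizer G k).symm
  have hle : stab hN f ⊓ stab hN f' ≤ stab hN (f * f') := by
    rintro g ⟨hg, hg'⟩
    change g ∈ stab hN f at hg
    change g ∈ stab hN f' at hg'
    rw [mem_stab] at hg hg'
    rw [mem_stab, MonoidHom.mul_comp, hg, hg']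
  have hinf : (stab hN f ⊓ stab hN f').index = n₁ * n₂ :=
    le_antisymm Subgroup.index_inf_le (Nat.le_of_dvd (Nat.pos_of_ne_zero
      Subgroup.index_ne_zero_of_finite) (hcop.mul_dvd_of_dvd_of_dvd
        (Subgroup.index_dvd_of_le inf_le_left) (Subgroup.index_dvd_of_le inf_le_right)))
  have h32 : n₃ ∣ n₂ := hco.dvd_of_dvd_mul_left (hinf ▸ Subgroup.index_dvd_of_le hle)
  -- all pairs are conjugate to `(f, f')`
  have hpair : MulAction.orbit G (f, f') = MulAction.orbit G f ×ˢ MulAction.orbit G f' := by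
    refine Set.eq_of_subset_of_ncard_le ?_ ?_ (Set.toFinite _)
    · rintro _ ⟨g, rfl⟩; exact ⟨⟨g, rfl⟩, ⟨g, rfl⟩⟩
    · rw [Set.ncard_prod, horb, horb, ← MulAction.index_stabilizer]
      refine le_of_eq (hinf.symm.trans ?_)
      congr 1
      ext g
      simp only [Subgroup.mem_inf, MulAction.mem_stabilizer_iff, Prod.smul_mk, Prod.mk.injEq]
      rfl
  have hprod : ∀ x ∈ MulAction.orbit G f, (fun y => x * y) '' MulAction.orbit G f' =
      MulAction.orbit G (f * f') := by
    intro x hx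
    refine Set.eq_of_subset_of_ncard_le ?_ ?_ (Set.toFinite _)
    · rintro _ ⟨y, hy, rfl⟩
      have hm : (x, y) ∈ MulAction.orbit G (f, f') := hpair ▸ ⟨hx, hy⟩
      obtain ⟨g, hg⟩ := hm
      simp only [Prod.smul_mk, Prod.mk.injEq] at hg
      exact ⟨g, by rw [← hg.1, ← hg.2]; exact MonoidHom.mul_comp _ _ _⟩
    · rw [Set.ncard_image_of_injective _ (mul_right_injective x), horb, horb]
      exact Nat.le_of_dvd (Nat.pos_of_ne_zero Subgroup.index_ne_zero_of_finite) h32
  obtain ⟨x, hx, hxf⟩ : ∃ x ∈ MulAction.orbit G f, x ≠ f := by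
    by_contra! hh
    have : (MulAction.orbit G f).ncard ≤ 1 :=
      (Set.ncard_le_one (Set.toFinite _)).2 fun a ha b hb => (hh a ha).trans (hh b hb).symm
    rw [horb] at this
    exact absurd this (not_le.2 h1)
  set z := f⁻¹ * x with hz
  have hzinv : (fun y => z * y) '' MulAction.orbit G f' = MulAction.orbit G f' := by
    have e := (hprod x hx).trans (hprod f (MulAction.mem_orbit_self f)).symm
    have e2 := congrArg (Set.image fun y => f⁻¹ * y) e
    simp only [Set.image_image] at e2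
    calc (fun y => z * y) '' MulAction.orbit G f'
        = (fun y => f⁻¹ * (x * y)) '' MulAction.orbit G f' :=
          Set.image_congr fun y _ => by rw [hz, mul_assoc f⁻¹ x y]
      _ = (fun y => f⁻¹ * (f * y)) '' MulAction.orbit G f' := e2
      _ = MulAction.orbit G f' := by
          rw [Set.image_congr fun y _ => inv_mul_cancel_left f y, Set.image_id']
  let O := (Set.toFinite (MulAction.orbit G f')).toFinset
  have hzO : O.image (fun y => z * y) = O := by
    apply Finset.coe_injective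
    simp [O, hzinv]
  have e3 : (∏ y ∈ O, y) = z ^ O.card * ∏ y ∈ O, y := by
    conv_lhs => rw [← hzO, Finset.prod_image fun a _ b _ h => mul_left_cancel h]
    rw [Finset.prod_mul_distrib, Finset.prod_const]
  have hz1 : z ^ n₂ = 1 := by
    have h4 : z ^ O.card = 1 :=
      mul_right_cancel (e3.symm.trans (one_mul (M := N →* ℂˣ) _).symm)
    rwa [show O.card = n₂ by
      rw [← Set.ncard_eq_toFinset_card (MulAction.orbit G f') (Set.toFinite _), horb]] at h4
  have hzr : z ^ r = 1 := by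
    obtain ⟨g, rfl⟩ := hx
    have e : (g • f) ^ r = 1 := by
      refine MonoidHom.ext fun n => ?_
      exact DFunLike.congr_fun hfr (conjHom hN g⁻¹ n)
    refine MonoidHom.ext fun n => ?_
    have e' := DFunLike.congr_fun e n
    have e'' := DFunLike.congr_fun hfr n
    simp only [MonoidHom.pow_apply, MonoidHom.one_apply] at e' e''
    simp only [hz, MonoidHom.pow_apply, MonoidHom.mul_apply, MonoidHom.inv_apply, mul_pow, inv_pow,
      e'', inv_one, one_mul, MonoidHom.one_apply]
    exact e'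
  have hz0 : z ≠ 1 := fun e => hxf (inv_mul_eq_one.1 e).symm
  haveI := Fact.mk hr
  have hord : orderOf z = r := orderOf_eq_prime hzr hz0
  exact h2 (hord ▸ orderOf_dvd_of_pow_eq_one hz1)

/-! ## Constituents -/

variable [Fintype G] [Fintype N]

theorem exists_over (θ : IrrCharacter N) :
    ∃ χ : IrrCharacter G, classInner (fun n : N => (χ : G → ℂ) n) (θ : N → ℂ) ≠ 0 := by
  classical
  have hF : IsCharacter G (indFun N (θ : N → ℂ)) :=
    CfsgLib.Induction.isCharacter_indFun N (irr_isCharacter θ)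
  have hne : indFun N (θ : N → ℂ) ≠ 0 := fun e => by
    have := congrFun e 1
    rw [CfsgLib.Induction.indFun_one_apply, Pi.zero_apply, mul_eq_zero, Nat.cast_eq_zero] at this
    exact this.elim Subgroup.index_ne_zero_of_finite (irr_one_ne_zero θ)
  obtain ⟨χ, hχ⟩ := exists_constituent hF hne
  refine ⟨χ, fun e => hχ ?_⟩
  rw [CfsgLib.Induction.classInner_indFun N _ (irr_isClassFunction χ),
    CfsgLib.Induction.classInner_swap, e, map_zero]

theorem mem_rel_of_over {θ : IrrCharacter N} (hθ : (θ : N → ℂ) ≠ fun _ => 1) {χ : IrrCharacter G}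
    (h : classInner (fun n : N => (χ : G → ℂ) n) (θ : N → ℂ) ≠ 0) :
    charDegree (χ : G → ℂ) ∈ relCharDegrees N := by
  refine ⟨χ, ?_, rfl⟩
  by_contra! hh
  refine h ?_
  have e : (fun n : N => (χ : G → ℂ) n) = (χ : G → ℂ) 1 • fun _ : N => (1 : ℂ) := by
    funext n; simp [hh n n.2]
  rw [e, classInner_smul_left, classInner_irr_ne isIrrCharacter_one θ.2 (Ne.symm hθ), mul_zero]

theorem exists_nontrivial_constituent {χ : IrrCharacter G}
    (h : ∃ x ∈ N, (χ : G → ℂ) x ≠ (χ : G → ℂ) 1) :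
    ∃ θ : IrrCharacter N, (θ : N → ℂ) ≠ (fun _ => 1) ∧
      classInner (fun n : N => (χ : G → ℂ) n) (θ : N → ℂ) ≠ 0 := by
  classical
  obtain ⟨m, hm, hsum⟩ := exists_mult (isCharacter_subtype (irr_isCharacter χ) N)
  by_contra! hh
  obtain ⟨x, hx, hne⟩ := h
  refine hne ?_
  have e : ∀ ψ : IrrCharacter N, (m ψ : ℂ) * (ψ : N → ℂ) ⟨x, hx⟩ = (m ψ : ℂ) * (ψ : N → ℂ) 1 := by
    intro ψ
    by_cases hψ : (ψ : N → ℂ) = fun _ => 1
    · rw [hψ]
    · rw [← hm, hh ψ hψ, zero_mul, zero_mul]
  calc (χ : G → ℂ) x = (fun n : N => (χ : G → ℂ) n) ⟨x, hx⟩ := rfl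
    _ = ∑ ψ : IrrCharacter N, (m ψ : ℂ) * (ψ : N → ℂ) ⟨x, hx⟩ := by
        rw [hsum]; simp [Finset.sum_apply]
    _ = ∑ ψ : IrrCharacter N, (m ψ : ℂ) * (ψ : N → ℂ) 1 := Finset.sum_congr rfl fun ψ _ => e ψ
    _ = (fun n : N => (χ : G → ℂ) n) 1 := by rw [hsum]; simp [Finset.sum_apply]
    _ = (χ : G → ℂ) 1 := rfl

/-- The degree of a character over `θ`, and the triviality of its determinant on `N ≤ G'`. -/
theorem degree_data (hN : N.Normal) (hNG : N ≤ commutator G) (χ : IrrCharacter G)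
    (θ : IrrCharacter N) (h : classInner (fun n : N => (χ : G → ℂ) n) (θ : N → ℂ) ≠ 0) :
    ∃ e : ℕ, charDegree (χ : G → ℂ) = e * (inertia hN (θ : N → ℂ)).index * charDegree (θ : N → ℂ) ∧
      ∀ n : N, ∏ ψ ∈ (conjOrbit_finite hN (θ : N → ℂ)).toFinset, detChar ψ n ^ e = 1 := by
  classical
  obtain ⟨m, hm, -⟩ := exists_mult (isCharacter_subtype (irr_isCharacter χ) N)
  refine ⟨m θ, ?_, fun n => ?_⟩
  · have h1 := clifford_degree hN χ.2 θ.2 h
    rw [hm, CfsgLib.CharCorr.irr_one_eq_charDegree, CfsgLib.CharCorr.irr_one_eq_charDegree] at h1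
    exact_mod_cast h1
  obtain ⟨M, ρ, -, hρ⟩ := χ.2
  have h1 := det_eq_prod_detChar (ρ.comp N.subtype)
    (conjOrbit_finite hN (θ : N → ℂ)).toFinset (m θ) (fun ψ hψ => by
      obtain ⟨g, rfl⟩ := (conjOrbit_finite hN (θ : N → ℂ)).mem_toFinset.1 hψ
      exact isIrrCharacter_conjChar hN θ.2 g)
    (fun y => by
      have h2 := congrFun (clifford hN χ.2 θ.2 h) y
      rw [hm, Pi.smul_apply, Finset.sum_apply, smul_eq_mul] at h2
      rw [← h2, ← hρ]
      rfl) n
  rw [← h1]
  have h3 : (n : G) ∈ ((LinearMap.det.comp ρ).toHomUnits : G →* ℂˣ).ker :=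
    Abelianization.commutator_subset_ker _ (hNG n.2)
  exact congrArg Units.val (MonoidHom.mem_ker.mp h3)

/-- The key lemma. -/
theorem wgt_dvd (hN : N.Normal) (hNG : N ≤ commutator G) {χ : IrrCharacter G} {θ : IrrCharacter N}
    (h : classInner (fun n : N => (χ : G → ℂ) n) (θ : N → ℂ) ≠ 0) {D : N →* ℂˣ}
    (hD : detChar (θ : N → ℂ) = fun n => (D n : ℂ)) {u r : ℕ} (hr : r.Prime)
    (hord : orderOf (D ^ u) = r) :
    wgt hN (D ^ u) ∣ charDegree (χ : G → ℂ) := by
  classical
  obtain ⟨e, hdeg, hdet⟩ := degree_data hN hNG χ θ h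
  have hconj : ∀ g, detChar (conjChar hN (θ : N → ℂ) g) = fun n => (D (conjHom hN g n) : ℂ) := by
    intro g
    have h1 := CfsgLib.PRational.detChar_comp θ.2 (conjHom hN g) (isIrrCharacter_conjChar hN θ.2 g)
    rw [hD] at h1
    exact h1
  have hle : inertia hN (θ : N → ℂ) ≤ stab hN (D ^ u) := by
    intro g hg
    have h1 := hconj g⁻¹
    rw [show conjChar hN (θ : N → ℂ) g⁻¹ = θ from (inertia hN (θ : N → ℂ)).inv_mem hg, hD] at h1
    rw [mem_stab]
    refine MonoidHom.ext fun n => ?_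
    rw [MonoidHom.comp_apply, MonoidHom.pow_apply, MonoidHom.pow_apply,
      Units.ext (congrFun h1 n)]
  rw [wgt]
  split_ifs with h1
  · rw [hord, hdeg]
    refine dvd_mul_of_dvd_left ?_ _
    rw [← hord]
    refine orderOf_dvd_of_pow_eq_one (MonoidHom.ext fun n => Units.ext ?_)
    rw [Subgroup.index_eq_one] at h1
    have hterm : ∀ ψ ∈ (conjOrbit_finite hN (θ : N → ℂ)).toFinset,
        detChar ψ n ^ u = (((D ^ u) n : ℂˣ) : ℂ) := by
      intro ψ hψ
      obtain ⟨g, rfl⟩ := (conjOrbit_finite hN (θ : N → ℂ)).mem_toFinset.1 hψ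
      have hg : g⁻¹ ∈ stab hN (D ^ u) := h1 ▸ Subgroup.mem_top _
      rw [mem_stab, inv_inv] at hg
      have h2 := congrArg Units.val (DFunLike.congr_fun hg n)
      simp only [MonoidHom.comp_apply, MonoidHom.pow_apply, Units.val_pow_eq_pow_val] at h2 ⊢
      rw [hconj]
      exact h2
    have h3 := congrArg (· ^ u) (hdet n)
    simp only [one_pow, ← Finset.prod_pow] at h3
    rw [Finset.prod_congr rfl (fun ψ hψ => show (detChar ψ n ^ e) ^ u =
        (((D ^ u) n : ℂˣ) : ℂ) ^ e by rw [← hterm ψ hψ, ← pow_mul, ← pow_mul, mul_comm]),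
      Finset.prod_const, card_conjOrbit, ← pow_mul] at h3
    rw [MonoidHom.pow_apply, Units.val_pow_eq_pow_val, MonoidHom.one_apply, Units.val_one]
    exact h3
  · exact (Subgroup.index_dvd_of_le hle).trans (hdeg ▸ dvd_mul_of_dvd_left (dvd_mul_left _ _) _)

/-- The degree of a constituent divides the degree. -/
theorem degree_dvd (hN : N.Normal) (hNG : N ≤ commutator G) {χ : IrrCharacter G}
    {θ : IrrCharacter N} (h : classInner (fun n : N => (χ : G → ℂ) n) (θ : N → ℂ) ≠ 0) :
    charDegree (θ : N → ℂ) ∣ charDegree (χ : G → ℂ) := by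
  obtain ⟨e, hdeg, -⟩ := degree_data hN hNG χ θ h
  exact hdeg ▸ dvd_mul_left _ _

/-! ## The graph -/

theorem reach_of_common {V : Set ℕ} {a b : ℕ} (ha : a ∈ V) (hb : b ∈ V) {d : ℕ} (hd : 1 < d)
    (hda : d ∣ a) (hdb : d ∣ b) (ha0 : 0 < a) :
    (commonDivisorGraph.induce V).Reachable ⟨a, ha⟩ ⟨b, hb⟩ := by
  by_cases he : a = b
  · subst he; exact SimpleGraph.Reachable.refl _
  · refine SimpleGraph.Adj.reachable ?_
    exact ⟨he, lt_of_lt_of_le hd (Nat.le_of_dvd (Nat.gcd_pos_of_pos_left _ ha0)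
      (Nat.dvd_gcd hda hdb))⟩

theorem pos_of_mem_rel {a : ℕ} (ha : a ∈ relCharDegrees N) : 0 < a := by
  obtain ⟨χ, -, rfl⟩ := ha
  exact CfsgLib.CharCorr.charDegree_irr_pos χ

/-- A degree lies in the component of every weight dividing a degree reachable from it. -/
def InComp (hN : N.Normal) (a : relCharDegrees N) (f : N →* ℂˣ) : Prop :=
  ∃ b : relCharDegrees N, wgt hN f ∣ (b : ℕ) ∧
    (commonDivisorGraph.induce (relCharDegrees N)).Reachable a b

theorem InComp.reach {hN : N.Normal} {a a' : relCharDegrees N} {f : N →* ℂˣ} {r : ℕ}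
    (hr : r.Prime) (hf : orderOf f = r) (h : InComp hN a f) (h' : InComp hN a' f) :
    (commonDivisorGraph.induce (relCharDegrees N)).Reachable a a' := by
  obtain ⟨b, hb, hab⟩ := h
  obtain ⟨b', hb', hab'⟩ := h'
  exact hab.trans ((reach_of_common b.2 b'.2 (one_lt_wgt hr hf) hb hb'
    (pos_of_mem_rel b.2)).trans hab'.symm)

theorem exists_lin_order (hN : N.Normal) {r : ℕ} (hr : r.Prime)
    (hdvd : r ∣ (⁅N, N⁆).relIndex N) : ∃ f : N →* ℂˣ, orderOf f = r := by
  haveI := Fact.mk hr
  have e1 : (⁅N, N⁆).subgroupOf N = commutator N := by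
    rw [← Subgroup.map_subtype_commutator, Subgroup.subgroupOf,
      Subgroup.comap_map_eq_self_of_injective N.subtype_injective]
  have hcard : Nat.card (Abelianization N) = (⁅N, N⁆).relIndex N := by
    rw [Subgroup.relIndex, e1, Subgroup.index_eq_card]; rfl
  obtain ⟨ψ, hψ⟩ := exists_prime_orderOf_dvd_card' (G := Abelianization N →* ℂˣ) r
    (hdvd.trans (by rw [← hcard, CommGroup.card_monoidHom_of_hasEnoughRootsOfUnity]))
  refine ⟨ψ.comp Abelianization.of, orderOf_eq_prime ?_ ?_⟩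
  · refine MonoidHom.ext fun n => ?_
    have := DFunLike.congr_fun (hψ ▸ pow_orderOf_eq_one ψ : ψ ^ r = 1) (Abelianization.of n)
    simpa using this
  · intro e
    have : ψ = 1 := MonoidHom.ext fun q => by
      obtain ⟨n, rfl⟩ := QuotientGroup.mk_surjective q
      exact DFunLike.congr_fun e n
    rw [this, orderOf_one] at hψ
    exact hr.one_lt.ne hψ

theorem prime_dvd_relIndex {f : N →* ℂˣ} {r : ℕ} (hf : orderOf f = r) :
    r ∣ (⁅N, N⁆).relIndex N := by
  rw [← hf]
  refine orderOf_dvd_of_pow_eq_one (MonoidHom.ext fun n => ?_)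
  have e1 : (⁅N, N⁆).subgroupOf N = commutator N := by
    rw [← Subgroup.map_subtype_commutator, Subgroup.subgroupOf,
      Subgroup.comap_map_eq_self_of_injective N.subtype_injective]
  have h1 : n ^ (⁅N, N⁆).relIndex N ∈ commutator N := by
    rw [Subgroup.relIndex, e1]; exact Subgroup.pow_index_mem _ n
  rw [MonoidHom.pow_apply, ← map_pow, MonoidHom.one_apply]
  exact MonoidHom.mem_ker.1 (Abelianization.commutator_subset_ker f h1)

/-- A degree missing a prime of `|N : N'|` lies in some component of a weight; a degree with a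
nonlinear constituent lies in that of every character of such an order. -/
theorem inComp_cases (hN : N.Normal) (hNG : N ≤ commutator G) (a : relCharDegrees N) {s : ℕ}
    (hs : s.Prime) (hsa : ¬ s ∣ (a : ℕ)) :
    (∃ (r : ℕ) (f : N →* ℂˣ), r.Prime ∧ orderOf f = r ∧ wgt hN f ∣ (a : ℕ)) ∨
      ∀ f : N →* ℂˣ, orderOf f = s → InComp hN a f := by
  classical
  obtain ⟨χ, hχ, hdeg⟩ := a.2
  obtain ⟨θ, hθ1, hθ⟩ := exists_nontrivial_constituent hχ
  obtain ⟨D, hD⟩ := CfsgLib.PRational.exists_detHom θ.2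
  by_cases hd : charDegree (θ : N → ℂ) = 1
  · left
    obtain ⟨f, hf⟩ := CfsgLib.LinearTwist.exists_hom_of_charDegree_one (irr_isCharacter θ) hd
    have hDf : detChar (θ : N → ℂ) = fun n => (f n : ℂ) := by rw [hf, detChar_hom]
    have hne : orderOf f ≠ 1 := fun e => hθ1 (by
      rw [hf, orderOf_eq_one_iff.1 e]; funext n; simp)
    obtain ⟨r, hr, hrd⟩ := Nat.exists_prime_and_dvd hne
    haveI : Finite (N →* ℂˣ) := inferInstance
    have hord : orderOf (f ^ (orderOf f / r)) = r := by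
      rw [orderOf_pow_of_dvd (Nat.div_ne_zero_iff.2 ⟨hr.ne_zero, Nat.le_of_dvd (orderOf_pos f) hrd⟩)
        (Nat.div_dvd_of_dvd hrd), Nat.div_div_self hrd (orderOf_pos f).ne']
    exact ⟨r, _, hr, hord, hdeg ▸ wgt_dvd hN hNG hθ hDf hr hord⟩
  · right
    intro f hf
    have hd0 : 0 < charDegree (θ : N → ℂ) := CfsgLib.CharCorr.charDegree_irr_pos θ
    have hdd : charDegree (θ : N → ℂ) ∣ (a : ℕ) := hdeg ▸ degree_dvd hN hNG hθ
    have hsd : ¬ s ∣ charDegree (θ : N → ℂ) := fun e => hsa (e.trans hdd)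
    haveI : Finite (N →* ℂˣ) := inferInstance
    obtain ⟨o, ho⟩ : ∃ o, o = orderOf D := ⟨_, rfl⟩
    have ho0 : o ≠ 0 := ho ▸ (orderOf_pos D).ne'
    set u := o / s ^ o.factorization s with hu
    set sk := s ^ o.factorization s with hsk
    have hsu : ¬ s ∣ u := Nat.not_dvd_ordCompl hs ho0
    obtain ⟨j, hj⟩ : ∃ j : ℕ, sk ∣ 1 + charDegree (θ : N → ℂ) * j := by
      haveI : NeZero sk := ⟨(pow_pos hs.pos _).ne'⟩
      refine ⟨(-((charDegree (θ : N → ℂ) : ZMod sk))⁻¹).val, ?_⟩
      rw [← ZMod.natCast_eq_zero_iff, Nat.cast_add, Nat.cast_mul, Nat.cast_one,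
        ZMod.natCast_zmod_val, mul_neg, ZMod.coe_mul_inv_eq_one _
          (Nat.Coprime.pow_right _ ((hs.coprime_iff_not_dvd.2 hsd).symm)), add_neg_cancel]
    set ν := D ^ j * f with hν
    have hirr : IsIrrCharacter N (fun n => (θ : N → ℂ) n * (ν n : ℂ)) :=
      CfsgLib.LinearTwist.isIrr_mul_hom θ.2 ν
    set θ' : IrrCharacter N := ⟨_, hirr⟩ with hθ'
    have hdeq : charDegree (θ' : N → ℂ) = charDegree (θ : N → ℂ) := by
      simp [charDegree, hθ']
    have hθ'1 : (θ' : N → ℂ) ≠ fun _ => 1 := fun e => hd (by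
      rw [← hdeq, e]; simp [charDegree])
    obtain ⟨χ', hχ'⟩ := exists_over θ'
    have hD' : detChar (θ' : N → ℂ) = fun n => ((D * ν ^ charDegree (θ : N → ℂ)) n : ℂ) := by
      rw [show (θ' : N → ℂ) = fun n => (θ : N → ℂ) n * (ν n : ℂ) from rfl,
        CfsgLib.PRational.detChar_mul_hom θ.2 (CfsgLib.CharCorr.irr_one_eq_charDegree θ) ν, hD]
      funext n
      simp [mul_comm]
    have hDo : D ^ ((1 + charDegree (θ : N → ℂ) * j) * u) = 1 := by
      refine (orderOf_dvd_iff_pow_eq_one (x := D)).1 ?_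
      rw [← ho]
      have he : o = sk * u := (Nat.ordProj_mul_ordCompl_eq_self o s).symm
      rw [he]
      exact Nat.mul_dvd_mul hj dvd_rfl
    have hpow : (D * ν ^ charDegree (θ : N → ℂ)) ^ u = f ^ (charDegree (θ : N → ℂ) * u) := by
      refine MonoidHom.ext fun n => ?_
      have := DFunLike.congr_fun hDo n
      simp only [MonoidHom.pow_apply, MonoidHom.one_apply] at this
      simp only [hν, MonoidHom.pow_apply, MonoidHom.mul_apply]
      calc (D n * (D n ^ j * f n) ^ charDegree (θ : N → ℂ)) ^ u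
          = D n ^ ((1 + charDegree (θ : N → ℂ) * j) * u) * f n ^ (charDegree (θ : N → ℂ) * u) := by
            simp only [mul_pow, ← pow_mul, ← mul_assoc, add_mul, one_mul, pow_add]
            ring_nf
        _ = _ := by rw [this, one_mul]
    have hndu : ¬ s ∣ charDegree (θ : N → ℂ) * u := fun e =>
      (hs.dvd_mul.1 e).elim hsd hsu
    have hord : orderOf ((D * ν ^ charDegree (θ : N → ℂ)) ^ u) = s := by
      rw [hpow, Nat.Coprime.orderOf_pow (hf ▸ hs.coprime_iff_not_dvd.2 hndu), hf]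
    have hw := wgt_dvd hN hNG hχ' hD' hs hord
    rw [hpow, wgt_pow hs hf hndu] at hw
    refine ⟨⟨_, mem_rel_of_over hθ'1 hχ'⟩, hw, reach_of_common a.2 _ (show 1 < charDegree
      (θ : N → ℂ) by omega) hdd (hdeq ▸ degree_dvd hN hNG hχ') (pos_of_mem_rel a.2)⟩

/-- Characters of different prime orders have the same component. -/
theorem exists_vertex_two (hN : N.Normal) (hNG : N ≤ commutator G) {f f' : N →* ℂˣ} {r s : ℕ}
    (hr : r.Prime) (hs : s.Prime) (hrs : r ≠ s) (hf : orderOf f = r) (hf' : orderOf f' = s) :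
    ∃ b : relCharDegrees N, wgt hN f ∣ (b : ℕ) ∧ wgt hN f' ∣ (b : ℕ) := by
  classical
  have hfs : (f * f') ^ s = f ^ s := (mul_pow f f' s).trans (by
    refine MonoidHom.ext fun n => ?_
    have := DFunLike.congr_fun (hf' ▸ pow_orderOf_eq_one f' : f' ^ s = 1) n
    simp only [MonoidHom.pow_apply, MonoidHom.one_apply] at this
    simp [this])
  have hfr : (f * f') ^ r = f' ^ r := (mul_pow f f' r).trans (by
    refine MonoidHom.ext fun n => ?_
    have := DFunLike.congr_fun (hf ▸ pow_orderOf_eq_one f : f ^ r = 1) n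
    simp only [MonoidHom.pow_apply, MonoidHom.one_apply] at this
    simp [this])
  have h1 : ¬ r ∣ s := fun e => hrs ((Nat.prime_dvd_prime_iff_eq hr hs).1 e)
  have h2 : ¬ s ∣ r := fun e => hrs ((Nat.prime_dvd_prime_iff_eq hs hr).1 e).symm
  have ho1 : orderOf ((f * f') ^ s) = r := by
    rw [hfs, Nat.Coprime.orderOf_pow (hf ▸ hr.coprime_iff_not_dvd.2 h1), hf]
  have ho2 : orderOf ((f * f') ^ r) = s := by
    rw [hfr, Nat.Coprime.orderOf_pow (hf' ▸ hs.coprime_iff_not_dvd.2 h2), hf']
  set θ : IrrCharacter N := ⟨_, isIrrCharacter_of_hom (f * f')⟩ with hθ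
  have hθ1 : (θ : N → ℂ) ≠ fun _ => 1 := by
    intro e
    have : f * f' = 1 := MonoidHom.ext fun n => Units.ext (congrFun e n)
    rw [this, one_pow (M := N →* ℂˣ), orderOf_one] at ho1
    exact hr.one_lt.ne ho1
  obtain ⟨χ, hχ⟩ := exists_over θ
  refine ⟨⟨_, mem_rel_of_over hθ1 hχ⟩, ?_, ?_⟩
  · have := wgt_dvd hN hNG hχ (detChar_hom (f * f')) hr ho1
    rwa [hfs, wgt_pow hr hf h1] at this
  · have := wgt_dvd hN hNG hχ (detChar_hom (f * f')) hs ho2
    rwa [hfr, wgt_pow hs hf' h2] at this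

theorem InComp.transfer {hN : N.Normal} (hNG : N ≤ commutator G) {a : relCharDegrees N}
    {f f' : N →* ℂˣ} {r s : ℕ} (hr : r.Prime) (hs : s.Prime) (hrs : r ≠ s) (hf : orderOf f = r)
    (hf' : orderOf f' = s) (h : InComp hN a f) : InComp hN a f' := by
  obtain ⟨b, hb, hab⟩ := h
  obtain ⟨c, hc, hc'⟩ := exists_vertex_two hN hNG hr hs hrs hf hf'
  exact ⟨c, hc', hab.trans (reach_of_common b.2 c.2 (one_lt_wgt hr hf) hb hc (pos_of_mem_rel b.2))⟩

/-- Two degrees, neither divisible by all primes of `|N : N'|`, are joined. -/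
theorem reach_of_not_all (hN : N.Normal) (hNG : N ≤ commutator G) (a a' : relCharDegrees N)
    {s s' : ℕ} (hs : s.Prime) (hsm : s ∣ (⁅N, N⁆).relIndex N) (hsa : ¬ s ∣ (a : ℕ))
    (hs' : s'.Prime) (hsm' : s' ∣ (⁅N, N⁆).relIndex N) (hsa' : ¬ s' ∣ (a' : ℕ)) :
    (commonDivisorGraph.induce (relCharDegrees N)).Reachable a a' := by
  classical
  by_cases htwo : ∃ r₁, r₁.Prime ∧ r₁ ∣ (⁅N, N⁆).relIndex N ∧ r₁ ≠ s
  · obtain ⟨r₁, hr₁, hrm, hr₁s⟩ := htwo
    obtain ⟨f₀, hf₀⟩ := exists_lin_order hN hs hsm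
    obtain ⟨f₁, hf₁⟩ := exists_lin_order hN hr₁ hrm
    have hto : ∀ (b : relCharDegrees N) (r : ℕ) (f : N →* ℂˣ), r.Prime → orderOf f = r →
        InComp hN b f → InComp hN b f₀ := by
      intro b r f hr hf h
      by_cases hrs : r = s
      · exact ((h.transfer hNG hr hr₁ (hrs ▸ hr₁s.symm) hf hf₁).transfer hNG hr₁ hs hr₁s hf₁ hf₀)
      · exact h.transfer hNG hr hs hrs hf hf₀
    have hall : ∀ (b : relCharDegrees N) (t : ℕ), t.Prime → t ∣ (⁅N, N⁆).relIndex N →
        ¬ t ∣ (b : ℕ) → InComp hN b f₀ := by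
      intro b t ht htm htb
      rcases inComp_cases hN hNG b ht htb with ⟨r, f, hr, hf, hw⟩ | h
      · exact hto b r f hr hf ⟨b, hw, SimpleGraph.Reachable.refl _⟩
      · obtain ⟨f, hf⟩ := exists_lin_order hN ht htm
        exact hto b t f ht hf (h f hf)
    exact (hall a s hs hsm hsa).reach hs hf₀ (hall a' s' hs' hsm' hsa')
  push Not at htwo
  obtain rfl : s' = s := htwo s' hs' hsm'
  rcases inComp_cases hN hNG a hs hsa with ⟨r, f, hr, hf, hw⟩ | h
  · obtain rfl : r = s' := htwo r hr (prime_dvd_relIndex hf)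
    rcases inComp_cases hN hNG a' hs hsa' with ⟨r', f', hr', hf', hw'⟩ | h'
    · obtain rfl : r' = r := htwo r' hr' (prime_dvd_relIndex hf')
      have hidx : ∀ {k : N →* ℂˣ} {c : ℕ}, orderOf k = r' → wgt hN k ∣ c → ¬ r' ∣ c →
          (stab hN k).index ∣ c ∧ 1 < (stab hN k).index ∧ ¬ r' ∣ (stab hN k).index := by
        intro k c hk hkc hc
        rw [wgt] at hkc
        split_ifs at hkc with hk1
        · exact absurd (hk ▸ hkc) hc
        · have := Subgroup.index_ne_zero_of_finite (H := stab hN k)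
          exact ⟨hkc, by omega, fun e => hc (e.trans hkc)⟩
      obtain ⟨hn, hn1, hnr⟩ := hidx hf hw hsa
      obtain ⟨hn', hn1', hnr'⟩ := hidx hf' hw' hsa'
      by_cases hcop : (stab hN f).index.Coprime (stab hN f').index
      swap
      · obtain ⟨q, hq, hq1, hq2⟩ := Nat.Prime.not_coprime_iff_dvd.1 hcop
        exact reach_of_common a.2 a'.2 hq.one_lt (hq1.trans hn) (hq2.trans hn')
          (pos_of_mem_rel a.2)
      have hfr : f ^ r' = 1 := hf ▸ pow_orderOf_eq_one f
      have hfr' : f' ^ r' = 1 := hf' ▸ pow_orderOf_eq_one f'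
      have g1 := exists_gcd_ne_one hN hs hfr' hfr hn1 hcop hnr'
      have g2 := exists_gcd_ne_one hN hs hfr hfr' hn1' hcop.symm hnr
      rw [show f' * f = f * f' from mul_comm f' f] at g2
      set n₃ := (stab hN (f * f')).index with hn₃
      have hne1 : n₃ ≠ 1 := fun e => g1 (by rw [e]; exact Nat.coprime_one_left _)
      set θ : IrrCharacter N := ⟨_, isIrrCharacter_of_hom (f * f')⟩ with hθ
      have hne : f * f' ≠ 1 := fun e => hne1 (by
        rw [hn₃, e, Subgroup.index_eq_one, eq_top_iff]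
        intro g _; rw [mem_stab]; exact MonoidHom.one_comp _)
      have hθ1 : (θ : N → ℂ) ≠ fun _ => 1 := fun e =>
        hne (MonoidHom.ext fun n => Units.ext (congrFun e n))
      obtain ⟨χ, hχ⟩ := exists_over θ
      have hord : orderOf ((f * f') ^ 1) = r' := by
        rw [pow_one]
        haveI := Fact.mk hs
        refine orderOf_eq_prime ((mul_pow f f' r').trans ?_) hne
        rw [hfr, hfr']
        exact one_mul (M := N →* ℂˣ) 1
      have hwd := wgt_dvd hN hNG hχ (detChar_hom (f * f')) hs hord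
      rw [pow_one (f * f'), wgt, if_neg hne1] at hwd
      have hmem := mem_rel_of_over hθ1 hχ
      obtain ⟨q, hq, hq3, hq1⟩ := Nat.Prime.not_coprime_iff_dvd.1 g1
      obtain ⟨q', hq', hq3', hq2⟩ := Nat.Prime.not_coprime_iff_dvd.1 g2
      exact (reach_of_common a.2 hmem hq.one_lt (hq1.trans hn) (hq3.trans hwd)
        (pos_of_mem_rel a.2)).trans (reach_of_common hmem a'.2 hq'.one_lt (hq3'.trans hwd)
        (hq2.trans hn') (pos_of_mem_rel hmem))
    · exact InComp.reach hs hf ⟨a, hw, SimpleGraph.Reachable.refl _⟩ (h' f hf)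
  · rcases inComp_cases hN hNG a' hs hsa' with ⟨r', f', hr', hf', hw'⟩ | h'
    · obtain rfl : r' = s' := htwo r' hr' (prime_dvd_relIndex hf')
      exact InComp.reach hs hf' (h f' hf') ⟨a', hw', SimpleGraph.Reachable.refl _⟩
    · obtain ⟨f, hf⟩ := exists_lin_order hN hs hsm
      exact InComp.reach hs hf (h f hf) (h' f hf)

/-- The common-divisor graph on `cd(G | N)`. -/
theorem main (hN : N.Normal) (hNG : N ≤ commutator G) (hN' : ⁅N, N⁆ < N) :
    Nat.card (commonDivisorGraph.induce (relCharDegrees N)).ConnectedComponent ≤ 2 ∧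
      ∀ (a b : ℕ) (ha : a ∈ relCharDegrees N) (hb : b ∈ relCharDegrees N),
        ¬ (commonDivisorGraph.induce (relCharDegrees N)).Reachable ⟨a, ha⟩ ⟨b, hb⟩ →
        (Nat.Coprime a ((⁅N, N⁆).relIndex N) ∧
            ∀ r : ℕ, r.Prime → r ∣ (⁅N, N⁆).relIndex N → r ∣ b) ∨
          (Nat.Coprime b ((⁅N, N⁆).relIndex N) ∧
            ∀ r : ℕ, r.Prime → r ∣ (⁅N, N⁆).relIndex N → r ∣ a) := by
  classical
  set m := (⁅N, N⁆).relIndex N with hm
  have hm1 : m ≠ 1 := fun e => hN'.not_ge (Subgroup.relIndex_eq_one.1 e)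
  obtain ⟨r₀, hr₀, hr₀m⟩ := Nat.exists_prime_and_dvd hm1
  set All := fun a : ℕ => ∀ r : ℕ, r.Prime → r ∣ m → r ∣ a with hAll
  have hboth : ∀ a b : relCharDegrees N, All a → All b →
      (commonDivisorGraph.induce (relCharDegrees N)).Reachable a b := fun a b ha hb =>
    reach_of_common a.2 b.2 hr₀.one_lt (ha r₀ hr₀ hr₀m) (hb r₀ hr₀ hr₀m) (pos_of_mem_rel a.2)
  have hnone : ∀ a b : relCharDegrees N, ¬ All a → ¬ All b →
      (commonDivisorGraph.induce (relCharDegrees N)).Reachable a b := by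
    intro a b ha hb
    simp only [hAll, not_forall] at ha hb
    obtain ⟨s, hs, hsm, hsa⟩ := ha
    obtain ⟨t, ht, htm, htb⟩ := hb
    exact reach_of_not_all hN hNG a b hs hsm hsa ht htm htb
  refine ⟨?_, ?_⟩
  · let Φ : (commonDivisorGraph.induce (relCharDegrees N)).ConnectedComponent → Bool :=
      fun c => decide (All (c.out : ℕ))
    refine (Nat.card_le_card_of_injective Φ ?_).trans (by simp)
    intro c d hcd
    rw [← c.out_eq, ← d.out_eq]
    refine SimpleGraph.ConnectedComponent.sound ?_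
    by_cases hc : All (c.out : ℕ)
    · exact hboth _ _ hc (of_decide_eq_true (hcd.symm.trans (decide_eq_true hc)))
    · exact hnone _ _ hc (of_decide_eq_false (hcd.symm.trans (decide_eq_false hc)))
  · intro a b ha hb hnr
    have key : ∀ (a b : relCharDegrees N),
        ¬ (commonDivisorGraph.induce (relCharDegrees N)).Reachable a b → All a → ¬ All b →
        Nat.Coprime (b : ℕ) m ∧ All a := by
      intro a b hnr hA hB
      refine ⟨by_contra fun hc => hnr ?_, hA⟩
      obtain ⟨q, hq, hqb, hqm⟩ := Nat.Prime.not_coprime_iff_dvd.1 hc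
      exact reach_of_common a.2 b.2 hq.one_lt (hA q hq hqm) hqb (pos_of_mem_rel a.2)
    by_cases hA : All a
    · by_cases hB : All b
      · exact absurd (hboth ⟨a, ha⟩ ⟨b, hb⟩ hA hB) hnr
      · exact Or.inr (key ⟨a, ha⟩ ⟨b, hb⟩ hnr hA hB)
    · by_cases hB : All b
      · exact Or.inl (key ⟨b, hb⟩ ⟨a, ha⟩ (fun h => hnr h.symm) hB hA)
      · exact absurd (hnone ⟨a, ha⟩ ⟨b, hb⟩ hA hB) hnr

end CfsgLib.Structure81.RelDegree
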