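import Mathlib

/-!
A finite group is not the union of the conjugates of a proper subgroup.
-/

set_option autoImplicit false
set_option linter.style.haveILetI false

namespace CfsgLib.ConjCover

/-- If every element of a finite group has a conjugate in `H`, then `H` is the whole group. -/
theorem eq_top_of_conj_cover {G : Type*} [Group G] [Finite G] (H : Subgroup G)
    (h : ∀ g : G, ∃ x : G, x * g * x⁻¹ ∈ H) : H = ⊤ := by
  classical
  by_contra hne
  haveI := Fintype.ofFinite G
  haveI : Fintype (G ⧸ H) := Fintype.ofFinite _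
  haveI : Fintype (MulAction.orbitRel.Quotient G (G ⧸ H)) := Fintype.ofFinite _
  have hone : Fintype.card (MulAction.orbitRel.Quotient G (G ⧸ H)) = 1 := by
    rw [Fintype.card_eq_one_iff]
    refine ⟨Quotient.mk'' ((1 : G) : G ⧸ H), fun q => ?_⟩
    induction q using Quotient.inductionOn' with | _ x => ?_
    exact Quotient.sound' (MulAction.exists_smul_eq G _ _)
  have hsum := MulAction.sum_card_fixedBy_eq_card_orbits_mul_card_group G (G ⧸ H)
  rw [hone, one_mul] at hsum
  have hpos : ∀ g : G, 1 ≤ Fintype.card (MulAction.fixedBy (G ⧸ H) g) := by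
    intro g
    obtain ⟨x, hx⟩ := h g
    refine Fintype.card_pos_iff.2 ⟨⟨((x⁻¹ : G) : G ⧸ H), ?_⟩⟩
    show ((g * x⁻¹ : G) : G ⧸ H) = ((x⁻¹ : G) : G ⧸ H)
    rw [QuotientGroup.eq]
    have := H.inv_mem hx
    simpa [mul_assoc] using this
  have hlt : ∑ _g : G, 1 < ∑ g : G, Fintype.card (MulAction.fixedBy (G ⧸ H) g) := by
    refine Finset.sum_lt_sum (fun g _ => hpos g) ⟨1, Finset.mem_univ 1, ?_⟩
    rw [Fintype.one_lt_card_iff]
    obtain ⟨y, hy⟩ : ∃ y : G, y ∉ H := by
      by_contra hc
      push Not at hc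
      exact hne ((Subgroup.eq_top_iff' H).2 hc)
    refine ⟨⟨((1 : G) : G ⧸ H), by simp⟩, ⟨((y : G) : G ⧸ H), by simp⟩, fun e => hy ?_⟩
    have := QuotientGroup.eq.1 (congrArg Subtype.val e)
    simpa using this
  simp only [Finset.sum_const, Finset.card_univ, smul_eq_mul, mul_one] at hlt
  omega

end CfsgLib.ConjCover
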