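import Cfsg.Agent.Lib.Structure81.FourClassSizesCommute
import Cfsg.Agent.Lib.Structure81.ConjCover
import Cfsg.Agent.Lib.Components.Local
import Cfsg.Agent.S4035
import Cfsg.Agent.S4134

/-!
# Class sizes `1, n, m, n m` with `n`, `m` coprime: nilpotency

A finite group whose class sizes are `1, n, m, n * m`, `n, m > 1` coprime, is nilpotent and `n`, `m`
are prime powers.
-/

set_option autoImplicit false
set_option linter.style.haveILetI false

namespace CfsgLib.Structure81.CoprimeClass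

open Subgroup

variable {G : Type*} [Group G] [Finite G]

theorem relIndex_eq_relIndex_sup (N : Subgroup G) [N.Normal] (H : Subgroup G) :
    H.relIndex N = H.relIndex (H ⊔ N) := by
  have h2 : (N ⊓ H).relIndex N * N.relIndex (H ⊔ N) = (N ⊓ H).relIndex (H ⊔ N) :=
    relIndex_mul_relIndex _ _ _ inf_le_left le_sup_right
  have h3 : (N ⊓ H).relIndex H * H.relIndex (H ⊔ N) = (N ⊓ H).relIndex (H ⊔ N) :=
    relIndex_mul_relIndex _ _ _ inf_le_right le_sup_left
  rw [← h3, inf_relIndex_left, inf_relIndex_right, relIndex_sup_right, mul_comm] at h2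
  exact Nat.eq_of_mul_eq_mul_left (Nat.pos_of_ne_zero
    (index_ne_zero_of_finite : (N.subgroupOf H).index ≠ 0)) h2

theorem mem_sylow_of_central {p : ℕ} [Fact p.Prime] {j : ℕ} {z : G} (hzp : z ^ p ^ j = 1)
    (hz : z ∈ center G) (S : Sylow p G) : z ∈ (S : Subgroup G) := by
  have hnorm : (S : Subgroup G) ≤ normalizer (zpowers z : Set G) := by
    refine le_trans ?_ (centralizer_le_normalizer _)
    intro t _
    rw [mem_centralizer_iff]
    rintro _ ⟨l, rfl⟩
    exact (mem_center_iff.1 (zpow_mem hz l) t).symm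
  exact S.is_maximal' (IsPGroup.to_sup_of_normal_left' (isPGroup_zpowers Fact.out hzp) S.isPGroup'
    hnorm) le_sup_right ▸ (le_sup_left : zpowers z ≤ zpowers z ⊔ S) (mem_zpowers z)

/-- Conjugates of a central `p`-element of a subgroup of `p'`-index meet every Sylow subgroup
centrally. -/
theorem exists_conj_central {p : ℕ} [Fact p.Prime] {D : Subgroup G} (hD : ¬ p ∣ D.index) {z : G}
    {j : ℕ} (hzp : z ^ p ^ j = 1) (hzD : z ∈ D) (hz : ∀ d ∈ D, Commute d z) (S : Sylow p G) :
    ∃ t : G, t * z * t⁻¹ ∈ (S : Subgroup G) ∧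
      ∀ s ∈ (S : Subgroup G), Commute s (t * z * t⁻¹) := by
  obtain ⟨S0⟩ := (inferInstance : Nonempty (Sylow p D))
  have hcard : Nat.card ((S0 : Subgroup D).map D.subtype) =
      p ^ (Nat.card G).factorization p := by
    rw [card_map_of_injective D.subtype_injective, S0.card_eq_multiplicity]
    congr 1
    rw [← D.card_mul_index, Nat.factorization_mul Nat.card_pos.ne' index_ne_zero_of_finite,
      Finsupp.add_apply, Nat.factorization_eq_zero_of_not_dvd hD, add_zero]
  have hz0 : (⟨z, hzD⟩ : D) ∈ (S0 : Subgroup D) :=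
    mem_sylow_of_central (j := j) (Subtype.ext (by simpa using hzp))
      (mem_center_iff.2 fun d => Subtype.ext (hz d d.2).eq) S0
  let S' : Sylow p G := Sylow.ofCard _ hcard
  obtain ⟨t, ht⟩ := MulAction.exists_smul_eq G S' S
  refine ⟨t, ?_, fun s hs => ?_⟩
  · rw [← ht, Sylow.coe_subgroup_smul]
    refine mem_pointwise_smul_iff_inv_smul_mem.2 ?_
    have e : (MulAut.conj t)⁻¹ • (t * z * t⁻¹) = z := by simp [MulAut.smul_def, mul_assoc]
    rw [e]
    exact ⟨_, hz0, rfl⟩
  · rw [← ht, Sylow.coe_subgroup_smul, mem_pointwise_smul_iff_inv_smul_mem] at hs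
    have h2 : t⁻¹ * s * t ∈ (S0 : Subgroup D).map D.subtype := by
      simpa [S', MulAut.smul_def, mul_assoc] using hs
    have h3 := (hz _ (map_subtype_le _ h2)).map (MulAut.conj t).toMonoidHom
    simpa [mul_assoc] using h3

/-- A `p`-element of a subgroup `C ≤ T` of full `p`-order lies in a Sylow subgroup of `T` inside
`C`. -/
theorem exists_sylow_le {p : ℕ} [Fact p.Prime] {T C : Subgroup G}
    (hfac : (Nat.card C).factorization p = (Nat.card T).factorization p)
    (hCT : ∀ c ∈ C, ∀ k : ℕ, c ^ p ^ k = 1 → c ∈ T) {a : G} {k : ℕ} (ha : a ^ p ^ k = 1)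
    (haC : a ∈ C) :
    ∃ S : Sylow p T, (∃ s ∈ (S : Subgroup T), (s : G) = a) ∧
      ∀ s ∈ (S : Subgroup T), (s : G) ∈ C := by
  obtain ⟨W, hW⟩ := (isPGroup_zpowers (z := (⟨a, haC⟩ : C)) Fact.out
    (Subtype.ext (by simpa using ha) : (⟨a, haC⟩ : C) ^ p ^ k = 1)).exists_le_sylow
  set W0 := (W : Subgroup C).map C.subtype with hW0
  have hW0T : W0 ≤ T := by
    rintro _ ⟨c, hc, rfl⟩
    obtain ⟨l, hl⟩ := W.isPGroup' ⟨c, hc⟩
    exact hCT c c.2 l (by simpa using congrArg (fun t : (W : Subgroup C) => ((t : C) : G)) hl)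
  have hcard : Nat.card (W0.subgroupOf T) = p ^ (Nat.card T).factorization p := by
    rw [Nat.card_congr (subgroupOfEquivOfLe hW0T).toEquiv, hW0,
      card_map_of_injective C.subtype_injective, W.card_eq_multiplicity, hfac]
  have haW : a ∈ W0 := ⟨⟨a, haC⟩, hW (mem_zpowers _), rfl⟩
  refine ⟨Sylow.ofCard _ hcard, ⟨⟨a, hW0T haW⟩, ?_, rfl⟩, fun s hs => ?_⟩
  · simpa [mem_subgroupOf] using haW
  · have : (s : G) ∈ W0 := by simpa [mem_subgroupOf] using hs
    exact map_subtype_le _ this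

variable {n m : ℕ}

namespace Four

/-- The prime of a prime power element of class size `n` divides `n`. -/
theorem prime_dvd (h : Four G n m) {u : G} {p j : ℕ} (hp : p.Prime) (hu : u ^ p ^ j = 1)
    (hun : idx u = n) : p ∣ n := by
  by_contra hpn
  haveI := Fact.mk hp
  obtain ⟨v, hv⟩ := h.exm
  set T := cen v with hT
  have huv : Commute u v := h.commute hun hv
  set D := (cen u).subgroupOf T with hD
  have hrelT : ∀ g : G, idx g = n → ((cen g).subgroupOf T).index = n := by
    intro g hg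
    show (cen g).relIndex T = n
    have hcop : (cen g).index.Coprime T.index := by
      rw [show (cen g).index = n from hg, show T.index = m from hv]; exact h.cop
    have h1 : (cen g ⊓ T).relIndex T * T.index = (cen g ⊓ T).index :=
      relIndex_mul_index inf_le_right
    rw [inf_relIndex_right, index_inf_eq hcop, show (cen g).index = n from hg,
      show T.index = m from hv] at h1
    exact Nat.eq_of_mul_eq_mul_right (by have := h.hm; omega) h1
  have hDidx : D.index = n := hrelT u hun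
  have hcover : D = ⊤ := by
    refine CfsgLib.ConjCover.eq_top_of_conj_cover D fun g => ?_
    obtain ⟨k, c, hc, hgc⟩ : ∃ k c : ℕ, ¬ p ∣ c ∧ orderOf (g : G) = p ^ k * c :=
      ⟨(orderOf (g : G)).factorization p, orderOf (g : G) / p ^ (orderOf (g : G)).factorization p,
        Nat.not_dvd_ordCompl hp (orderOf_pos (g : G)).ne',
        (Nat.ordProj_mul_ordCompl_eq_self (orderOf (g : G)) p).symm⟩
    set a := (g : G) ^ c with ha
    set b := (g : G) ^ p ^ k with hb
    have hap : a ^ p ^ k = 1 := by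
      rw [ha, ← pow_mul, mul_comm, ← hgc, pow_orderOf_eq_one]
    have hbp : ¬ p ∣ orderOf b := by
      rw [hb, orderOf_pow_of_dvd (pow_pos hp.pos k).ne' (hgc ▸ dvd_mul_right _ _), hgc,
        Nat.mul_div_cancel_left _ (pow_pos hp.pos k)]
      exact hc
    have hab : Commute a b := (Commute.refl (g : G)).pow_pow c (p ^ k)
    have haT : a ∈ T := pow_mem g.2 c
    have hbT : b ∈ T := pow_mem g.2 (p ^ k)
    -- it suffices to find a conjugate of `u` commuting with `a` and `b`
    suffices ∃ t : T, Commute a ((t : G) * u * (t : G)⁻¹) ∧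
        Commute b ((t : G) * u * (t : G)⁻¹) by
      obtain ⟨t, h1, h2⟩ := this
      refine ⟨t⁻¹, ?_⟩
      have h3 : (g : G) ∈ cen ((t : G) * u * (t : G)⁻¹) :=
        mem_of_coprime_pow ((hp.coprime_iff_not_dvd.2 hc).pow_left k).symm (mem_cen.2 h1)
          (mem_cen.2 h2)
      rw [hD, mem_subgroupOf, mem_cen]
      have h4 := (mem_cen.1 h3).map (MulAut.conj (t : G)⁻¹).toMonoidHom
      simpa [mul_assoc] using h4
    have hzD : (⟨u, mem_cen.2 huv⟩ : T) ∈ D := by
      rw [hD, mem_subgroupOf]; exact mem_cen.2 (Commute.refl u)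
    have main : ∀ S : Sylow p T, (∃ s ∈ (S : Subgroup T), (s : G) = a) →
        ((∀ s ∈ (S : Subgroup T), (s : G) ∈ cen b) ∨ ∀ t : G, Commute b (t * u * t⁻¹)) →
        ∃ t : T, Commute a ((t : G) * u * (t : G)⁻¹) ∧ Commute b ((t : G) * u * (t : G)⁻¹) := by
      intro S hSa hSb
      obtain ⟨t, htS, htc⟩ := exists_conj_central (D := D) (by rw [hDidx]; exact hpn)
        (z := (⟨u, mem_cen.2 huv⟩ : T)) (j := j) (Subtype.ext (by simpa using hu)) hzD
        (fun d hd => Subtype.ext (mem_cen.1 (mem_subgroupOf.1 hd)).eq) S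
      obtain ⟨s, hs, hsa⟩ := hSa
      refine ⟨t, ?_, ?_⟩
      · have h1 := (htc s hs).map T.subtype
        rw [← hsa]
        simpa using h1
      · rcases hSb with hSb | hSb
        · have h1 := hSb _ htS
          exact (mem_cen.1 (by simpa using h1 : (t : G) * u * (t : G)⁻¹ ∈ cen b)).symm
        · exact hSb t
    obtain ⟨S₁, hS₁⟩ := (isPGroup_zpowers (z := (⟨a, haT⟩ : T)) hp
      (Subtype.ext (by simpa using hap) : (⟨a, haT⟩ : T) ^ p ^ k = 1)).exists_le_sylow
    have hS₁a : ∃ s ∈ (S₁ : Subgroup T), (s : G) = a := ⟨_, hS₁ (mem_zpowers _), rfl⟩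
    rcases h.sizes b with h1 | h1 | h1 | h1
    · exact main S₁ hS₁a (Or.inr fun t => (mem_center_iff.1 (idx_eq_one_iff.1 h1) _).symm)
    · -- class size `n`
      have hcop : (cen b).index.Coprime T.index := by
        rw [show (cen b).index = n from h1, show T.index = m from hv]; exact h.cop
      have hfac : (Nat.card (cen b ⊓ T : Subgroup G)).factorization p =
          (Nat.card T).factorization p := by
        have h2 := (cen b ⊓ T).card_mul_index
        have h3 := T.card_mul_index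
        rw [index_inf_eq hcop, show (cen b).index = n from h1, show T.index = m from hv] at h2
        rw [show T.index = m from hv, ← h2, ← mul_assoc] at h3
        have h4 := Nat.eq_of_mul_eq_mul_right (by have := h.hm; omega) h3
        rw [h4, Nat.factorization_mul Nat.card_pos.ne' (by have := h.hn; omega), Finsupp.add_apply,
          Nat.factorization_eq_zero_of_not_dvd hpn, add_zero]
      obtain ⟨S, hSa, hSb⟩ := exists_sylow_le hfac (fun c hc _ _ => hc.2) hap
        ⟨mem_cen.2 hab, haT⟩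
      exact main S hSa (Or.inl fun s hs => (hSb s hs).1)
    · refine main S₁ hS₁a (Or.inr fun t => (h.commute ?_ h1).symm)
      rw [idx_conj, hun]
    · -- class size `n * m`
      have hfac : (Nat.card (cen b)).factorization p = (Nat.card T).factorization p := by
        have h2 := (cen b).card_mul_index
        have h3 := T.card_mul_index
        rw [show (cen b).index = n * m from h1] at h2
        rw [show T.index = m from hv, ← h2, ← mul_assoc] at h3
        have h4 := Nat.eq_of_mul_eq_mul_right (by have := h.hm; omega) h3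
        rw [h4, Nat.factorization_mul Nat.card_pos.ne' (by have := h.hn; omega), Finsupp.add_apply,
          Nat.factorization_eq_zero_of_not_dvd hpn, add_zero]
      obtain ⟨S, hSa, hSb⟩ := exists_sylow_le hfac (fun c hc l hl => by
        have h2 := h.cen_le_of_nm (mem_cen.1 hc).symm (coprime_orderOf hp hl hbp).symm h1
        exact mem_cen.2 (mem_cen.1 (h2 (mem_cen.2 (mem_cen.1 hbT).symm))).symm) hap (mem_cen.2 hab)
      exact main S hSa (Or.inl fun s hs => hSb s hs)
  rw [hcover, index_top] at hDidx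
  have := h.hn
  omega

/-- The centralizer of a `q`-element `v` of class size `m`. -/
theorem cen_structure (h : Four G n m) {u v : G} {p q j i : ℕ} [Fact p.Prime] [Fact q.Prime]
    (hu : u ^ p ^ j = 1) (hun : idx u = n) (hv : v ^ q ^ i = 1) (hvm : idx v = m) :
    (∃ a : ℕ, n = p ^ a) ∧
    (∀ x ∈ cen v, ∀ k : ℕ, x ^ p ^ k = 1 → ∀ y ∈ cen v, ∀ l : ℕ, y ^ q ^ l = 1 → Commute x y) ∧
    (∃ P : Subgroup G, IsPGroup p P ∧ P ≤ cen v ∧
      ∀ x ∈ cen v, ∀ k : ℕ, x ^ p ^ k = 1 → x ∈ P) ∧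
    (∀ x ∈ cen v, ∀ l k : ℕ, l.Prime → l ≠ p → l ≠ q → x ^ l ^ k = 1 → cen v ≤ cen x) := by
  have hp : p.Prime := Fact.out
  have hq : q.Prime := Fact.out
  have hpn := h.prime_dvd hp hu hun
  have hqm := h.symm.prime_dvd hq hv hvm
  have hqn : ¬ q ∣ n := fun hd => hq.not_dvd_one (h.cop ▸ Nat.dvd_gcd hd hqm)
  have hpq : p ≠ q := fun e => hqn (e ▸ hpn)
  set T := cen v with hT
  have huT : u ∈ T := mem_cen.2 (h.commute hun hvm)
  have hcenT : ∀ x : T, cen x = (cen (x : G)).subgroupOf T := by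
    intro x
    ext y
    rw [mem_subgroupOf, mem_cen, mem_cen]
    exact ⟨fun h1 => congrArg Subtype.val h1.eq, fun h1 => Subtype.ext h1.eq⟩
  have hclass : ∀ x : T, ¬ q ∣ orderOf x → idx x = 1 ∨ idx x = n := by
    intro x hx
    have hxv : Commute (x : G) v := mem_cen.1 x.2
    have hmul := cen_mul hxv (coprime_orderOf hq hv (by rwa [Subgroup.orderOf_coe])).symm
    have h1 : (cen (x : G) ⊓ T).relIndex T * T.index = (cen (x : G) ⊓ T).index :=
      relIndex_mul_index inf_le_right
    rw [inf_relIndex_right, ← hmul, show T.index = m from hvm] at h1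
    have h2 : idx x * m = idx ((x : G) * v) := by
      rw [show idx x = (cen (x : G)).relIndex T by rw [idx, hcenT]; rfl]; exact h1
    rcases h.symm.eq_or_nm_of_dvd (h2 ▸ dvd_mul_left m _) with h3 | h3
    · left
      rw [h3] at h2
      exact Nat.eq_of_mul_eq_mul_right (by have := h.hm; omega) (h2.trans (one_mul m).symm)
    · right
      rw [h3, mul_comm m n] at h2
      exact Nat.eq_of_mul_eq_mul_right (by have := h.hm; omega) h2
  have hcarrier : ∀ x : T, (ConjClasses.mk x).carrier.ncard = idx x := by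
    intro x
    rw [← card_clas x, ← Nat.card_coe_set_eq]
    congr 2
    ext y
    rw [ConjClasses.mem_carrier_iff_mk_eq, ConjClasses.mk_eq_mk_iff_isConj, isConj_comm,
      isConj_iff]
    rfl
  obtain ⟨Q⟩ := (inferInstance : Nonempty (Sylow q T))
  obtain ⟨hQn, H, hHn, hHq, hinf, hsup⟩ := Cfsg.Agent.S4035.result (p := q) (fun x hx => by
    rw [hcarrier]
    rcases hclass x ((hq.coprime_iff_not_dvd).1 hx.symm) with h1 | h1
    · rw [h1]; exact hq.not_dvd_one
    · rw [h1]; exact hqn) Q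
  haveI := hQn
  haveI := hHn
  have hQH : ∀ a ∈ (Q : Subgroup T), ∀ b ∈ H, Commute a b := fun a ha b hb =>
    commute_of_normal_of_disjoint _ _ hQn hHn (disjoint_iff.2 hinf) a b ha hb
  have hHidx : H.index ∣ Nat.card (Q : Subgroup T) := by
    have e : H.index = H.relIndex (Q : Subgroup T) := by
      rw [← relIndex_top_right, ← hsup]
      exact relIndex_sup_right _ _
    rw [e]
    exact relIndex_dvd_card _ _
  have hQcard : Nat.card (Q : Subgroup T) = q ^ (Nat.card T).factorization q :=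
    Q.card_eq_multiplicity
  have hmemH : ∀ x : T, ∀ r k : ℕ, r.Prime → r ≠ q → (x : G) ^ r ^ k = 1 → x ∈ H := by
    intro x r k hr hrq hx
    refine mem_of_coprime_pow (Nat.Coprime.coprime_dvd_right (hQcard ▸ hHidx)
      (Nat.Coprime.pow k _ ((Nat.coprime_primes hr hq).2 hrq))) ?_ (H.pow_index_mem x)
    rw [show x ^ r ^ k = 1 from Subtype.ext (by simpa using hx)]
    exact one_mem _
  have hmemQ : ∀ y : T, ∀ l : ℕ, (y : G) ^ q ^ l = 1 → y ∈ (Q : Subgroup T) := by
    intro y l hy
    exact Q.is_maximal' (IsPGroup.to_sup_of_normal_left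
      Q.isPGroup' (isPGroup_zpowers hq (Subtype.ext (by simpa using hy) : y ^ q ^ l = 1)))
      le_sup_left ▸ (le_sup_right : zpowers y ≤ (Q : Subgroup T) ⊔ zpowers y) (mem_zpowers y)
  have hidxH : ∀ x : H, idx x = idx (x : T) := by
    intro x
    have e1 : cen x = (cen (x : T)).subgroupOf H := by
      ext y
      rw [mem_subgroupOf, mem_cen, mem_cen]
      exact ⟨fun h1 => congrArg Subtype.val h1.eq, fun h1 => Subtype.ext h1.eq⟩
    have e2 : cen (x : T) ⊔ H = ⊤ := by
      rw [eq_top_iff, ← hsup]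
      exact sup_le_sup_right (fun a ha => mem_cen.2 (hQH a ha x x.2)) H
    rw [idx, e1]
    show (cen (x : T)).relIndex H = _
    rw [relIndex_eq_relIndex_sup, e2, relIndex_top_right]
  have huH : (⟨u, huT⟩ : T) ∈ H := hmemH _ p j hp hpq hu
  have huidx : idx (⟨⟨u, huT⟩, huH⟩ : H) = n := by
    rw [hidxH]
    have hord : ¬ q ∣ orderOf (⟨u, huT⟩ : T) := fun hd => hpq
      ((Nat.prime_dvd_prime_iff_eq hq hp).1 (hq.dvd_of_dvd_pow (hd.trans
        (orderOf_dvd_of_pow_eq_one (Subtype.ext (by simpa using hu) :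
          (⟨u, huT⟩ : T) ^ p ^ j = 1))))).symm
    rcases hclass (⟨u, huT⟩ : T) hord with h1 | h1
    · exfalso
      rw [idx, hcenT] at h1
      have h1' : (cen u).relIndex T = 1 := h1
      rw [relIndex_eq_one] at h1'
      have h2 : n ∣ m := hun ▸ hvm ▸ index_dvd_of_le h1'
      exact h.symm.not_dvd h2
    · exact h1
  obtain ⟨r, hr, a, hna, hPr⟩ := Cfsg.Agent.S4134.result (G := H) n h.hn (fun x => by
    show idx x = 1 ∨ idx x = n
    rw [hidxH]
    refine hclass x fun hd => hHq (hd.trans ?_)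
    rw [Subgroup.orderOf_coe]
    exact orderOf_dvd_natCard x) ⟨_, huidx⟩
  have hrp : r = p := ((Nat.prime_dvd_prime_iff_eq hp hr.out).1
    (hp.dvd_of_dvd_pow (hna ▸ hpn))).symm
  subst hrp
  obtain ⟨P⟩ := (inferInstance : Nonempty (Sylow r H))
  obtain ⟨hPn, ⟨N, hNn, hNc, hNab, hNP⟩, -⟩ := hPr P
  haveI := hPn
  have hmemP : ∀ x : H, ∀ k : ℕ, ((x : T) : G) ^ r ^ k = 1 → x ∈ (P : Subgroup H) := by
    intro x k hx
    exact P.is_maximal' (IsPGroup.to_sup_of_normal_left
      P.isPGroup' (isPGroup_zpowers hp (Subtype.ext (Subtype.ext (by simpa using hx)) :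
        x ^ r ^ k = 1))) le_sup_left ▸
      (le_sup_right : zpowers x ≤ (P : Subgroup H) ⊔ zpowers x) (mem_zpowers x)
  refine ⟨⟨a, hna⟩, ?_, ?_, ?_⟩
  · intro x hx k hxk y hy l hyl
    have := hQH _ (hmemQ ⟨y, hy⟩ l hyl) _ (hmemH ⟨x, hx⟩ r k hp hpq hxk)
    exact (congrArg Subtype.val this.eq).symm
  · refine ⟨((P : Subgroup H).map H.subtype).map T.subtype, (P.isPGroup'.map _).map _,
      map_subtype_le _, fun x hx k hxk => ?_⟩
    exact ⟨_, ⟨_, hmemP ⟨⟨x, hx⟩, hmemH _ r k hp hpq hxk⟩ k hxk, rfl⟩, rfl⟩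
  · intro x hx l k hl hlp hlq hxk
    set x' : H := ⟨⟨x, hx⟩, hmemH _ l k hl hlq hxk⟩
    have hxN : x' ∈ N := by
      haveI := hNn
      refine mem_of_coprime_pow (Nat.Coprime.coprime_dvd_right
        (dvd_of_eq (hNc.symm.index_eq_card.trans P.card_eq_multiplicity))
        (Nat.Coprime.pow k _ ((Nat.coprime_primes hl hp).2 hlp))) ?_ (N.pow_index_mem x')
      rw [show x' ^ l ^ k = 1 from Subtype.ext (Subtype.ext (by simpa [x'] using hxk))]
      exact one_mem _
    have hxH : ∀ y ∈ H, Commute (⟨x, hx⟩ : T) y := by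
      intro y hy
      have h1 : (⟨y, hy⟩ : H) ∈ N ⊔ (P : Subgroup H) := hNc.sup_eq_top ▸ mem_top _
      rw [← SetLike.mem_coe, mul_normal] at h1
      obtain ⟨b, hb, c, hc, e⟩ := h1
      have h2 : Commute x' b := congrArg Subtype.val
        (hNab.is_comm.comm (⟨x', hxN⟩ : N) ⟨b, hb⟩)
      have h3 : Commute x' c := hNP x' hxN c hc
      have := h2.mul_right h3
      simp only at e
      rw [e] at this
      exact congrArg Subtype.val this.eq
    intro y hy
    refine mem_cen.2 ?_
    have h1 : (⟨y, hy⟩ : T) ∈ (Q : Subgroup T) ⊔ H := hsup ▸ mem_top _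
    rw [← SetLike.mem_coe, mul_normal] at h1
    obtain ⟨b, hb, c, hc, e⟩ := h1
    have h2 : Commute (⟨x, hx⟩ : T) (b * c) :=
      (hQH b hb ⟨x, hx⟩ x'.2).symm.mul_right (hxH c hc)
    simp only at e
    rw [e] at h2
    exact (congrArg Subtype.val h2.eq).symm

/-- The Sylow `q`-subgroup is normal. -/
theorem sylow_normal (h : Four G n m) {u v : G} {p q j i : ℕ} [Fact p.Prime] [Fact q.Prime]
    (hu : u ^ p ^ j = 1) (hun : idx u = n) (hv : v ^ q ^ i = 1) (hvm : idx v = m)
    (S : Sylow q G) : (S : Subgroup G).Normal := by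
  obtain ⟨⟨a, hna⟩, -, ⟨P, hPp, -, hPall⟩, -⟩ := h.cen_structure hu hun hv hvm
  obtain ⟨-, hcomm, ⟨Q, hQq, hQE, hQall⟩, -⟩ := h.symm.cen_structure hv hvm hu hun
  have hq : q.Prime := Fact.out
  have hp : p.Prime := Fact.out
  have hpn := h.prime_dvd hp hu hun
  have hqm := h.symm.prime_dvd hq hv hvm
  have hqn : ¬ q ∣ n := fun hd => hq.not_dvd_one (h.cop ▸ Nat.dvd_gcd hd hqm)
  have hpq : p ≠ q := fun e => hqn (e ▸ hpn)
  set N := closure (clas u) with hN
  have hNn : N.Normal := ⟨fun x hx t => by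
    have : N ≤ N.comap (MulAut.conj t).toMonoidHom := by
      rw [hN, closure_le]
      rintro _ ⟨g, rfl⟩
      exact subset_closure ⟨t * g, by simp [mul_assoc]⟩
    exact this hx⟩
  have hNP : N ≤ P := by
    rw [hN, closure_le]
    rintro _ ⟨g, rfl⟩
    refine hPall _ (mem_cen.2 (h.commute ?_ hvm)) j (conj_pow_eq_one hu)
    rw [idx_conj, hun]
  have hu_pow : ∀ x ∈ P, ∃ k : ℕ, x ^ p ^ k = 1 := fun x hx => by
    obtain ⟨k, hk⟩ := hPp ⟨x, hx⟩
    exact ⟨k, by simpa using congrArg Subtype.val hk⟩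
  have huP : u ∈ P := hNP (subset_closure (mem_clas_self u))
  -- `q`-elements of `cen u` centralize `N`
  have hKey : ∀ z ∈ cen u, ∀ l : ℕ, z ^ q ^ l = 1 → z ∈ centralizer (N : Set G) := by
    intro z hz l hzl
    refine CfsgLib.Components.mem_centralizer_of_AxB (p := p) (P := P ⊓ cen u) (hPp.to_le hNP)
      (hPp.to_le inf_le_left) le_normalizer_of_normal
      (le_normalizer_of_normal (mem_top z : z ∈ (⊤ : Subgroup G))) ?_ ?_ ?_
    · rw [mem_centralizer_iff]
      rintro s ⟨hsP, hsE⟩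
      obtain ⟨k, hk⟩ := hu_pow s hsP
      exact (hcomm z hz l hzl s hsE k hk).eq.symm
    · exact Nat.Coprime.coprime_dvd_left (orderOf_dvd_of_pow_eq_one hzl)
        (Nat.Coprime.pow_left l ((Nat.coprime_primes hq hp).2 hpq.symm))
    · intro r hr hrc
      have hru : r ∈ cen u :=
        mem_cen.2 (mem_centralizer_iff.1 hrc u ⟨huP, mem_cen.2 (Commute.refl u)⟩).symm
      obtain ⟨k, hk⟩ := hu_pow r (hNP hr)
      exact (hcomm z hz l hzl r hru k hk).eq
  have hKE : centralizer (N : Set G) ≤ cen u := fun g hg =>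
    mem_cen.2 (mem_centralizer_iff.1 hg u (subset_closure (mem_clas_self u))).symm
  haveI := hNn
  have hQn : ∀ g z : G, z ∈ Q → g * z * g⁻¹ ∈ Q := by
    intro g z hz
    obtain ⟨l, hl⟩ := hQq ⟨z, hz⟩
    have hzl : z ^ q ^ l = 1 := by simpa using congrArg Subtype.val hl
    have h1 : g * z * g⁻¹ ∈ centralizer (N : Set G) :=
      (inferInstance : (centralizer (N : Set G)).Normal).conj_mem _ (hKey z (hQE hz) l hzl) g
    exact hQall _ (hKE h1) l (conj_pow_eq_one hzl)
  have hSQ : (S : Subgroup G) ≤ Q := by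
    intro s hs
    obtain ⟨l, hl⟩ := S.isPGroup' ⟨s, hs⟩
    have hsl : s ^ q ^ l = 1 := by simpa using congrArg Subtype.val hl
    obtain ⟨g, hg⟩ := exists_conj_mem (H := cen u) hq
      (by rw [show (cen u).index = n from hun]; exact hqn) hsl
    have h1 := hQn g⁻¹ _ (hQall _ hg l (conj_pow_eq_one hsl))
    simpa [mul_assoc] using h1
  rw [← S.is_maximal' hQq hSQ]
  exact ⟨fun z hz g => hQn g z hz⟩

/-- The structure theorem. -/
theorem isNilpotent (h : Four G n m) :
    Group.IsNilpotent G ∧ IsPrimePow n ∧ IsPrimePow m := by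
  obtain ⟨x, hx⟩ := h.exn
  obtain ⟨y, hy⟩ := h.exm
  obtain ⟨e, p, j, hp, hpj, hun, -⟩ := h.exists_part hx
  obtain ⟨e', q, i, hq, hqi, hvm, -⟩ := h.symm.exists_part hy
  haveI := Fact.mk hp
  haveI := Fact.mk hq
  obtain ⟨⟨a, hna⟩, -, -, hl⟩ := h.cen_structure (pElem_pow hpj) hun (pElem_pow hqi) hvm
  obtain ⟨⟨b, hmb⟩, -, -, -⟩ := h.symm.cen_structure (pElem_pow hqi) hvm (pElem_pow hpj) hun
  have ha : a ≠ 0 := fun e0 => by rw [e0, pow_zero] at hna; have := h.hn; omega
  have hb : b ≠ 0 := fun e0 => by rw [e0, pow_zero] at hmb; have := h.hm; omega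
  refine ⟨?_, ⟨p, a, hp.prime, Nat.pos_of_ne_zero ha, hna.symm⟩,
    ⟨q, b, hq.prime, Nat.pos_of_ne_zero hb, hmb.symm⟩⟩
  refine ((Group.isNilpotent_of_finite_tfae (G := G)).out 0 3 rfl rfl).2 fun r hr S => ?_
  by_cases hrq : r = q
  · subst hrq
    exact h.sylow_normal (pElem_pow hpj) hun (pElem_pow hqi) hvm S
  by_cases hrp : r = p
  · subst hrp
    exact h.symm.sylow_normal (pElem_pow hqi) hvm (pElem_pow hpj) hun S
  have hS : (S : Subgroup G) ≤ center G := by
    intro s hs
    obtain ⟨k, hk⟩ := S.isPGroup' ⟨s, hs⟩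
    have hsk : s ^ r ^ k = 1 := by simpa using congrArg Subtype.val hk
    obtain ⟨g, hg⟩ := exists_conj_mem (H := cen (y ^ e')) hr.out (by
      rw [show (cen (y ^ e')).index = m from hvm, hmb]
      exact fun hd => hrq ((Nat.prime_dvd_prime_iff_eq hr.out hq).1 (hr.out.dvd_of_dvd_pow hd))) hsk
    have h1 := hl _ hg r k hr.out hrp hrq (conj_pow_eq_one hsk)
    have h2 : idx (g * s * g⁻¹) ∣ m := hvm ▸ index_dvd_of_le h1
    rcases h.symm.eq_one_or_of_dvd h2 with h3 | h3
    · rw [idx_conj] at h3; exact idx_eq_one_iff.1 h3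
    · exfalso
      have h4 := h.symm.prime_dvd hr.out (conj_pow_eq_one hsk) h3
      rw [hmb] at h4
      exact hrq ((Nat.prime_dvd_prime_iff_eq hr.out hq).1 (hr.out.dvd_of_dvd_pow h4))
  refine ⟨fun s hs g => ?_⟩
  rwa [show g * s * g⁻¹ = s by rw [mem_center_iff.1 (hS hs) g]; group]

end Four

end CfsgLib.Structure81.CoprimeClass
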