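import Cfsg.Prelude.Def_Transfer
import Cfsg.Agent.Lib.Transfer.Tate
import Cfsg.Agent.Lib.PGroup.Frattini
import Cfsg.Agent.Lib.Frobenius.FPFThompson
import Cfsg.Agent.Lib.Structure81.FPFPGroup

/-!
# Camina pairs

`(G, N)` is a Camina pair when every coset `g N` outside `N` lies in the conjugacy class of `g`.
-/

set_option autoImplicit false
set_option linter.style.haveILetI false

namespace CfsgLib.Structure81.Camina

open Subgroup
open scoped commutatorElement

variable {G : Type*} [Group G]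

/-- The hypothesis of a Camina pair. -/
def IsPair (N : Subgroup G) : Prop :=
  ∀ g : G, g ∉ N → ∀ n ∈ N, ∃ x : G, x * g * x⁻¹ = g * n

/-- All elements of a coset outside `N` have the same order. -/
theorem orderOf_mul_eq {N : Subgroup G} (h : IsPair N) {g n : G} (hg : g ∉ N) (hn : n ∈ N) :
    orderOf (g * n) = orderOf g := by
  obtain ⟨x, hx⟩ := h g hg n hn
  rw [← hx, ← MulAut.conj_apply, MulEquiv.orderOf_eq]

/-- A nontrivial element of `N` commuting with `g ∉ N` does not have order coprime to that of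
`g`. -/
theorem eq_one_of_commute [Finite G] {N : Subgroup G} (h : IsPair N) {g n : G} (hg : g ∉ N)
    (hn : n ∈ N) (hc : Commute g n) (hcop : (orderOf g).Coprime (orderOf n)) : n = 1 := by
  have h1 := orderOf_mul_eq h hg hn
  rw [hc.orderOf_mul_eq_mul_orderOf_of_coprime hcop] at h1
  exact orderOf_eq_one_iff.1
    (Nat.eq_of_mul_eq_mul_left (orderOf_pos g) (h1.trans (mul_one _).symm))

/-- A `p`-element outside `N` commutes only with elements of `p`-power order inside `N`. -/
theorem eq_one_of_commute_pElement [Finite G] {N : Subgroup G} (h : IsPair N) {p : ℕ}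
    (hp : p.Prime) {g n : G} (hg : g ∉ N) {j : ℕ} (hgp : g ^ p ^ j = 1) (hn : n ∈ N)
    (hc : Commute g n) (hnp : ¬ p ∣ orderOf n) : n = 1 := by
  refine eq_one_of_commute h hg hn hc ?_
  exact Nat.Coprime.coprime_dvd_left (orderOf_dvd_of_pow_eq_one hgp)
    (Nat.Coprime.pow_left j ((Nat.Prime.coprime_iff_not_dvd hp).2 hnp))

/-- Lift a `p`-element along a homomorphism inside the cyclic group of a given preimage. -/
theorem exists_pow_lift [Finite G] {H : Type*} [Group H] (f : G →* H) {p : ℕ} (hp : p.Prime)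
    (x : G) {j : ℕ} (hy : f x ^ p ^ j = 1) :
    ∃ e k : ℕ, f (x ^ e) = f x ∧ (x ^ e) ^ p ^ k = 1 := by
  obtain ⟨k, m, hm, hxm⟩ : ∃ k m : ℕ, ¬ p ∣ m ∧ orderOf x = p ^ k * m :=
    ⟨(orderOf x).factorization p, orderOf x / p ^ (orderOf x).factorization p,
      Nat.not_dvd_ordCompl hp (orderOf_pos x).ne',
      (Nat.ordProj_mul_ordCompl_eq_self (orderOf x) p).symm⟩
  have hmc : m.Coprime (orderOf (f x)) :=
    Nat.Coprime.coprime_dvd_right (orderOf_dvd_of_pow_eq_one hy)
      (Nat.Coprime.pow_right j ((Nat.Prime.coprime_iff_not_dvd hp).2 hm).symm)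
  obtain ⟨t, ht⟩ : ∃ t : ℕ, f x ^ (m * t) = f x := by
    rcases Nat.eq_zero_or_pos ((orderOf (f x)) - 1) with h1 | h1
    · refine ⟨0, ?_⟩
      have : orderOf (f x) = 1 := by
        have := Nat.le_of_dvd (pow_pos hp.pos j) (orderOf_dvd_of_pow_eq_one hy)
        have h0 : orderOf (f x) ≠ 0 := fun h0 => by
          have := orderOf_dvd_of_pow_eq_one hy
          rw [h0, zero_dvd_iff] at this
          exact (pow_pos hp.pos j).ne' this
        omega
      rw [orderOf_eq_one_iff] at this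
      simp [this]
    · obtain ⟨t, ht⟩ := Nat.exists_mul_mod_eq_one_of_coprime hmc (by omega)
      refine ⟨t, ?_⟩
      rw [← pow_mod_orderOf, ht.2, pow_one]
  refine ⟨m * t, k, by rw [map_pow, ht], ?_⟩
  rw [← pow_mul, show m * t * p ^ k = orderOf x * t by rw [hxm]; ring, pow_mul, pow_orderOf_eq_one,
    one_pow]

variable [Finite G]

/-- For `g ∉ N` the centralizers of `g` and of `g N` have the same order. -/
theorem card_centralizer_eq {N : Subgroup G} [N.Normal] (h : IsPair N) {g : G} (hg : g ∉ N) :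
    Nat.card (centralizer ({g} : Set G)) =
      Nat.card (centralizer ({QuotientGroup.mk' N g} : Set (G ⧸ N))) := by
  classical
  set C := centralizer ({g} : Set G) with hC
  set D := centralizer ({QuotientGroup.mk' N g} : Set (G ⧸ N)) with hD
  set M := D.comap (QuotientGroup.mk' N) with hM
  have hMcard : Nat.card M = Nat.card N * Nat.card D := by
    have h1 : M.index = D.index :=
      D.index_comap_of_surjective (QuotientGroup.mk'_surjective N)
    have h2 := M.card_mul_index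
    have h3 := D.card_mul_index
    have h4 := N.card_mul_index
    rw [Subgroup.index_eq_card] at h4
    rw [h1] at h2
    refine Nat.eq_of_mul_eq_mul_right (Nat.pos_of_ne_zero (D.index_ne_zero_of_finite)) ?_
    rw [h2, mul_assoc, h3, h4]
  have hmemM : ∀ x : G, x ∈ M ↔ g⁻¹ * (x * g * x⁻¹) ∈ N := by
    intro x
    rw [hM, mem_comap, hD, mem_centralizer_singleton_iff, ← map_mul, ← map_mul,
      QuotientGroup.mk'_apply, QuotientGroup.mk'_apply, QuotientGroup.eq]
    have e : (x * g)⁻¹ * (g * x) = x⁻¹ * (g⁻¹ * (x * g * x⁻¹))⁻¹ * x := by group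
    rw [e]
    constructor
    · intro h5
      have := (inferInstance : N.Normal).conj_mem _ h5 x
      simpa [mul_assoc] using N.inv_mem this
    · intro h5
      simpa using (inferInstance : N.Normal).conj_mem _ (N.inv_mem h5) x⁻¹
  have hex : ∀ n : N, ∃ x : M, g⁻¹ * ((x : G) * g * (x : G)⁻¹) = n := by
    intro n
    obtain ⟨x, hx⟩ := h g hg n n.2
    have hx' : g⁻¹ * (x * g * x⁻¹) = n := by rw [hx]; group
    exact ⟨⟨x, (hmemM x).2 (hx' ▸ n.2)⟩, hx'⟩
  choose s hs using hex
  let e : M ≃ C × N :=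
    { toFun := fun x =>
        (⟨((s ⟨_, (hmemM x).1 x.2⟩ : M) : G)⁻¹ * x, by
            have h5 := hs ⟨_, (hmemM x).1 x.2⟩
            simp only [mul_right_inj] at h5
            rw [hC, mem_centralizer_singleton_iff]
            generalize ((s ⟨_, (hmemM x).1 x.2⟩ : M) : G) = y at h5
            calc y⁻¹ * (x : G) * g = y⁻¹ * ((x : G) * g * (x : G)⁻¹) * x := by group
              _ = y⁻¹ * (y * g * y⁻¹) * x := by rw [h5]
              _ = g * (y⁻¹ * x) := by group⟩,
          ⟨_, (hmemM x).1 x.2⟩)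
      invFun := fun cn => ⟨(s cn.2 : G) * cn.1, mul_mem (s cn.2).2 (by
          have hc := mem_centralizer_singleton_iff.1 cn.1.2
          rw [hmemM, hc]
          simp)⟩
      left_inv := fun x => by ext; simp
      right_inv := fun cn => by
        have hc : (cn.1 : G) * g = g * cn.1 := mem_centralizer_singleton_iff.1 cn.1.2
        have h5 : g⁻¹ * (((s cn.2 : G) * cn.1) * g * ((s cn.2 : G) * cn.1)⁻¹) = cn.2 := by
          rw [← hs cn.2]
          congr 1
          calc (s cn.2 : G) * cn.1 * g * ((s cn.2 : G) * cn.1)⁻¹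
              = (s cn.2 : G) * ((cn.1 : G) * g * (cn.1 : G)⁻¹) * (s cn.2 : G)⁻¹ := by group
            _ = (s cn.2 : G) * g * (s cn.2 : G)⁻¹ := by rw [hc]; group
        apply Prod.ext
        · apply Subtype.ext
          simp only [h5]
          simp
        · exact Subtype.ext h5 }
  have h2 := Nat.card_congr e
  rw [Nat.card_prod, hMcard, mul_comm] at h2
  exact (Nat.eq_of_mul_eq_mul_right Nat.card_pos h2).symm

/-- If `p` divides `|N|`, a `p`-element outside `N` centralizes a nontrivial element of `N`, of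
order `p`. -/
theorem exists_fixed {N : Subgroup G} [N.Normal] (h : IsPair N) {p : ℕ} [hp : Fact p.Prime]
    (hpN : p ∣ Nat.card N) {g : G} (hg : g ∉ N) {j : ℕ} (hgp : g ^ p ^ j = 1) :
    ∃ z ∈ N, z ≠ 1 ∧ z ^ p = 1 ∧ Commute g z := by
  letI : MulAction (zpowers g) N :=
    MulAction.compHom N ((MulAut.conjNormal (H := N)).comp (zpowers g).subtype)
  have hP : IsPGroup p (zpowers g) := by
    rintro ⟨y, k, rfl⟩
    refine ⟨j, Subtype.ext ?_⟩
    simp only [SubgroupClass.coe_pow, OneMemClass.coe_one]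
    rw [← zpow_natCast, ← zpow_mul, mul_comm, zpow_mul, zpow_natCast, hgp, one_zpow]
  have h1 : (1 : N) ∈ MulAction.fixedPoints (zpowers g) N := fun a => by
    show MulAut.conjNormal (a : G) (1 : N) = 1
    simp
  obtain ⟨n, hn, hn1⟩ := hP.exists_fixed_point_of_prime_dvd_card_of_fixed_point N hpN h1
  have hgn : Commute g (n : G) := by
    have h2 := congrArg Subtype.val (hn ⟨g, mem_zpowers g⟩)
    change ((MulAut.conjNormal g n : N) : G) = n at h2
    rw [MulAut.conjNormal_apply] at h2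
    exact mul_inv_eq_iff_eq_mul.1 h2
  have hn1' : (n : G) ≠ 1 := fun e => hn1 (Subtype.ext e.symm)
  have hpn : p ∣ orderOf (n : G) := by
    by_contra hpn
    exact hn1' (eq_one_of_commute_pElement h hp.out hg hgp n.2 hgn hpn)
  obtain ⟨d, hd⟩ := hpn
  have hord : orderOf ((n : G) ^ d) = p := by
    have hd0 : d ≠ 0 := fun e => (orderOf_pos (n : G)).ne' (by rw [hd, e, mul_zero])
    rw [orderOf_pow_of_dvd hd0 ⟨p, by rw [hd, mul_comm]⟩, hd,
      Nat.mul_div_cancel _ (Nat.pos_of_ne_zero hd0)]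
  exact ⟨(n : G) ^ d, pow_mem n.2 d, fun e => hp.out.ne_one (by rw [← hord, e, orderOf_one]),
    by rw [← hord]; exact pow_orderOf_eq_one _, hgn.pow_right d⟩

/-- If `p` divides both `|N|` and `|G : N|` then `G ⧸ N` has a subgroup `Cₚ × Cₚ`. -/
theorem exists_commuting_pair {N : Subgroup G} [N.Normal] (h : IsPair N) {p : ℕ}
    [hp : Fact p.Prime] (hpN : p ∣ Nat.card N) (hpi : p ∣ N.index) :
    ∃ a b : G ⧸ N, a ≠ 1 ∧ a ^ p = 1 ∧ b ^ p = 1 ∧ Commute a b ∧ b ∉ zpowers a := by
  by_contra hcon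
  push Not at hcon
  rw [Subgroup.index_eq_card] at hpi
  -- a `p`-element of largest order in the quotient
  obtain ⟨u, hu⟩ := exists_prime_orderOf_dvd_card' p hpi
  obtain ⟨gb, ⟨⟨jb, hgb⟩, hgb1⟩, hmax⟩ := Set.exists_max_image
    {c : G ⧸ N | (∃ j : ℕ, c ^ p ^ j = 1) ∧ c ≠ 1} orderOf (Set.toFinite _)
    ⟨u, ⟨1, by rw [pow_one, ← hu]; exact pow_orderOf_eq_one u⟩,
      fun e => hp.out.ne_one (by rw [← hu, e, orderOf_one])⟩
  obtain ⟨k, -, hk⟩ := (Nat.dvd_prime_pow hp.out).1 (orderOf_dvd_of_pow_eq_one hgb)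
  obtain ⟨k', rfl⟩ : ∃ k', k = k' + 1 := Nat.exists_eq_succ_of_ne_zero fun e =>
    hgb1 (orderOf_eq_one_iff.1 (by rw [hk, e, pow_zero]))
  set w := gb ^ p ^ k' with hw
  have hwp : w ^ p = 1 := by
    rw [hw, ← pow_mul, ← pow_succ, ← hk]; exact pow_orderOf_eq_one gb
  have hw1 : w ≠ 1 := fun e => by
    have h2 := orderOf_dvd_of_pow_eq_one e
    rw [hk] at h2
    exact absurd (Nat.le_of_dvd (pow_pos hp.out.pos _) h2)
      (not_le.2 (Nat.pow_lt_pow_right hp.out.one_lt k'.lt_succ_self))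
  have step : ∀ d : G ⧸ N, (∃ j : ℕ, d ^ p ^ j = 1) → Commute gb d → d ^ p ∈ zpowers gb →
      d ∈ zpowers gb := by
    rintro d hdj hdc hdp
    by_cases hd1 : d = 1
    · rw [hd1]; exact one_mem _
    obtain ⟨i, hi⟩ : ∃ i : ℕ, gb ^ i = d ^ p := by
      rw [← mem_powers_iff_mem_zpowers] at hdp
      exact hdp
    by_cases hpi' : p ∣ i
    · obtain ⟨t, rfl⟩ := hpi'
      have hb : (d * (gb ^ t)⁻¹) ^ p = 1 := by
        rw [((hdc.pow_left t).symm.inv_right).mul_pow, inv_pow, ← pow_mul, mul_comm t p, hi,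
          mul_inv_cancel]
      have hb2 : d * (gb ^ t)⁻¹ ∈ zpowers w :=
        hcon w _ hw1 hwp hb (((hdc.mul_right ((Commute.refl gb).pow_right t).inv_right)).pow_left _)
      have hb3 : d * (gb ^ t)⁻¹ ∈ zpowers gb :=
        (zpowers_le.2 (pow_mem (mem_zpowers gb) _) : zpowers w ≤ zpowers gb) hb2
      simpa using mul_mem hb3 (pow_mem (mem_zpowers gb) t)
    · exfalso
      obtain ⟨jd, hjd⟩ := hdj
      obtain ⟨l, -, hl⟩ := (Nat.dvd_prime_pow hp.out).1 (orderOf_dvd_of_pow_eq_one hjd)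
      obtain ⟨l', rfl⟩ : ∃ l', l = l' + 1 := Nat.exists_eq_succ_of_ne_zero fun e =>
        hd1 (orderOf_eq_one_iff.1 (by rw [hl, e, pow_zero]))
      have h2 : orderOf (d ^ p) = orderOf gb := by
        rw [← hi]
        refine Nat.Coprime.orderOf_pow ?_
        rw [hk]
        exact Nat.Coprime.pow_left _ ((Nat.Prime.coprime_iff_not_dvd hp.out).2 hpi')
      rw [orderOf_pow_of_dvd hp.out.ne_zero (hl ▸ dvd_pow_self p (Nat.succ_ne_zero _)), hl,
        pow_succ, Nat.mul_div_cancel _ hp.out.pos] at h2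
      have h3 := hmax d ⟨⟨jd, hjd⟩, hd1⟩
      rw [hl, ← h2, pow_succ] at h3
      have h4 := pow_pos hp.out.pos l'
      nlinarith [hp.out.two_le]
  have hall : ∀ j : ℕ, ∀ c : G ⧸ N, c ^ p ^ j = 1 → Commute gb c → c ∈ zpowers gb := by
    intro j
    induction j with
    | zero => intro c hc _; rw [pow_zero, pow_one] at hc; rw [hc]; exact one_mem _
    | succ j ih =>
      intro c hc hcc
      refine step c ⟨j + 1, hc⟩ hcc (ih _ ?_ (hcc.pow_right p))
      rw [← pow_mul, ← pow_succ']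
      exact hc
  -- a lift
  obtain ⟨g0, rfl⟩ := QuotientGroup.mk'_surjective N gb
  obtain ⟨e, i, he, hei⟩ := exists_pow_lift (QuotientGroup.mk' N) hp.out g0 hgb
  set g := g0 ^ e with hge
  have hgN : g ∉ N := fun hgN => hgb1 (by
    rw [← he]; exact (QuotientGroup.eq_one_iff g).2 hgN)
  obtain ⟨z, hzN, hz1, hzp, hgz⟩ := exists_fixed h hpN hgN hei
  set H := zpowers g ⊔ zpowers z with hH
  have hgH : zpowers g ≤ H := le_sup_left
  have hHC : H ≤ centralizer ({g} : Set G) :=
    sup_le (zpowers_le.2 (mem_centralizer_singleton_iff.2 rfl))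
      (zpowers_le.2 (mem_centralizer_singleton_iff.2 hgz.eq.symm))
  have hHp : IsPGroup p H := by
    refine IsPGroup.to_sup_of_normal_right' ?_ ?_ ?_
    · obtain ⟨r, -, hr⟩ := (Nat.dvd_prime_pow hp.out).1 (orderOf_dvd_of_pow_eq_one hei)
      exact IsPGroup.of_card (n := r) (by rw [Nat.card_zpowers, hr])
    · exact IsPGroup.of_card (n := 1) (by rw [Nat.card_zpowers, orderOf_eq_prime hzp hz1, pow_one])
    · rw [zpowers_le]
      refine (centralizer_le_normalizer _) ?_
      rw [mem_centralizer_iff]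
      rintro y ⟨l, rfl⟩
      exact (hgz.zpow_right l).eq.symm
  obtain ⟨r, hr⟩ := IsPGroup.iff_card.1 hHp
  set D := centralizer ({QuotientGroup.mk' N g} : Set (G ⧸ N))
  have hHD : p ^ r ∣ Nat.card D := by
    rw [← hr, ← card_centralizer_eq h hgN]; exact card_dvd_of_le hHC
  obtain ⟨K, hK⟩ := Sylow.exists_subgroup_card_pow_prime (G := D) p hHD
  have hKle : K.map D.subtype ≤ zpowers (QuotientGroup.mk' N g) := by
    rintro _ ⟨c, hc, rfl⟩
    rw [he]
    obtain ⟨j, hj⟩ := (IsPGroup.of_card hK) ⟨c, hc⟩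
    refine hall j (D.subtype c) ?_ ?_
    · have := congrArg (fun y : K => D.subtype (y : D)) hj
      simpa using this
    · have h2 := mem_centralizer_singleton_iff.1 c.2
      rw [he] at h2
      exact h2.symm
  have h2 : p ^ r ≤ orderOf (QuotientGroup.mk' N g) := by
    have := Nat.le_of_dvd Nat.card_pos (card_dvd_of_le hKle)
    rwa [Nat.card_zpowers, card_map_of_injective D.subtype_injective, hK] at this
  have h3 : orderOf (QuotientGroup.mk' N g) ≤ orderOf g :=
    Nat.le_of_dvd (orderOf_pos g) (orderOf_map_dvd _ g)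
  by_cases hzg : z ∈ zpowers g
  · -- the order drops in the quotient
    have h4 : orderOf g ≤ orderOf (QuotientGroup.mk' N g) := by
      have := Nat.le_of_dvd Nat.card_pos (card_dvd_of_le hgH)
      rw [Nat.card_zpowers, hr] at this
      exact this.trans h2
    obtain ⟨l, hl⟩ := hzg
    apply hz1
    have h5 : (QuotientGroup.mk' N g) ^ l = 1 := by
      rw [← map_zpow]
      exact (QuotientGroup.eq_one_iff _).2 (by simpa [hl] using hzN)
    rw [← orderOf_dvd_iff_zpow_eq_one, le_antisymm h3 h4] at h5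
    rw [← hl]
    exact orderOf_dvd_iff_zpow_eq_one.1 h5
  · have h4 : zpowers g ≠ H := fun e' => hzg (e'.symm ▸ (le_sup_right : zpowers z ≤ H) (mem_zpowers z))
    have h5 : Nat.card (zpowers g) ≠ Nat.card H := fun e' =>
      h4 (Subgroup.eq_of_le_of_card_ge hgH e'.ge)
    have h6 := Nat.le_of_dvd Nat.card_pos (card_dvd_of_le hgH)
    rw [Nat.card_zpowers] at h5 h6
    omega

/-- A Sylow `p`-subgroup meets `N` inside its derived group when `p` divides `|G : N|`. -/
theorem inf_sylow_le_commutator {N : Subgroup G} [N.Normal] (h : IsPair N) {p : ℕ}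
    [hp : Fact p.Prime] (hpi : p ∣ N.index) (P : Sylow p G) :
    N ⊓ (P : Subgroup G) ≤ (commutator P).map (P : Subgroup G).subtype := by
  classical
  let Pb : Sylow p (G ⧸ N) := P.mapSurjective (QuotientGroup.mk'_surjective N)
  have hPb : (Pb : Subgroup (G ⧸ N)) = (P : Subgroup G).map (QuotientGroup.mk' N) := rfl
  rw [Subgroup.index_eq_card] at hpi
  haveI : Nontrivial (Pb : Subgroup (G ⧸ N)) :=
    (Subgroup.nontrivial_iff_ne_bot _).2 (Pb.ne_bot_of_dvd_card hpi)
  haveI := Pb.isPGroup'.center_nontrivial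
  obtain ⟨z, hz⟩ := exists_ne (1 : center (Pb : Subgroup (G ⧸ N)))
  obtain ⟨g, hgP, hgz⟩ : ∃ g ∈ (P : Subgroup G),
      QuotientGroup.mk' N g = ((z : (Pb : Subgroup (G ⧸ N))) : G ⧸ N) := by
    have := (z : (Pb : Subgroup (G ⧸ N))).2
    simp only [hPb, mem_map] at this
    exact this
  have hgN : g ∉ N := fun hg => hz (Subtype.ext (Subtype.ext (by
    rw [← hgz]; exact (QuotientGroup.eq_one_iff g).2 hg)))
  have hcen : ∀ x ∈ (P : Subgroup G), g⁻¹ * (x * g * x⁻¹) ∈ N := by
    intro x hx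
    have hxb : QuotientGroup.mk' N x ∈ (Pb : Subgroup (G ⧸ N)) := hPb ▸ mem_map_of_mem _ hx
    have h1 := congrArg Subtype.val ((mem_center_iff.1 z.2) ⟨_, hxb⟩)
    simp only [Subgroup.coe_mul, ← hgz] at h1
    rw [← QuotientGroup.eq_one_iff]
    show QuotientGroup.mk' N (g⁻¹ * (x * g * x⁻¹)) = 1
    simp only [map_mul, map_inv, h1]
    group
  set H := (centralizer ({g} : Set G)).subgroupOf (P : Subgroup G) with hH
  have hHle : Nat.card H ≤ Nat.card (Pb : Subgroup (G ⧸ N)) := by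
    have h1 : Nat.card H ∣ Nat.card (G ⧸ N) := by
      have h2 : Nat.card H ∣ Nat.card (centralizer ({g} : Set G)) := by
        rw [← card_map_of_injective (P : Subgroup G).subtype_injective, hH, subgroupOf_map_subtype]
        exact card_dvd_of_le inf_le_left
      rw [card_centralizer_eq h hgN] at h2
      exact h2.trans (card_subgroup_dvd_card _)
    obtain ⟨r, hr⟩ := IsPGroup.iff_card.1 (P.isPGroup'.to_subgroup H)
    rw [hr] at h1 ⊢
    exact Nat.le_of_dvd Nat.card_pos (Pb.pow_dvd_card_of_pow_dvd_card h1)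
  set P0 := N.subgroupOf (P : Subgroup G) with hP0
  let f : (P : Subgroup G) ⧸ H → P0 := Quotient.lift
    (fun x => ⟨⟨g⁻¹ * ((x : G) * g * (x : G)⁻¹),
      mul_mem (inv_mem hgP) (mul_mem (mul_mem x.2 hgP) (inv_mem x.2))⟩, hcen _ x.2⟩)
    (fun a b hab => by
      have hab' : QuotientGroup.leftRel H a b := hab
      rw [QuotientGroup.leftRel_apply, hH, mem_subgroupOf, mem_centralizer_singleton_iff] at hab'
      simp only [Subgroup.coe_mul, InvMemClass.coe_inv] at hab'
      apply Subtype.ext; apply Subtype.ext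
      show g⁻¹ * ((a : G) * g * (a : G)⁻¹) = g⁻¹ * ((b : G) * g * (b : G)⁻¹)
      congr 1
      calc (a : G) * g * (a : G)⁻¹ = (a : G) * (g * ((a : G)⁻¹ * b)) * (b : G)⁻¹ := by group
        _ = (a : G) * (((a : G)⁻¹ * b) * g) * (b : G)⁻¹ := by rw [hab']
        _ = (b : G) * g * (b : G)⁻¹ := by group)
  have hf : Function.Injective f := by
    intro a b
    induction a using QuotientGroup.induction_on with
    | H a =>
    induction b using QuotientGroup.induction_on with
    | H b =>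
    intro hab
    have h1 : g⁻¹ * ((a : G) * g * (a : G)⁻¹) = g⁻¹ * ((b : G) * g * (b : G)⁻¹) :=
      congrArg (fun y : P0 => ((y : (P : Subgroup G)) : G)) hab
    rw [mul_right_inj] at h1
    rw [QuotientGroup.eq, hH, mem_subgroupOf, mem_centralizer_singleton_iff]
    simp only [Subgroup.coe_mul, InvMemClass.coe_inv]
    calc (a : G)⁻¹ * b * g = (a : G)⁻¹ * ((b : G) * g * (b : G)⁻¹) * b := by group
      _ = (a : G)⁻¹ * ((a : G) * g * (a : G)⁻¹) * b := by rw [h1]
      _ = g * ((a : G)⁻¹ * b) := by group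
  have hcard : Nat.card P0 ≤ Nat.card ((P : Subgroup G) ⧸ H) := by
    let φ := (QuotientGroup.mk' N).comp (P : Subgroup G).subtype
    have hker : φ.ker = P0 := by
      ext x; simp [φ, MonoidHom.mem_ker, hP0, mem_subgroupOf]
    have hran : φ.range = (Pb : Subgroup (G ⧸ N)) := by
      rw [hPb, MonoidHom.range_comp, range_subtype]
    have h1 := φ.ker.card_mul_index
    rw [index_ker, hran, hker] at h1
    have h2 := H.card_mul_index
    rw [Subgroup.index_eq_card] at h2
    have h3 : Nat.card (Pb : Subgroup (G ⧸ N)) * Nat.card P0 ≤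
        Nat.card (Pb : Subgroup (G ⧸ N)) * Nat.card ((P : Subgroup G) ⧸ H) := by
      calc _ = Nat.card H * Nat.card ((P : Subgroup G) ⧸ H) := by rw [mul_comm, h1, h2]
        _ ≤ _ := Nat.mul_le_mul_right _ hHle
    exact Nat.le_of_mul_le_mul_left h3 Nat.card_pos
  have hbij := hf.bijective_of_nat_card_le hcard
  intro n hn
  obtain ⟨a, ha⟩ := hbij.2 ⟨⟨n, hn.2⟩, hn.1⟩
  induction a using QuotientGroup.induction_on with
  | H a =>
  refine ⟨⟨g, hgP⟩⁻¹ * (a * ⟨g, hgP⟩ * a⁻¹), ?_, ?_⟩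
  · have e : (⟨g, hgP⟩ : (P : Subgroup G))⁻¹ * (a * ⟨g, hgP⟩ * a⁻¹) =
        ⁅(⟨g, hgP⟩ : (P : Subgroup G))⁻¹, a⁆ := by
      rw [commutatorElement_def]; group
    rw [e]
    exact commutator_mem_commutator (mem_top _) (mem_top _)
  · exact congrArg (fun y : P0 => ((y : (P : Subgroup G)) : G)) ha

/-- For a prime dividing `|G : N|` the subgroup `N` has a normal `p`-complement, the set of its
`p'`-elements. -/
theorem exists_complement {N : Subgroup G} [N.Normal] (h : IsPair N) {p : ℕ}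
    [hp : Fact p.Prime] (hpi : p ∣ N.index) :
    ∃ K : Subgroup G, K.Normal ∧ K ≤ N ∧ ¬ p ∣ Nat.card K ∧
      ∀ n ∈ N, ¬ p ∣ orderOf n → n ∈ K := by
  obtain ⟨P⟩ := (inferInstance : Nonempty (Sylow p G))
  have hnp : Cfsg.HasNormalPComplement p N :=
    CfsgLib.Transfer.hasNormalPComplement_normal P N ((inf_sylow_le_commutator h hpi P).trans
      (map_mono (CfsgLib.PGroup.commutator_le_frattini P.isPGroup')))
  rw [CfsgLib.Transfer.hasNormalPComplement_iff] at hnp
  have hK : Cfsg.pResidual p N = Subgroup.closure {g : N | Nat.Coprime (orderOf g) p} := rfl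
  refine ⟨(Cfsg.pResidual p N).map N.subtype, ⟨fun x hx g => ?_⟩, map_subtype_le _,
    by rwa [card_map_of_injective N.subtype_injective], fun n hn hnp' => ⟨⟨n, hn⟩, ?_, rfl⟩⟩
  · obtain ⟨y, hy, rfl⟩ := hx
    refine ⟨MulAut.conjNormal g y, ?_, by simp [MulAut.conjNormal_apply]⟩
    rw [hK] at hy ⊢
    revert hy
    generalize hc : Subgroup.closure {g : N | Nat.Coprime (orderOf g) p} = C
    intro hy
    have : C ≤ C.comap (MulAut.conjNormal g : MulAut N).toMonoidHom := by
      conv_lhs => rw [← hc]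
      rw [closure_le]
      intro z hz
      rw [SetLike.mem_coe, mem_comap, ← hc]
      refine subset_closure ?_
      simpa [MulEquiv.orderOf_eq] using hz
    exact this hy
  · rw [hK]
    exact subset_closure (show Nat.Coprime _ _ by
      rw [Subgroup.orderOf_mk]
      exact ((Nat.Prime.coprime_iff_not_dvd hp.out).2 hnp').symm)

/-- The elements of `p`-power order of `N` cannot centralize a nontrivial normal `p'`-subgroup
inside `N` if `p` divides both `|N|` and `|G : N|`. -/
theorem false_of_centralized {N : Subgroup G} [N.Normal] (h : IsPair N) {p : ℕ}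
    [hp : Fact p.Prime] (hpN : p ∣ Nat.card N) (hpi : p ∣ N.index) (K : Subgroup G) [K.Normal]
    (hKN : K ≤ N) (hK1 : K ≠ ⊥) (hKp : ¬ p ∣ Nat.card K)
    (hcen : ∀ a ∈ N, (∃ j : ℕ, a ^ p ^ j = 1) → ∀ k ∈ K, Commute a k) : False := by
  obtain ⟨ab, bb, ha1, hap, hbp, habc, hba⟩ := exists_commuting_pair h hpN hpi
  haveI : Nontrivial K := (Subgroup.nontrivial_iff_ne_bot K).2 hK1
  have hord : ∀ x : G ⧸ N, x ^ p = 1 → IsPGroup p (zpowers x) := fun x hx => by
    obtain ⟨r, -, hr⟩ := (Nat.dvd_prime_pow hp.out).1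
      (orderOf_dvd_of_pow_eq_one (show x ^ p ^ 1 = 1 by rwa [pow_one]))
    exact IsPGroup.of_card (n := r) (by rw [Nat.card_zpowers, hr])
  have hS : IsPGroup p (zpowers ab ⊔ zpowers bb : Subgroup (G ⧸ N)) := by
    refine IsPGroup.to_sup_of_normal_right' (hord ab hap) (hord bb hbp) ?_
    rw [zpowers_le]
    refine (centralizer_le_normalizer _) ?_
    rw [mem_centralizer_iff]
    rintro y ⟨l, rfl⟩
    exact (habc.zpow_right l).eq.symm
  obtain ⟨Q, hQ⟩ := hS.exists_le_sylow
  obtain ⟨P, hP⟩ := Sylow.mapSurjective_surjective (QuotientGroup.mk'_surjective N) p Q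
  have hPQ : (Q : Subgroup (G ⧸ N)) = (P : Subgroup G).map (QuotientGroup.mk' N) := by
    rw [← hP]; rfl
  rw [hPQ] at hQ
  obtain ⟨a, haP, rfl⟩ := mem_map.1 (hQ ((le_sup_left : zpowers ab ≤ _) (mem_zpowers ab)))
  obtain ⟨b, hbP, rfl⟩ := mem_map.1 (hQ ((le_sup_right : zpowers bb ≤ _) (mem_zpowers bb)))
  let φ : (P : Subgroup G) →* MulAut K := (MulAut.conjNormal (H := K)).comp (P : Subgroup G).subtype
  have hφ : ∀ (u : (P : Subgroup G)) (k : K), ((φ u k : K) : G) = (u : G) * k * (u : G)⁻¹ :=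
    fun u k => MulAut.conjNormal_apply _ _
  have hker : ∀ u : (P : Subgroup G), (u : G) ∈ N → φ u = 1 := by
    intro u hu
    ext k
    obtain ⟨j, hj⟩ := P.isPGroup' u
    have hj' : (u : G) ^ p ^ j = 1 := by simpa using congrArg Subtype.val hj
    rw [hφ, (hcen _ hu ⟨j, hj'⟩ _ k.2).eq]
    simp
  have hfix : ∀ (u : (P : Subgroup G)) (k : K), (u : G) ∉ N → φ u k = k → k = 1 := by
    intro u k hu hk
    obtain ⟨j, hj⟩ := P.isPGroup' u
    have hj' : (u : G) ^ p ^ j = 1 := by simpa using congrArg Subtype.val hj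
    have h1 : (u : G) * k * (u : G)⁻¹ = k := by rw [← hφ, hk]
    refine Subtype.ext (eq_one_of_commute_pElement h hp.out hu hj' (hKN k.2)
      (mul_inv_eq_iff_eq_mul.1 h1) fun hd => hKp (hd.trans ?_))
    rw [Subgroup.orderOf_coe]
    exact orderOf_dvd_natCard k
  have hfpf : CfsgLib.Frobenius.IsFPF φ.range K := by
    rintro ⟨_, u, rfl⟩ hu k hk
    refine hfix u k (fun hN => hu (Subtype.ext (hker u hN))) hk
  set A : φ.range := ⟨φ ⟨a, haP⟩, ⟨a, haP⟩, rfl⟩
  set B : φ.range := ⟨φ ⟨b, hbP⟩, ⟨b, hbP⟩, rfl⟩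
  have hpow : ∀ (x : G) (hx : x ∈ (P : Subgroup G)), QuotientGroup.mk' N x ^ p = 1 →
      φ ⟨x, hx⟩ ^ p = 1 := fun x hx hxp => by
    rw [← map_pow]
    refine hker _ ?_
    rw [SubgroupClass.coe_pow, ← QuotientGroup.eq_one_iff]
    exact (map_pow (QuotientGroup.mk' N) x p).trans hxp
  have hA1 : A ≠ 1 := fun e => by
    obtain ⟨k, hk⟩ := exists_ne (1 : K)
    refine hk (hfix ⟨a, haP⟩ k (fun hN => ha1 ((QuotientGroup.eq_one_iff a).2 hN)) ?_)
    have e' : φ ⟨a, haP⟩ = 1 := congrArg Subtype.val e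
    rw [e']; rfl
  have hAB : Commute A B := by
    apply Subtype.ext
    show φ ⟨a, haP⟩ * φ ⟨b, hbP⟩ = φ ⟨b, hbP⟩ * φ ⟨a, haP⟩
    rw [← mul_inv_eq_one, mul_inv_rev, ← map_inv, ← map_inv, ← map_mul, ← map_mul, ← map_mul]
    refine hker _ ?_
    rw [← QuotientGroup.eq_one_iff]
    show QuotientGroup.mk' N (a * b * (a⁻¹ * b⁻¹)) = 1
    rw [map_mul, map_mul, habc.eq]
    simp only [map_mul, map_inv]
    group
  obtain ⟨l, hl⟩ := mem_zpowers_of_commute hfpf hp.out hA1 (Subtype.ext (hpow a haP hap))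
    (Subtype.ext (hpow b hbP hbp)) hAB
  apply hba
  refine ⟨l, ?_⟩
  show QuotientGroup.mk' N a ^ l = QuotientGroup.mk' N b
  by_contra hne
  obtain ⟨k, hk⟩ := exists_ne (1 : K)
  refine hk (hfix (⟨b, hbP⟩⁻¹ * ⟨a, haP⟩ ^ l) k ?_ ?_)
  · intro hN
    apply hne
    have := (QuotientGroup.eq_one_iff _).2 hN
    change QuotientGroup.mk' N (b⁻¹ * a ^ l) = 1 at this
    rw [map_mul, map_inv, map_zpow, inv_mul_eq_one] at this
    exact this.symm
  · have hl' : φ ⟨a, haP⟩ ^ l = φ ⟨b, hbP⟩ := congrArg Subtype.val hl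
    rw [map_mul, map_inv, map_zpow, hl', inv_mul_cancel]
    rfl

/-- Taking a quotient by a normal subgroup inside `N` preserves the Camina condition. -/
theorem IsPair.quotient {N : Subgroup G} (h : IsPair N) (L : Subgroup G) [L.Normal] :
    IsPair (N.map (QuotientGroup.mk' L)) := by
  intro g hg n hn
  obtain ⟨g0, rfl⟩ := QuotientGroup.mk'_surjective L g
  obtain ⟨n0, hn0, rfl⟩ := hn
  obtain ⟨x, hx⟩ := h g0 (fun hg0 => hg (mem_map_of_mem _ hg0)) n0 hn0
  exact ⟨QuotientGroup.mk' L x, by rw [← map_inv, ← map_mul, ← map_mul, hx, map_mul]⟩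

/-- A Camina pair with two prime divisors `p ≠ q` of the index and two prime divisors `p ≠ r` of
`|N|` does not exist. -/
theorem false_of_primes {N : Subgroup G} [N.Normal] (h : IsPair N) {p q r : ℕ}
    [hp : Fact p.Prime] [hq : Fact q.Prime] [hr : Fact r.Prime] (hpq : q ≠ p) (hrp : r ≠ p)
    (hpN : p ∣ Nat.card N) (hpi : p ∣ N.index) (hqi : q ∣ N.index) (hrN : r ∣ Nat.card N) :
    False := by
  obtain ⟨K, hKn, hKN, hKp, hKall⟩ := exists_complement h hpi
  obtain ⟨L, hLn, hLN, hLp, hLK, hcomm⟩ : ∃ L : Subgroup G, L.Normal ∧ L ≤ N ∧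
      ¬ p ∣ Nat.card L ∧ ¬ K ≤ L ∧
        ∀ a ∈ N, (∃ j : ℕ, a ^ p ^ j = 1) → ∀ k ∈ K, a * k * a⁻¹ * k⁻¹ ∈ L := by
    by_cases hqN : q ∣ Nat.card N
    · obtain ⟨K2, hK2n, hK2N, hK2q, hK2all⟩ := exists_complement h hqi
      refine ⟨K ⊓ K2, inferInstance, inf_le_left.trans hKN,
        fun hd => hKp (hd.trans (card_dvd_of_le inf_le_left)), fun hle => ?_, ?_⟩
      · obtain ⟨z, hz⟩ := exists_prime_orderOf_dvd_card' (G := N) q hqN
        have hzo : orderOf (z : G) = q := by rw [Subgroup.orderOf_coe, hz]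
        have hzK : (z : G) ∈ K := hKall _ z.2 (by
          rw [hzo, Nat.prime_dvd_prime_iff_eq hp.out hq.out]; exact hpq.symm)
        exact hK2q (hzo ▸ (Subgroup.orderOf_coe (⟨(z : G), (hle hzK).2⟩ : K2)).symm ▸
          orderOf_dvd_natCard (⟨(z : G), (hle hzK).2⟩ : K2))
      · rintro a ha ⟨j, hj⟩ k hk
        have haK2 : a ∈ K2 := hK2all a ha fun hd => hpq
          ((Nat.prime_dvd_prime_iff_eq hq.out hp.out).1
            (hq.out.dvd_of_dvd_pow (hd.trans (orderOf_dvd_of_pow_eq_one hj))))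
        refine ⟨K.mul_mem (hKn.conj_mem k hk a) (inv_mem hk), ?_⟩
        rw [mul_assoc a k, mul_assoc a]
        exact K2.mul_mem haK2 (hK2n.conj_mem _ (inv_mem haK2) k)
    · -- `N` has a fixed-point-free automorphism of order `q`
      have hqG : q ∣ Nat.card G := hqi.trans N.index_dvd_card
      obtain ⟨x, hx⟩ := exists_prime_orderOf_dvd_card' (G := G) q hqG
      have hxN : x ∉ N := fun hxN => hqN (hx ▸ (Subgroup.orderOf_mk x hxN) ▸
        orderOf_dvd_natCard (⟨x, hxN⟩ : N))
      have hxq : x ^ q = 1 := hx ▸ pow_orderOf_eq_one x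
      have hnil : Group.IsNilpotent N := CfsgLib.Frobenius.Thompson.isNilpotent_of_element N
        (Subgroup.normalizer_eq_top (H := N) ▸ mem_top x) hq.out hxq fun k hk hxk =>
          eq_one_of_commute_pElement h hq.out hxN (j := 1) (by rwa [pow_one]) hk hxk
            fun hd => hqN (hd.trans (Subgroup.orderOf_mk k hk ▸ orderOf_dvd_natCard (⟨k, hk⟩ : N)))
      refine ⟨⊥, inferInstance, bot_le, by simpa using hp.out.ne_one, fun hle => ?_, ?_⟩
      · obtain ⟨z, hz⟩ := exists_prime_orderOf_dvd_card' (G := N) r hrN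
        have hzo : orderOf (z : G) = r := by rw [Subgroup.orderOf_coe, hz]
        have hzK : (z : G) ∈ K := hKall _ z.2 (by
          rw [hzo, Nat.prime_dvd_prime_iff_eq hp.out hr.out]; exact hrp.symm)
        have := mem_bot.1 (hle hzK)
        rw [this, orderOf_one] at hzo
        exact hr.out.ne_one hzo.symm
      · rintro a ha ⟨j, hj⟩ k hk
        obtain ⟨S⟩ := (inferInstance : Nonempty (Sylow p N))
        have hSn : (S : Subgroup N).Normal :=
          ((Group.isNilpotent_of_finite_tfae (G := N)).out 0 3 rfl rfl).1 hnil p hp S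
        haveI : Unique (Sylow p N) := Sylow.unique_of_normal S hSn
        set a' : N := ⟨a, ha⟩
        set k' : N := ⟨k, hKN hk⟩
        have haS : a' ∈ (S : Subgroup N) := by
          have hap : IsPGroup p (zpowers a') := by
            obtain ⟨i, -, hi⟩ := (Nat.dvd_prime_pow hp.out).1 (orderOf_dvd_of_pow_eq_one
              (show a' ^ p ^ j = 1 from Subtype.ext (by simpa using hj)))
            exact IsPGroup.of_card (n := i) (by rw [Nat.card_zpowers, hi])
          obtain ⟨T, hT⟩ := hap.exists_le_sylow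
          exact Subsingleton.elim T S ▸ hT (mem_zpowers a')
        have hc : a' * k' * a'⁻¹ * k'⁻¹ ∈ (S : Subgroup N) := by
          rw [mul_assoc a' k', mul_assoc a']
          exact mul_mem haS (hSn.conj_mem _ (inv_mem haS) k')
        rw [mem_bot]
        have hcK : a * k * a⁻¹ * k⁻¹ ∈ K := K.mul_mem (hKn.conj_mem k hk a) (inv_mem hk)
        obtain ⟨i, hi⟩ := S.isPGroup' ⟨_, hc⟩
        have hi' : (a * k * a⁻¹ * k⁻¹) ^ p ^ i = 1 := by
          simpa [a', k'] using congrArg (fun y : (S : Subgroup N) => ((y : N) : G)) hi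
        obtain ⟨l, -, hl⟩ := (Nat.dvd_prime_pow hp.out).1 (orderOf_dvd_of_pow_eq_one hi')
        rw [← orderOf_eq_one_iff, hl]
        by_contra hl1
        refine hKp ((dvd_pow_self p (n := l) fun e => hl1 (by rw [e, pow_zero])).trans ?_)
        rw [← hl]
        exact Subgroup.orderOf_mk _ hcK ▸ orderOf_dvd_natCard (⟨_, hcK⟩ : K)
  set π := QuotientGroup.mk' L with hπ
  have hsurj : Function.Surjective π := QuotientGroup.mk'_surjective L
  have hker : π.ker = L := QuotientGroup.ker_mk' L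
  haveI : (N.map π).Normal := Normal.map inferInstance π hsurj
  haveI : (K.map π).Normal := Normal.map hKn π hsurj
  refine false_of_centralized (h.quotient L) (p := p) ?_ ?_ (K.map π) (map_mono hKN)
    (fun he => hLK ?_) (fun hd => hKp (hd.trans (card_map_dvd K π))) ?_
  · have hidx : (N.map π).index = N.index := index_map_eq N hsurj (hker.le.trans hLN)
    have h1 := (N.map π).card_mul_index
    rw [hidx] at h1
    have h3 := L.card_mul_index
    rw [Subgroup.index_eq_card, ← h1, ← mul_assoc] at h3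
    rw [← N.card_mul_index] at h3
    have h4 : Nat.card L * Nat.card (N.map π) = Nat.card N :=
      Nat.eq_of_mul_eq_mul_right (Nat.pos_of_ne_zero N.index_ne_zero_of_finite) h3
    rw [← h4] at hpN
    exact ((Nat.Prime.dvd_mul hp.out).1 hpN).resolve_left hLp
  · rwa [index_map_eq N hsurj (hker.le.trans hLN)]
  · rw [Subgroup.map_eq_bot_iff, hker] at he; exact he
  · rintro _ ⟨a0, ha0, rfl⟩ ⟨j, hj⟩ _ ⟨k, hk, rfl⟩
    obtain ⟨e, i, he, hei⟩ := exists_pow_lift π hp.out a0 hj
    rw [← he]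
    have h1 := hcomm _ (pow_mem ha0 e) ⟨i, hei⟩ k hk
    rw [← QuotientGroup.eq_one_iff] at h1
    change π _ = 1 at h1
    rw [map_mul, map_mul, map_mul, map_inv, map_inv, mul_inv_eq_one, mul_inv_eq_iff_eq_mul] at h1
    exact h1

/-- If some element outside `N` commutes with a nontrivial element of `N`, then a prime divides
both `|N|` and `|G : N|`. -/
theorem exists_common_prime {N : Subgroup G} [N.Normal] (h : IsPair N) {x g : G} (hx : x ∈ N)
    (hx1 : x ≠ 1) (hg : g ∉ N) (hc : Commute g x) :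
    ∃ p : ℕ, p.Prime ∧ p ∣ Nat.card N ∧ p ∣ N.index := by
  obtain ⟨p, hp, hpd⟩ := Nat.exists_prime_and_dvd (fun e => hx1 (orderOf_eq_one_iff.1 e) :
    orderOf x ≠ 1)
  haveI := Fact.mk hp
  obtain ⟨d, hd⟩ := hpd
  have hd0 : d ≠ 0 := fun e => (orderOf_pos x).ne' (by rw [hd, e, mul_zero])
  have hord : orderOf (x ^ d) = p := by
    rw [orderOf_pow_of_dvd hd0 ⟨p, by rw [hd, mul_comm]⟩, hd,
      Nat.mul_div_cancel _ (Nat.pos_of_ne_zero hd0)]
  refine ⟨p, hp, hord ▸ Subgroup.orderOf_mk _ (pow_mem hx d) ▸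
    orderOf_dvd_natCard (⟨x ^ d, pow_mem hx d⟩ : N), ?_⟩
  by_contra hpi
  set k := (orderOf g).factorization p
  have hgk : g ^ p ^ k ∈ N := by
    by_contra hgk
    have h1 := eq_one_of_commute h hgk (pow_mem hx d) (hc.pow_pow _ _) (by
      rw [hord, orderOf_pow_of_dvd (pow_pos hp.pos k).ne' (Nat.ordProj_dvd _ _)]
      exact (Nat.coprime_ordCompl hp (orderOf_pos g).ne').symm)
    rw [h1, orderOf_one] at hord
    exact hp.ne_one hord.symm
  apply hg
  rw [← QuotientGroup.eq_one_iff, ← orderOf_eq_one_iff]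
  refine Nat.eq_one_of_dvd_coprimes (a := p ^ k) (b := Nat.card (G ⧸ N)) ?_
    (orderOf_dvd_of_pow_eq_one ((QuotientGroup.eq_one_iff _).2 hgk)) (orderOf_dvd_natCard _)
  exact Nat.Coprime.pow_left k ((Nat.Prime.coprime_iff_not_dvd hp).2
    (by rwa [← Subgroup.index_eq_card]))

end CfsgLib.Structure81.Camina
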