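import Mathlib

/-!
# Classes of coprime size

If the class sizes of `u` and `v` are coprime then `u^G v^G` is the class of `u v`.
-/

set_option autoImplicit false

namespace CfsgLib.Structure81.CoprimeClass

open Subgroup
open scoped Pointwise

variable {G : Type*} [Group G]

/-- The centralizer of an element. -/
abbrev cen (g : G) : Subgroup G := centralizer ({g} : Set G)

/-- The class size of an element. -/
noncomputable abbrev idx (g : G) : ℕ := (cen g).index

theorem mem_cen {h g : G} : h ∈ cen g ↔ Commute h g := mem_centralizer_singleton_iff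

theorem cen_le_cen_pow (g : G) (k : ℕ) : cen g ≤ cen (g ^ k) := fun _ hh =>
  mem_cen.2 ((mem_cen.1 hh).pow_right k)

theorem cen_eq_top_iff {g : G} : cen g = ⊤ ↔ g ∈ center G := by
  rw [mem_center_iff, eq_top_iff]
  exact ⟨fun h x => (mem_cen.1 (h (mem_top x))).eq, fun h x _ => mem_cen.2 (h x)⟩

theorem idx_eq_one_iff {g : G} : idx g = 1 ↔ g ∈ center G := by
  rw [idx, index_eq_one, cen_eq_top_iff]

theorem cen_conj (u g : G) : cen (g * u * g⁻¹) = (cen u).map (MulAut.conj g).toMonoidHom := by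
  ext h
  constructor
  · intro hh
    refine ⟨g⁻¹ * h * g, mem_cen.2 ?_, by simp [mul_assoc]⟩
    have h1 := (mem_cen.1 hh).eq
    show g⁻¹ * h * g * u = u * (g⁻¹ * h * g)
    calc g⁻¹ * h * g * u = g⁻¹ * (h * (g * u * g⁻¹)) * g := by group
      _ = g⁻¹ * (g * u * g⁻¹ * h) * g := by rw [h1]
      _ = u * (g⁻¹ * h * g) := by group
  · rintro ⟨k, hk, rfl⟩
    have h1 := (mem_cen.1 hk).eq
    refine mem_cen.2 ?_
    show g * k * g⁻¹ * (g * u * g⁻¹) = g * u * g⁻¹ * (g * k * g⁻¹)
    calc g * k * g⁻¹ * (g * u * g⁻¹) = g * (k * u) * g⁻¹ := by group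
      _ = g * (u * k) * g⁻¹ := by rw [h1]
      _ = g * u * g⁻¹ * (g * k * g⁻¹) := by group

theorem idx_conj (u g : G) : idx (g * u * g⁻¹) = idx u := by
  rw [idx, cen_conj]
  exact index_map_equiv (cen u) (MulAut.conj g)

variable [Finite G]

theorem idx_pow_dvd (g : G) (k : ℕ) : idx (g ^ k) ∣ idx g :=
  index_dvd_of_le (cen_le_cen_pow g k)

/-- A subgroup containing all prime-power-order powers of `g` contains `g`. -/
theorem mem_of_parts {H : Subgroup G} {g : G}
    (h : ∀ e p k : ℕ, p.Prime → orderOf (g ^ e) = p ^ k → g ^ e ∈ H) : g ∈ H := by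
  set M := H ⊓ zpowers g
  have hd : orderOf g ∣ Nat.card M := by
    refine (Nat.dvd_iff_prime_pow_dvd_dvd _ _).2 fun p k hp hpk => ?_
    have ho := orderOf_pos g
    obtain ⟨e, he⟩ := hpk
    have he0 : e ≠ 0 := fun e0 => ho.ne' (by rw [he, e0, mul_zero])
    have hord : orderOf (g ^ e) = p ^ k := by
      rw [orderOf_pow_of_dvd he0 ⟨p ^ k, by rw [he, mul_comm]⟩, he,
        Nat.mul_div_cancel _ (Nat.pos_of_ne_zero he0)]
    have hmem : g ^ e ∈ M := ⟨h e p k hp hord, pow_mem (mem_zpowers g) e⟩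
    rw [← hord, ← Subgroup.orderOf_mk (g ^ e) hmem]
    exact orderOf_dvd_natCard _
  have hle : M = zpowers g :=
    eq_of_le_of_card_ge inf_le_right (by
      rw [Nat.card_zpowers]; exact Nat.le_of_dvd Nat.card_pos hd)
  exact (hle.symm ▸ mem_zpowers g : g ∈ M).1

theorem exists_pow_eq_of_coprime {a b : G} (hab : Commute a b)
    (hcop : (orderOf a).Coprime (orderOf b)) : ∃ k : ℕ, (a * b) ^ k = a := by
  rcases eq_or_ne (orderOf a) 1 with h1 | h1
  · exact ⟨0, by rw [orderOf_eq_one_iff.1 h1, pow_zero]⟩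
  obtain ⟨t, -, ht⟩ := Nat.exists_mul_mod_eq_one_of_coprime hcop.symm
    (by have := orderOf_pos a; omega)
  refine ⟨orderOf b * t, ?_⟩
  rw [hab.mul_pow, pow_mul b, pow_orderOf_eq_one, one_pow, mul_one, ← pow_mod_orderOf, ht, pow_one]

theorem cen_mul {a b : G} (hab : Commute a b) (hcop : (orderOf a).Coprime (orderOf b)) :
    cen (a * b) = cen a ⊓ cen b := by
  refine le_antisymm (le_inf ?_ ?_) fun h hh =>
    mem_cen.2 ((mem_cen.1 hh.1).mul_right (mem_cen.1 hh.2))
  · obtain ⟨k, hk⟩ := exists_pow_eq_of_coprime hab hcop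
    nth_rw 2 [← hk]
    exact cen_le_cen_pow _ k
  · obtain ⟨k, hk⟩ := exists_pow_eq_of_coprime hab.symm hcop.symm
    rw [← hab.eq] at hk
    nth_rw 2 [← hk]
    exact cen_le_cen_pow _ k

/-- The conjugacy class of `u`, as a set. -/
def clas (u : G) : Set G := Set.range fun g => g * u * g⁻¹

omit [Finite G] in
theorem mem_clas_self (u : G) : u ∈ clas u := ⟨1, by simp⟩

theorem card_clas (u : G) : Nat.card (clas u) = idx u := by
  let f : G ⧸ cen u → clas u := Quotient.lift (fun g => ⟨g * u * g⁻¹, g, rfl⟩) (fun a b hab => by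
    have hab' : QuotientGroup.leftRel (cen u) a b := hab
    rw [QuotientGroup.leftRel_apply, mem_cen] at hab'
    have h1 := hab'.eq
    apply Subtype.ext
    show a * u * a⁻¹ = b * u * b⁻¹
    calc a * u * a⁻¹ = a * (u * (a⁻¹ * b)) * b⁻¹ := by group
      _ = a * ((a⁻¹ * b) * u) * b⁻¹ := by rw [h1]
      _ = b * u * b⁻¹ := by group)
  rw [idx, index_eq_card]
  refine (Nat.card_eq_of_bijective f ⟨?_, ?_⟩).symm
  · intro a b
    induction a using QuotientGroup.induction_on with
    | H a =>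
    induction b using QuotientGroup.induction_on with
    | H b =>
    intro h
    have h1 : a * u * a⁻¹ = b * u * b⁻¹ := congrArg Subtype.val h
    rw [QuotientGroup.eq, mem_cen]
    show a⁻¹ * b * u = u * (a⁻¹ * b)
    calc a⁻¹ * b * u = a⁻¹ * (b * u * b⁻¹) * b := by group
      _ = a⁻¹ * (a * u * a⁻¹) * b := by rw [h1]
      _ = u * (a⁻¹ * b) := by group
  · rintro ⟨_, g, rfl⟩
    exact ⟨g, rfl⟩

theorem index_inf_eq {H D : Subgroup G} (hcop : H.index.Coprime D.index) :
    (H ⊓ D).index = H.index * D.index := by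
  refine le_antisymm index_inf_le (Nat.le_of_dvd (Nat.pos_of_ne_zero index_ne_zero_of_finite)
    (hcop.mul_dvd_of_dvd_of_dvd (index_dvd_of_le inf_le_left) (index_dvd_of_le inf_le_right)))

/-- Two subgroups of coprime index factorize the group. -/
theorem exists_mul {H D : Subgroup G} (hcop : H.index.Coprime D.index) (x : G) :
    ∃ h ∈ H, ∃ d ∈ D, x = h * d := by
  let f : H ⧸ D.subgroupOf H → G ⧸ D := Quotient.map' (fun y : H => (y : G)) fun a b h => by
    rw [QuotientGroup.leftRel_apply] at h ⊢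
    exact h
  have hinj : Function.Injective f := by
    intro u v
    refine Quotient.inductionOn₂' u v fun a b h => ?_
    exact QuotientGroup.eq.2 (QuotientGroup.eq.1
      (h : (QuotientGroup.mk (a : G) : G ⧸ D) = QuotientGroup.mk (b : G)) :)
  have h1 : (H ⊓ D).relIndex H * H.index = (H ⊓ D).index := relIndex_mul_index inf_le_left
  rw [inf_relIndex_left, index_inf_eq hcop, mul_comm] at h1
  have h2 : D.relIndex H = D.index :=
    Nat.eq_of_mul_eq_mul_left (Nat.pos_of_ne_zero index_ne_zero_of_finite) h1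
  obtain ⟨u, hu⟩ := (hinj.bijective_of_nat_card_le (le_of_eq h2.symm)).2 (QuotientGroup.mk (s := D) x)
  obtain ⟨d, rfl⟩ := QuotientGroup.mk_surjective u
  exact ⟨d, d.2, (d : G)⁻¹ * x, QuotientGroup.eq.1 hu, by group⟩

/-- Pairs from two classes of coprime size are all conjugate. -/
theorem exists_simul {u v u' v' : G} (hcop : (idx u).Coprime (idx v)) (hu : u' ∈ clas u)
    (hv : v' ∈ clas v) : ∃ g : G, g * u * g⁻¹ = u' ∧ g * v * g⁻¹ = v' := by
  obtain ⟨a, rfl⟩ := hu
  obtain ⟨b, rfl⟩ := hv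
  obtain ⟨c, hc, d, hd, hcd⟩ := exists_mul hcop (a⁻¹ * b)
  have hc' := (mem_cen.1 hc).eq
  have hd' := (mem_cen.1 hd).eq
  refine ⟨a * c, ?_, ?_⟩
  · calc a * c * u * (a * c)⁻¹ = a * (c * u) * c⁻¹ * a⁻¹ := by group
      _ = a * u * a⁻¹ := by rw [hc']; group
  · have hb : b = a * c * d := by rw [mul_assoc, ← hcd]; group
    calc a * c * v * (a * c)⁻¹ = a * c * (v * d) * d⁻¹ * (a * c)⁻¹ := by group
      _ = a * c * (d * v) * d⁻¹ * (a * c)⁻¹ := by rw [hd']
      _ = b * v * b⁻¹ := by rw [hb]; group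

theorem mul_mem_clas {u v u' v' : G} (hcop : (idx u).Coprime (idx v)) (hu : u' ∈ clas u)
    (hv : v' ∈ clas v) : u' * v' ∈ clas (u * v) := by
  obtain ⟨g, h1, h2⟩ := exists_simul hcop hu hv
  exact ⟨g, by rw [← h1, ← h2]; simp [mul_assoc]⟩

theorem idx_le_idx_mul_right {u v : G} (hcop : (idx u).Coprime (idx v)) :
    idx v ≤ idx (u * v) := by
  rw [← card_clas, ← card_clas]
  exact Nat.card_le_card_of_injective
    (fun w : clas v => (⟨u * w, mul_mem_clas hcop (mem_clas_self u) w.2⟩ : clas (u * v)))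
    fun a b h => Subtype.ext (mul_left_cancel (congrArg Subtype.val h))

theorem idx_le_idx_mul_left {u v : G} (hcop : (idx u).Coprime (idx v)) :
    idx u ≤ idx (u * v) := by
  rw [← card_clas, ← card_clas]
  exact Nat.card_le_card_of_injective
    (fun w : clas u => (⟨w * v, mul_mem_clas hcop w.2 (mem_clas_self v)⟩ : clas (u * v)))
    fun a b h => Subtype.ext (mul_right_cancel (congrArg Subtype.val h))

theorem idx_mul_dvd {u v : G} (hcop : (idx u).Coprime (idx v)) :
    idx (u * v) ∣ idx u * idx v := by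
  rw [← index_inf_eq hcop]
  exact index_dvd_of_le fun h hh => mem_cen.2 ((mem_cen.1 hh.1).mul_right (mem_cen.1 hh.2))

/-- The subgroup generated by the quotients `u⁻¹ u^g`. -/
def comSub (u : G) : Subgroup G := closure (Set.range fun g => u⁻¹ * (g * u * g⁻¹))

omit [Finite G] in
theorem mem_comSub (u g : G) : u⁻¹ * (g * u * g⁻¹) ∈ comSub u := subset_closure ⟨g, rfl⟩

omit [Finite G] in
theorem comSub_normal (u : G) : (comSub u).Normal := by
  refine ⟨fun x hx h => ?_⟩
  have : comSub u ≤ (comSub u).comap (MulAut.conj h).toMonoidHom := by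
    rw [comSub, closure_le]
    rintro _ ⟨g, rfl⟩
    show h * (u⁻¹ * (g * u * g⁻¹)) * h⁻¹ ∈ comSub u
    have e : h * (u⁻¹ * (g * u * g⁻¹)) * h⁻¹ =
        (u⁻¹ * (h * u * h⁻¹))⁻¹ * (u⁻¹ * (h * g * u * (h * g)⁻¹)) := by group
    rw [e]
    exact mul_mem (inv_mem (mem_comSub u h)) (mem_comSub u (h * g))
  exact this hx

/-- If `uv` has class size at most that of `v` then left multiplication by `comSub u` preserves the
class of `v`. -/
theorem comSub_mul_mem {u v : G} (hcop : (idx u).Coprime (idx v)) (hle : idx (u * v) ≤ idx v)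
    {l : G} (hl : l ∈ comSub u) {w : G} (hw : w ∈ clas v) : l * w ∈ clas v := by
  let S : Subgroup G :=
    { carrier := {l | ∀ w, w ∈ clas v ↔ l * w ∈ clas v}
      one_mem' := fun w => by simp
      mul_mem' := fun {a b} ha hb w => by rw [hb w, ha (b * w), mul_assoc]
      inv_mem' := fun {a} ha w => by rw [ha (a⁻¹ * w), mul_inv_cancel_left] }
  have hS : comSub u ≤ S := by
    rw [comSub, closure_le]
    rintro _ ⟨g, rfl⟩
    have himg : ∀ u' ∈ clas u, (fun w => u' * w) '' clas v = clas (u * v) := by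
      intro u' hu'
      refine Set.eq_of_subset_of_ncard_le ?_ ?_ (Set.toFinite _)
      · rintro _ ⟨w, hw, rfl⟩
        exact mul_mem_clas hcop hu' hw
      · rw [Set.ncard_image_of_injective _ (mul_right_injective u'), ← Nat.card_coe_set_eq,
          ← Nat.card_coe_set_eq, card_clas, card_clas]
        exact hle
    intro w
    show w ∈ clas v ↔ _
    have hmem : u * ((u⁻¹ * (g * u * g⁻¹)) * w) = g * u * g⁻¹ * w := by group
    constructor
    · intro hw
      have h2 : g * u * g⁻¹ * w ∈ (fun w => u * w) '' clas v := by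
        rw [himg u (mem_clas_self u), ← himg _ ⟨g, rfl⟩]
        exact ⟨w, hw, rfl⟩
      obtain ⟨w', hw', e⟩ := h2
      rw [← hmem] at e
      exact (mul_left_cancel e) ▸ hw'
    · intro hw
      have h2 : u * (u⁻¹ * (g * u * g⁻¹) * w) ∈ (fun w => g * u * g⁻¹ * w) '' clas v := by
        rw [himg _ ⟨g, rfl⟩, ← himg u (mem_clas_self u)]
        exact ⟨_, hw, rfl⟩
      obtain ⟨w', hw', e⟩ := h2
      rw [hmem] at e
      exact (mul_left_cancel e) ▸ hw'
  exact (hS hl w).1 hw

/-- A subgroup preserving a finite set by left multiplication has order dividing its size. -/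
theorem card_dvd_of_mul_mem (L : Subgroup G) (S : Set G) (h : ∀ l ∈ L, ∀ w ∈ S, l * w ∈ S) :
    Nat.card L ∣ Nat.card S := by
  have hS : (QuotientGroup.mk (s := L)) ⁻¹' ((QuotientGroup.mk (s := L)) '' S⁻¹) = S⁻¹ := by
    refine Set.Subset.antisymm ?_ (Set.subset_preimage_image _ _)
    rintro a ⟨b, hb, hab⟩
    rw [QuotientGroup.eq] at hab
    rw [Set.mem_inv] at hb ⊢
    have : a⁻¹ = (b⁻¹ * a)⁻¹ * b⁻¹ := by group
    rw [this]
    exact h _ (inv_mem hab) _ hb
  have := Nat.card_congr (QuotientGroup.preimageMkEquivSubgroupProdSet L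
    ((QuotientGroup.mk (s := L)) '' S⁻¹))
  rw [hS, Nat.card_prod, Set.natCard_inv] at this
  exact this ▸ Dvd.intro _ rfl

/-- If `|comSub u|` is coprime to the class size of `u` it centralizes `u`. -/
theorem comSub_le_cen {u : G} (hcop : (Nat.card (comSub u)).Coprime (idx u)) :
    comSub u ≤ cen u := by
  haveI := comSub_normal u
  rw [← relIndex_eq_one]
  refine Nat.eq_one_of_dvd_coprimes hcop (relIndex_dvd_card _ _) ?_
  have h1 : (cen u).relIndex (cen u ⊔ comSub u) * (cen u ⊔ comSub u).index = idx u :=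
    relIndex_mul_index le_sup_left
  rw [← h1]
  refine Dvd.dvd.mul_right ?_ _
  have h2 : (comSub u ⊓ cen u).relIndex (comSub u) * (comSub u).relIndex (cen u ⊔ comSub u) =
      (comSub u ⊓ cen u).relIndex (cen u ⊔ comSub u) :=
    relIndex_mul_relIndex _ _ _ inf_le_left le_sup_right
  have h3 : (comSub u ⊓ cen u).relIndex (cen u) * (cen u).relIndex (cen u ⊔ comSub u) =
      (comSub u ⊓ cen u).relIndex (cen u ⊔ comSub u) :=
    relIndex_mul_relIndex _ _ _ inf_le_right le_sup_left
  rw [← h3, inf_relIndex_left, inf_relIndex_right, relIndex_sup_right, mul_comm] at h2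
  exact (Nat.eq_of_mul_eq_mul_left (Nat.pos_of_ne_zero
    (index_ne_zero_of_finite : ((comSub u).subgroupOf (cen u)).index ≠ 0)) h2) ▸ dvd_refl _

end CfsgLib.Structure81.CoprimeClass
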