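import Cfsg.Prelude.Def_Solvable
import Cfsg.Agent.Lib.Frobenius.Action
import Cfsg.Agent.Lib.Frobenius.Basic
import Cfsg.Agent.Lib.Structure81.CoprimeClassBasic

/-!
# Groups whose two largest class sizes are coprime

If the two largest class sizes `n < m` are coprime then `G ⧸ Z(G)` is a Frobenius group.
-/

set_option autoImplicit false
set_option linter.style.haveILetI false

namespace CfsgLib.Structure81.CoprimeClass

open Subgroup
open scoped Pointwise

variable {G : Type*} [Group G]

/-- The two largest class sizes are at most `n` and `m`. -/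
structure Top (G : Type*) [Group G] (m n : ℕ) : Prop where
  lt : n < m
  one_lt : 1 < n
  cop : m.Coprime n
  top : ∀ z : G, idx z ≤ m
  second : ∀ z : G, idx z < m → idx z ≤ n

/-- An element of class size `n` whose order involves only primes of `m`. -/
def IsX (m n : ℕ) (x : G) : Prop := idx x = n ∧ ∀ p : ℕ, p.Prime → p ∣ orderOf x → p ∣ m

theorem mem_of_coprime_pow {H : Subgroup G} {g : G} {a b : ℕ} (hab : a.Coprime b)
    (ha : g ^ a ∈ H) (hb : g ^ b ∈ H) : g ∈ H := by
  have h := Nat.gcd_eq_gcd_ab a b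
  rw [hab.gcd_eq_one, Nat.cast_one] at h
  have e : g = (g ^ a) ^ (a.gcdA b) * (g ^ b) ^ (a.gcdB b) := by
    rw [← zpow_natCast g a, ← zpow_natCast g b, ← zpow_mul, ← zpow_mul, ← zpow_add, ← h, zpow_one]
  rw [e]
  exact mul_mem (zpow_mem ha _) (zpow_mem hb _)

theorem conj_pow_eq_one {z g : G} {k : ℕ} (h : z ^ k = 1) : (g * z * g⁻¹) ^ k = 1 := by
  rw [← MulAut.conj_apply, ← map_pow, h, map_one]

variable [Finite G]

theorem eq_of_le_of_index_le {H K : Subgroup G} (hle : H ≤ K) (hidx : H.index ≤ K.index) :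
    H = K := by
  refine eq_of_le_of_card_ge hle ?_
  have h1 := H.card_mul_index
  have h2 := K.card_mul_index
  have h3 : 0 < K.index := Nat.pos_of_ne_zero index_ne_zero_of_finite
  by_contra hlt
  push Not at hlt
  have h4 : Nat.card H * H.index ≤ Nat.card H * K.index := Nat.mul_le_mul_left _ hidx
  have h5 : Nat.card H * K.index < Nat.card K * K.index := Nat.mul_lt_mul_of_pos_right hlt h3
  omega

theorem pElem_pow {g : G} {e p k : ℕ} (h : orderOf (g ^ e) = p ^ k) : (g ^ e) ^ p ^ k = 1 :=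
  h ▸ pow_orderOf_eq_one _

theorem coprime_orderOf {a b : G} {q k : ℕ} (hq : q.Prime) (ha : a ^ q ^ k = 1)
    (hb : ¬ q ∣ orderOf b) : (orderOf a).Coprime (orderOf b) :=
  Nat.Coprime.coprime_dvd_left (orderOf_dvd_of_pow_eq_one ha)
    (Nat.Coprime.pow_left k (hq.coprime_iff_not_dvd.2 hb))

theorem isPGroup_zpowers {z : G} {q k : ℕ} (hq : q.Prime) (hz : z ^ q ^ k = 1) :
    IsPGroup q (zpowers z) := by
  haveI := Fact.mk hq
  obtain ⟨r, -, hr⟩ := (Nat.dvd_prime_pow hq).1 (orderOf_dvd_of_pow_eq_one hz)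
  exact IsPGroup.of_card (n := r) (by rw [Nat.card_zpowers, hr])

theorem exists_conj_mem {H : Subgroup G} {v : G} {r k : ℕ} (hr : r.Prime)
    (hH : ¬ r ∣ H.index) (hv : v ^ r ^ k = 1) : ∃ g : G, g * v * g⁻¹ ∈ H := by
  haveI := Fact.mk hr
  rw [index_eq_card] at hH
  obtain ⟨c, hc⟩ := (isPGroup_zpowers hr hv).nonempty_fixed_point_of_prime_not_dvd_card (G ⧸ H) hH
  obtain ⟨g, rfl⟩ := QuotientGroup.mk_surjective c
  have h := CfsgLib.Frobenius.smul_mk_eq_self_iff.1 (hc ⟨v, mem_zpowers v⟩)
  exact ⟨g⁻¹, by simpa using h⟩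

variable {m n : ℕ}

namespace Top

theorem eq_or_le (H : Top G m n) (z : G) : idx z = m ∨ idx z ≤ n :=
  (H.top z).eq_or_lt.imp_right (H.second z)

theorem eq_of_dvd (H : Top G m n) {z : G} (h : m ∣ idx z) : idx z = m :=
  le_antisymm (H.top z) (Nat.le_of_dvd (Nat.pos_of_ne_zero index_ne_zero_of_finite) h)

theorem eq_of_dvd_n (H : Top G m n) {z : G} (h : n ∣ idx z) : idx z = n := by
  rcases H.eq_or_le z with h1 | h1
  · exfalso
    rw [h1] at h
    exact H.one_lt.ne' (Nat.eq_one_of_dvd_coprimes H.cop h dvd_rfl)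
  · exact le_antisymm h1 (Nat.le_of_dvd (Nat.pos_of_ne_zero index_ne_zero_of_finite) h)

variable {x y : G}

theorem card_comSub_dvd (H : Top G m n) (hy : idx y = m) {u : G} (hu : (idx u).Coprime m) :
    Nat.card (comSub u) ∣ m := by
  rw [← hy, ← card_clas]
  exact card_dvd_of_mul_mem _ _ fun l hl w hw =>
    comSub_mul_mem (hy.symm ▸ hu) (hy.symm ▸ H.top _) hl hw

/-- `q`-elements of class size prime to `m` are central when `q ∤ m`. -/
theorem central_of_coprime (H : Top G m n) (hy : idx y = m) {u : G} {q k : ℕ} (hq : q.Prime)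
    (hqm : ¬ q ∣ m) (hu : u ^ q ^ k = 1) (hcop : (idx u).Coprime m) : u ∈ center G := by
  have hL := H.card_comSub_dvd hy hcop
  have hle := comSub_le_cen (Nat.Coprime.coprime_dvd_left hL hcop.symm)
  rw [mem_center_iff]
  intro g
  set l := u⁻¹ * (g * u * g⁻¹) with hl
  have hc : Commute l u := mem_cen.1 (hle (mem_comSub u g))
  have h1 : l ^ q ^ k = 1 := by
    have h2 : (u * l) ^ q ^ k = 1 := by
      rw [hl, mul_inv_cancel_left]; exact conj_pow_eq_one hu
    rwa [hc.symm.mul_pow, hu, one_mul] at h2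
  have h2 : l ^ Nat.card (comSub u) = 1 :=
    orderOf_dvd_iff_pow_eq_one.1 (Subgroup.orderOf_mk l (mem_comSub u g) ▸
      orderOf_dvd_natCard (⟨l, mem_comSub u g⟩ : comSub u))
  have h3 : l = 1 := orderOf_eq_one_iff.1 (Nat.eq_one_of_dvd_coprimes
    (Nat.Coprime.pow_left k (hq.coprime_iff_not_dvd.2 hqm))
    (orderOf_dvd_of_pow_eq_one h1) ((orderOf_dvd_of_pow_eq_one h2).trans hL))
  rw [hl, inv_mul_eq_one, eq_mul_inv_iff_mul_eq] at h3
  exact h3.symm

theorem exists_isX (H : Top G m n) (hy : idx y = m) : ∀ (N : ℕ) (x : G), orderOf x ≤ N →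
    idx x = n → ∃ x' : G, IsX m n x' ∧ cen x' = cen x := by
  intro N
  induction N with
  | zero => intro x hx; exact absurd hx (not_le.2 (orderOf_pos x))
  | succ N ih =>
    intro x hxN hx
    by_cases hall : ∀ p : ℕ, p.Prime → p ∣ orderOf x → p ∣ m
    · exact ⟨x, ⟨hx, hall⟩, rfl⟩
    push Not at hall
    obtain ⟨q, hq, hqx, hqm⟩ := hall
    set a := q ^ (orderOf x).factorization q with ha
    set c := orderOf x / a with hc
    have hac : a * c = orderOf x := Nat.ordProj_mul_ordCompl_eq_self (orderOf x) q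
    have hcop : a.Coprime c := Nat.Coprime.pow_left _ (hq.coprime_iff_not_dvd.2
      (Nat.not_dvd_ordCompl hq (orderOf_pos x).ne'))
    have hu : (x ^ c) ^ a = 1 := by rw [← pow_mul, mul_comm, hac, pow_orderOf_eq_one]
    have hcen : x ^ c ∈ center G := H.central_of_coprime hy hq hqm hu
      (Nat.Coprime.coprime_dvd_left (idx_pow_dvd x c) (hx.symm ▸ H.cop.symm))
    have heq : cen (x ^ a) = cen x := by
      refine le_antisymm (fun h hh => ?_) (cen_le_cen_pow x a)
      refine mem_cen.2 (Commute.symm (mem_cen.1 ?_))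
      refine mem_of_coprime_pow hcop (mem_cen.2 (mem_cen.1 hh).symm) (mem_cen.2 ?_)
      exact Commute.symm (mem_center_iff.1 hcen h)
    have ha2 : 1 < a := Nat.one_lt_pow (hq.factorization_pos_of_dvd (orderOf_pos x).ne' hqx).ne'
      hq.one_lt
    have hord : orderOf (x ^ a) = c := by
      rw [orderOf_pow_of_dvd (by omega) ⟨c, hac.symm⟩]
    obtain ⟨x', h1, h2⟩ := ih (x ^ a) (by
      rw [hord]
      have := orderOf_pos x
      have : c < orderOf x := by rw [hc]; exact Nat.div_lt_self (orderOf_pos x) ha2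
      omega) (by rw [idx, heq]; exact hx)
    exact ⟨x', h1, h2.trans heq⟩

/-- In the centralizer of `x` the elements of `q`-power order, `q ∤ m`, are central. -/
theorem central_of_mem_cen (H : Top G m n) (hy : idx y = m) (hx : IsX m n x) {z : G} {q k : ℕ}
    (hq : q.Prime) (hqm : ¬ q ∣ m) (hz : z ^ q ^ k = 1) (hzx : z ∈ cen x) : z ∈ center G := by
  have hcop : (orderOf z).Coprime (orderOf x) :=
    coprime_orderOf hq hz fun hd => hqm (hx.2 q hq hd)
  have hmul := cen_mul (mem_cen.1 hzx) hcop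
  have h1 : n ∣ idx (z * x) := by
    rw [← hx.1]; exact index_dvd_of_le (hmul ▸ inf_le_right)
  have h2 := H.eq_of_dvd_n h1
  have h3 : cen z ⊓ cen x = cen x := by
    refine eq_of_le_of_index_le inf_le_right ?_
    rw [← hmul]
    exact (h2.trans hx.1.symm).le
  have h4 : idx z ∣ n := hx.1 ▸ index_dvd_of_le (h3 ▸ inf_le_left)
  exact H.central_of_coprime hy hq hqm hz (Nat.Coprime.coprime_dvd_left h4 H.cop.symm)

/-- A noncentral element of class size prime to `n` has class size `m`. -/
theorem eq_m_of_coprime (H : Top G m n) (hy : idx y = m) (hx : IsX m n x) {v : G}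
    (hv : v ∉ center G) (hcop : (idx v).Coprime n) : idx v = m := by
  have hcop' : (idx x).Coprime (idx v) := hx.1 ▸ hcop.symm
  rcases H.eq_or_le (x * v) with hs | hs
  · have h1 : m ∣ n * idx v := hs ▸ hx.1 ▸ idx_mul_dvd hcop'
    exact H.eq_of_dvd (H.cop.dvd_of_dvd_mul_left h1)
  · exfalso
    apply hv
    have hle : idx (v * x) ≤ idx x := by
      rw [show v * x = v * (x * v) * v⁻¹ by group, idx_conj, hx.1]
      exact hs
    have hD : Nat.card (comSub v) ∣ n := by
      rw [← hx.1, ← card_clas]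
      exact card_dvd_of_mul_mem _ _ fun l hl w hw => comSub_mul_mem hcop'.symm hle hl hw
    have hLx := H.card_comSub_dvd hy (hx.1.symm ▸ H.cop.symm : (idx x).Coprime m)
    rw [mem_center_iff]
    intro g
    obtain ⟨g', hg'⟩ := comSub_mul_mem hcop'.symm hle (mem_comSub v g) (mem_clas_self x)
    set l := v⁻¹ * (g * v * g⁻¹) with hl
    have hlL : l ∈ comSub x := by
      haveI := comSub_normal x
      have h2 := (comSub_normal x).conj_mem _ (mem_comSub x g') x
      have e : x * (x⁻¹ * (g' * x * g'⁻¹)) * x⁻¹ = l := by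
        simp only at hg'
        rw [hg']; group
      rwa [e] at h2
    have h3 : l = 1 := orderOf_eq_one_iff.1 (Nat.eq_one_of_dvd_coprimes H.cop
      ((Subgroup.orderOf_mk l hlL ▸ orderOf_dvd_natCard (⟨l, hlL⟩ : comSub x)).trans hLx)
      ((Subgroup.orderOf_mk l (mem_comSub v g) ▸
        orderOf_dvd_natCard (⟨l, mem_comSub v g⟩ : comSub v)).trans hD))
    rw [hl, inv_mul_eq_one, eq_mul_inv_iff_mul_eq] at h3
    exact h3.symm

/-- An element of `r`-power order, `r ∣ m`, of class size prime to `n` is central. -/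
theorem central_of_dvd (H : Top G m n) (hy : idx y = m) (hx : IsX m n x) {v : G} {r k : ℕ}
    (hr : r.Prime) (hrm : r ∣ m) (hv : v ^ r ^ k = 1) (hcop : (idx v).Coprime n) :
    v ∈ center G := by
  have hrn : ¬ r ∣ n := fun hd => hr.not_dvd_one (H.cop ▸ Nat.dvd_gcd hrm hd)
  obtain ⟨g, hg⟩ := exists_conj_mem (H := cen x) hr
    (by rw [show (cen x).index = n from hx.1]; exact hrn) hv
  by_contra hvc
  set w := g * v * g⁻¹ with hw
  have hwm : idx w = m := by rw [hw, idx_conj]; exact H.eq_m_of_coprime hy hx hvc hcop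
  have hxw : x ∈ cen w := mem_cen.2 (mem_cen.1 hg).symm
  obtain ⟨q, hq, hqn⟩ := Nat.exists_prime_and_dvd H.one_lt.ne'
  haveI := Fact.mk hq
  have hqm : ¬ q ∣ m := fun hd => hq.not_dvd_one (H.cop ▸ Nat.dvd_gcd hd hqn)
  obtain ⟨S⟩ := (inferInstance : Nonempty (Sylow q (cen w)))
  have hS : (S : Subgroup (cen w)).map (cen w).subtype ≤ center G := by
    rintro _ ⟨z, hz, rfl⟩
    obtain ⟨i, hi⟩ := S.isPGroup' ⟨z, hz⟩
    have hzi : (z : G) ^ q ^ i = 1 := by
      simpa using congrArg (fun t : (S : Subgroup (cen w)) => ((t : cen w) : G)) hi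
    have hzw : Commute (z : G) w := mem_cen.1 z.2
    have hwq : ¬ q ∣ orderOf w := fun hd => hrn ((Nat.prime_dvd_prime_iff_eq hq hr).1
      (hq.dvd_of_dvd_pow (hd.trans (orderOf_dvd_of_pow_eq_one (conj_pow_eq_one hv)))) ▸ hqn)
    have hmul := cen_mul hzw (coprime_orderOf hq hzi hwq)
    have h2 : idx ((z : G) * w) = m := H.eq_of_dvd (hwm ▸ index_dvd_of_le (hmul ▸ inf_le_right))
    have h3 : cen (z : G) ⊓ cen w = cen w := by
      refine eq_of_le_of_index_le inf_le_right ?_
      rw [← hmul]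
      exact (h2.trans hwm.symm).le
    exact H.central_of_mem_cen hy hx hq hqm hzi
      (mem_cen.2 (mem_cen.1 (h3.ge hxw).1).symm)
  have h1 : Nat.card (S : Subgroup (cen w)) ∣ Nat.card (cen x) := by
    rw [← card_map_of_injective (cen w).subtype_injective]
    exact (card_dvd_of_le hS).trans (card_dvd_of_le (center_le_centralizer _))
  have hG := (cen w).card_mul_index
  have hGx := (cen x).card_mul_index
  rw [show (cen w).index = m from hwm] at hG
  rw [show (cen x).index = n from hx.1] at hGx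
  rw [S.card_eq_multiplicity] at h1
  have hfac : (Nat.card (cen w)).factorization q = (Nat.card G).factorization q := by
    rw [← hG, Nat.factorization_mul Nat.card_pos.ne' (by have := H.lt; omega), Finsupp.add_apply,
      Nat.factorization_eq_zero_of_not_dvd hqm, add_zero]
  rw [hfac] at h1
  refine Nat.pow_succ_factorization_not_dvd (Nat.card_pos (α := G)).ne' hq ?_
  rw [← hGx, pow_succ]
  exact mul_dvd_mul (by rwa [hGx]) hqn

/-- A noncentral element of class size `m` has a noncentral part of order prime to `m`, with the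
same centralizer. -/
theorem exists_part (H : Top G m n) (hy : idx y = m) (hx : IsX m n x) {g : G} (hg : idx g = m) :
    ∃ (v : G) (q k : ℕ), q.Prime ∧ ¬ q ∣ m ∧ v ^ q ^ k = 1 ∧ idx v = m ∧ cen v = cen g := by
  have hgc : g ∉ center G := fun h => by
    rw [← idx_eq_one_iff, hg] at h; have := H.lt; have := H.one_lt; omega
  by_contra hno
  apply hgc
  refine mem_of_parts fun e p k hp hpk => ?_
  have hcop : (idx (g ^ e)).Coprime n := Nat.Coprime.coprime_dvd_left (hg ▸ idx_pow_dvd g e) H.cop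
  by_cases hpm : p ∣ m
  · exact H.central_of_dvd hy hx hp hpm (pElem_pow hpk) hcop
  · by_contra hc
    have hm := H.eq_m_of_coprime hy hx hc hcop
    exact hno ⟨g ^ e, p, k, hp, hpm, pElem_pow hpk, hm,
      (eq_of_le_of_index_le (cen_le_cen_pow g e) (hg.trans hm.symm).le).symm⟩

/-- The abelian normal subgroup generated by the class of `x`. -/
theorem clas_closure (H : Top G m n) (hy : idx y = m) (hx : IsX m n x) :
    (closure (clas x)).Normal ∧ IsMulCommutative (closure (clas x)) ∧
      ∀ a ∈ closure (clas x), a ^ orderOf x = 1 := by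
  have hL := comSub_le_cen (u := x) (Nat.Coprime.coprime_dvd_left
    (H.card_comSub_dvd hy (hx.1.symm ▸ H.cop.symm)) (hx.1.symm ▸ H.cop))
  have hL' : ∀ g g' : G, Commute (g * x * g⁻¹) (g' * x * g'⁻¹) := by
    intro g g'
    have h1 : Commute x (x⁻¹ * ((g⁻¹ * g') * x * (g⁻¹ * g')⁻¹)) :=
      (mem_cen.1 (hL (mem_comSub x (g⁻¹ * g')))).symm
    have h2 : Commute x ((g⁻¹ * g') * x * (g⁻¹ * g')⁻¹) := by
      have := (Commute.refl x).mul_right h1
      rwa [mul_inv_cancel_left] at this
    have h3 := (h2.map (MulAut.conj g).toMonoidHom)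
    simpa [mul_assoc] using h3
  haveI hcomm : IsMulCommutative (closure (clas x)) := isMulCommutative_closure (by
    rintro _ ⟨g, rfl⟩ _ ⟨g', rfl⟩
    exact (hL' g g').eq)
  refine ⟨⟨fun a ha h => ?_⟩, hcomm, fun a ha => ?_⟩
  · have : closure (clas x) ≤ (closure (clas x)).comap (MulAut.conj h).toMonoidHom := by
      rw [closure_le]
      rintro _ ⟨g, rfl⟩
      exact subset_closure ⟨h * g, by simp [mul_assoc]⟩
    exact this ha
  · induction ha using closure_induction with
    | mem b hb =>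
      obtain ⟨g, rfl⟩ := hb
      exact conj_pow_eq_one (pow_orderOf_eq_one x)
    | one => simp
    | mul a b ha hb iha ihb =>
      have : Commute a b :=
        congrArg Subtype.val (mul_comm' (⟨a, ha⟩ : closure (clas x)) ⟨b, hb⟩)
      rw [this.mul_pow, iha, ihb, one_mul]
    | inv a ha iha => rw [inv_pow, iha, inv_one]

omit [Finite G] in
/-- Coprime decomposition of an abelian normal subgroup with respect to an element. -/
theorem exists_split [Finite G] (A : Subgroup G) [A.Normal] [IsMulCommutative A] {z : G} {N e : ℕ}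
    (hz : z ^ N = 1) (hA : ∀ a ∈ A, a ^ e = 1) (hNe : N.Coprime e) :
    ∃ W : Subgroup G, W ≤ A ∧ (∀ d : G, Commute d z → ∀ w ∈ W, d * w * d⁻¹ ∈ W) ∧
      (∀ w ∈ W, Commute w z → w = 1) ∧
      ∀ x ∈ A, ∃ a ∈ A, Commute a z ∧ ∃ w ∈ W, x = a * w := by
  letI : CommGroup A := { (inferInstance : Group A) with mul_comm := fun a b => mul_comm' a b }
  let φ : A →* A := MonoidHom.mk' (fun a => a⁻¹ * MulAut.conjNormal z a) fun a b => by
    rw [map_mul, mul_inv, mul_mul_mul_comm]
  have hφ : ∀ a : A, ((φ a : A) : G) = (a : G)⁻¹ * (z * a * z⁻¹) := fun a => by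
    simp [φ, MulAut.conjNormal_apply]
  have hker : ∀ a : A, φ a = 1 ↔ Commute (a : G) z := by
    intro a
    rw [Subtype.ext_iff, hφ, OneMemClass.coe_one, inv_mul_eq_one, eq_mul_inv_iff_mul_eq]
    exact Iff.rfl
  have hinter : ∀ b : A, φ (φ b) = 1 → φ b = 1 := by
    intro b hc
    set c := φ b
    have hcz : Commute (c : G) z := (hker c).1 hc
    have hb : z * b * z⁻¹ = (b : G) * c := by rw [hφ]; group
    have hiter : ∀ i : ℕ, z ^ i * b * (z ^ i)⁻¹ = (b : G) * (c : G) ^ i := by
      intro i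
      induction i with
      | zero => simp
      | succ i ih =>
        calc z ^ (i + 1) * b * (z ^ (i + 1))⁻¹ = z * (z ^ i * b * (z ^ i)⁻¹) * z⁻¹ := by
              rw [pow_succ']; group
          _ = (z * b * z⁻¹) * (z * (c : G) ^ i * z⁻¹) := by rw [ih]; group
          _ = (b : G) * c * (c : G) ^ i := by rw [hb, ← (hcz.pow_left i).eq]; group
          _ = (b : G) * (c : G) ^ (i + 1) := by rw [pow_succ', mul_assoc]
    have h1 := hiter N
    rw [hz, one_mul, inv_one, mul_one, left_eq_mul] at h1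
    refine Subtype.ext ?_
    exact orderOf_eq_one_iff.1 (Nat.eq_one_of_dvd_coprimes hNe (orderOf_dvd_of_pow_eq_one h1)
      (orderOf_dvd_of_pow_eq_one (hA _ c.2)))
  refine ⟨φ.range.map A.subtype, map_subtype_le _, ?_, ?_, ?_⟩
  · rintro d hd _ ⟨_, ⟨b, rfl⟩, rfl⟩
    refine ⟨φ (MulAut.conjNormal d b), ⟨_, rfl⟩, ?_⟩
    show ((φ (MulAut.conjNormal d b) : A) : G) = d * ((φ b : A) : G) * d⁻¹
    rw [hφ, hφ, MulAut.conjNormal_apply]
    have e1 : z * d = d * z := hd.eq.symm
    have e2 : d⁻¹ * z⁻¹ = z⁻¹ * d⁻¹ := by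
      rw [← mul_inv_rev, ← mul_inv_rev, hd.eq]
    calc (d * b * d⁻¹)⁻¹ * (z * (d * b * d⁻¹) * z⁻¹)
        = d * (b : G)⁻¹ * d⁻¹ * ((z * d) * b * (d⁻¹ * z⁻¹)) := by group
      _ = d * (b : G)⁻¹ * d⁻¹ * ((d * z) * b * (z⁻¹ * d⁻¹)) := by rw [e1, e2]
      _ = d * ((b : G)⁻¹ * (z * b * z⁻¹)) * d⁻¹ := by group
  · rintro _ ⟨_, ⟨b, rfl⟩, rfl⟩ hc
    have := hinter b ((hker _).2 hc)
    simp [this]
  · intro a ha
    let f : φ.ker × φ.range → A := fun p => (p.1 : A) * (p.2 : A)
    have hinj : Function.Injective f := by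
      rintro ⟨⟨k1, hk1⟩, ⟨_, b1, rfl⟩⟩ ⟨⟨k2, hk2⟩, ⟨_, b2, rfl⟩⟩ h
      simp only [f] at h
      have h1 := congrArg φ h
      rw [map_mul, map_mul, MonoidHom.mem_ker.1 hk1, MonoidHom.mem_ker.1 hk2, one_mul, one_mul] at h1
      have h2 : φ (φ (b1 * b2⁻¹)) = 1 := by
        rw [map_mul, map_inv, map_mul, map_inv, h1, mul_inv_cancel]
      have h3 := hinter _ h2
      rw [map_mul, map_inv, mul_inv_eq_one] at h3
      have h4 : k1 = k2 := by rwa [h3, mul_left_inj] at h
      subst h4
      simp [h3]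
    obtain ⟨⟨k, w⟩, hkw⟩ := (hinj.bijective_of_nat_card_le (by
      rw [Nat.card_prod, mul_comm]
      have := φ.ker.card_mul_index
      rw [index_ker] at this
      exact le_of_eq (by rw [mul_comm] at this; exact this.symm))).2 ⟨a, ha⟩
    exact ⟨_, (k : A).2, (hker k).1 (MonoidHom.mem_ker.1 k.2), _, mem_map_of_mem _ w.2,
      congrArg Subtype.val hkw.symm⟩

/-- A noncentral element of `q`-power order, `q ∤ m`, has class size `m`. -/
theorem eq_m_of_pElem (H : Top G m n) (hy : idx y = m) (hx : IsX m n x) {z : G} {q k : ℕ}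
    (hq : q.Prime) (hqm : ¬ q ∣ m) (hz : z ^ q ^ k = 1) (hzc : z ∉ center G) : idx z = m := by
  classical
  obtain ⟨hAn, hAc, hAo⟩ := H.clas_closure hy hx
  haveI := hAn
  haveI := hAc
  set A := closure (clas x) with hA
  have hqx : ¬ q ∣ orderOf x := fun hd => hqm (hx.2 q hq hd)
  obtain ⟨W, hWA, hWd, hWf, hWs⟩ := exists_split A hz hAo
    (Nat.Coprime.pow_left k (hq.coprime_iff_not_dvd.2 hqx))
  obtain ⟨a, haA, haz, w, hwW, hxaw⟩ := hWs x (subset_closure (mem_clas_self x))
  have hw1 : w ≠ 1 := by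
    intro e
    rw [e, mul_one] at hxaw
    exact hzc (H.central_of_mem_cen hy hx hq hqm hz (mem_cen.2 (hxaw ▸ haz.symm)))
  have hao : ¬ q ∣ orderOf a := fun hd => hqx (hd.trans (orderOf_dvd_of_pow_eq_one (hAo a haA)))
  set D := cen z ⊓ cen a with hD
  have hcza : cen (z * a) = D := cen_mul haz.symm (coprime_orderOf hq hz hao)
  have hAx : A ≤ cen x := fun b hb => mem_cen.2 (congrArg Subtype.val
    (mul_comm' (⟨b, hb⟩ : A) ⟨x, subset_closure (mem_clas_self x)⟩))
  -- the orbit of `w`
  have hlt : Nat.card D < Nat.card (cen x) := by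
    let f : D → {u : W // u ≠ 1} := fun d =>
      ⟨⟨(d : G) * w * (d : G)⁻¹, hWd d (mem_cen.1 d.2.1) w hwW⟩, fun e => hw1 (by
        simpa using congrArg Subtype.val e)⟩
    choose s hs using fun u : Set.range f => u.2
    have hval : ∀ d d' : D, f d = f d' → ((d' : G)⁻¹ * d) ∈ cen x := by
      intro d d' h
      have h1 : (d : G) * w * (d : G)⁻¹ = (d' : G) * w * (d' : G)⁻¹ :=
        congrArg (fun u : {u : W // u ≠ 1} => ((u : W) : G)) h
      have h2 : Commute ((d' : G)⁻¹ * d) w := by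
        show (d' : G)⁻¹ * d * w = w * ((d' : G)⁻¹ * d)
        calc (d' : G)⁻¹ * d * w = (d' : G)⁻¹ * ((d : G) * w * (d : G)⁻¹) * d := by group
          _ = (d' : G)⁻¹ * ((d' : G) * w * (d' : G)⁻¹) * d := by rw [h1]
          _ = w * ((d' : G)⁻¹ * d) := by group
      rw [mem_cen, hxaw]
      exact (mem_cen.1 (D.mul_mem (inv_mem d'.2) d.2).2).mul_right h2
    have hmemE : ∀ d : D, ((s ⟨f d, d, rfl⟩ : D) : G)⁻¹ * d ∈ cen x := fun d =>
      hval _ _ (hs ⟨f d, d, rfl⟩).symm
    have hD1 : Nat.card D ≤ Nat.card (Set.range f) * Nat.card (D ⊓ cen x : Subgroup G) := by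
      rw [← Nat.card_prod]
      refine Nat.card_le_card_of_injective (fun d : D => ((⟨f d, d, rfl⟩ : Set.range f),
        (⟨((s ⟨f d, d, rfl⟩ : D) : G)⁻¹ * d,
          D.mul_mem (inv_mem (s ⟨f d, d, rfl⟩).2) d.2, hmemE d⟩ : (D ⊓ cen x : Subgroup G)))) ?_
      intro d d' h
      have h1 : (⟨f d, d, rfl⟩ : Set.range f) = ⟨f d', d', rfl⟩ := congrArg Prod.fst h
      have h2 : ((s ⟨f d, d, rfl⟩ : D) : G)⁻¹ * d = ((s ⟨f d', d', rfl⟩ : D) : G)⁻¹ * d' :=
        congrArg (fun p : Set.range f × (D ⊓ cen x : Subgroup G) => (p.2 : G)) h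
      rw [show ((s ⟨f d, d, rfl⟩ : D) : G) = s ⟨f d', d', rfl⟩ by rw [h1]] at h2
      exact Subtype.ext (mul_left_cancel h2)
    have hR : Nat.card (Set.range f) < Nat.card W := by
      have h1 : Nat.card (Set.range f) ≤ Nat.card {u : W // u ≠ 1} :=
        Nat.card_le_card_of_injective _ Subtype.val_injective
      have h2 : Nat.card {u : W // u ≠ 1} < Nat.card W :=
        Finite.card_subtype_lt (p := fun u : W => u ≠ 1) (x := 1) (by simp)
      omega
    have hD2 : Nat.card W * Nat.card (D ⊓ cen x : Subgroup G) ≤ Nat.card (cen x) := by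
      rw [← Nat.card_prod]
      refine Nat.card_le_card_of_injective
        (fun p : W × (D ⊓ cen x : Subgroup G) =>
          (⟨(p.1 : G) * p.2, mul_mem (hAx (hWA p.1.2)) p.2.2.2⟩ : cen x)) ?_
      rintro ⟨w1, d1⟩ ⟨w2, d2⟩ h
      simp only [Subtype.mk.injEq] at h
      have h1 : (w2 : G)⁻¹ * w1 = (d2 : G) * (d1 : G)⁻¹ := by
        calc (w2 : G)⁻¹ * w1 = (w2 : G)⁻¹ * ((w1 : G) * d1) * (d1 : G)⁻¹ := by group
          _ = (w2 : G)⁻¹ * ((w2 : G) * d2) * (d1 : G)⁻¹ := by rw [h]
          _ = _ := by group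
      have h2 : (w2 : G)⁻¹ * w1 = 1 := hWf _ (mul_mem (inv_mem w2.2) w1.2)
        (h1 ▸ mem_cen.1 (mul_mem d2.2.1.1 (inv_mem d1.2.1.1)))
      have h3 : (w1 : G) = w2 := (inv_mul_eq_one.1 h2).symm
      rw [h3, mul_right_inj] at h
      exact Prod.ext (Subtype.ext h3) (Subtype.ext h)
    calc Nat.card D ≤ _ := hD1
      _ < Nat.card W * Nat.card (D ⊓ cen x : Subgroup G) :=
        Nat.mul_lt_mul_of_pos_right hR Nat.card_pos
      _ ≤ _ := hD2
  have hm : idx (z * a) = m := by
    rcases H.eq_or_le (z * a) with h | h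
    · exact h
    · exfalso
      have h1 := D.card_mul_index
      have h2 := (cen x).card_mul_index
      rw [idx, hcza] at h
      rw [show (cen x).index = n from hx.1] at h2
      have h3 : Nat.card D * D.index ≤ Nat.card D * n := Nat.mul_le_mul_left _ h
      have h4 : Nat.card D * n < Nat.card (cen x) * n :=
        Nat.mul_lt_mul_of_pos_right hlt (by have := H.one_lt; omega)
      omega
  have hac : a ∈ center G := by
    refine mem_of_parts fun e p j hp hpj => ?_
    have hdvd : idx (a ^ e) ∣ m := by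
      rw [← hm]
      exact index_dvd_of_le (hcza ▸ inf_le_right.trans (cen_le_cen_pow a e))
    rcases Nat.eq_zero_or_pos j with hj0 | hj0
    · rw [hj0, pow_zero, orderOf_eq_one_iff] at hpj
      rw [hpj]; exact one_mem _
    refine H.central_of_dvd hy hx hp (hx.2 p hp ?_) (pElem_pow hpj)
      (Nat.Coprime.coprime_dvd_left hdvd H.cop)
    exact ((hpj ▸ dvd_pow_self p hj0.ne' : p ∣ orderOf (a ^ e)).trans (orderOf_pow_dvd e)).trans
      (orderOf_dvd_of_pow_eq_one (hAo a haA))
  rw [idx, hcza, hD, cen_eq_top_iff.2 hac, inf_top_eq] at hm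
  exact hm

/-- Elements of `r`-power order, `r ∣ m`, commuting with a noncentral element of `q`-power order,
`q ∤ m`, are central. -/
theorem central_of_commute (H : Top G m n) (hy : idx y = m) (hx : IsX m n x) {z h : G}
    {q k r j : ℕ} (hq : q.Prime) (hqm : ¬ q ∣ m) (hz : z ^ q ^ k = 1) (hzc : z ∉ center G)
    (hr : r.Prime) (hrm : r ∣ m) (hh : h ^ r ^ j = 1) (hc : h ∈ cen z) : h ∈ center G := by
  have hzm := H.eq_m_of_pElem hy hx hq hqm hz hzc
  have hq' : ¬ q ∣ orderOf h := fun hd => hqm ((Nat.prime_dvd_prime_iff_eq hq hr).1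
    (hq.dvd_of_dvd_pow (hd.trans (orderOf_dvd_of_pow_eq_one hh))) ▸ hrm)
  have hmul := cen_mul (mem_cen.1 hc).symm (coprime_orderOf hq hz hq')
  have h1 : idx (z * h) = m := H.eq_of_dvd (hzm ▸ index_dvd_of_le (hmul ▸ inf_le_left))
  have h2 : cen z ⊓ cen h = cen z := by
    refine eq_of_le_of_index_le inf_le_left ?_
    rw [← hmul]
    exact (h1.trans hzm.symm).le
  exact H.central_of_dvd hy hx hr hrm hh
    (Nat.Coprime.coprime_dvd_left (hzm ▸ index_dvd_of_le (h2 ▸ inf_le_right)) H.cop)

/-- The centralizers of `x` and of a noncentral `q`-element, `q ∤ m`, meet in the centre. -/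
theorem central_of_mem_inf (H : Top G m n) (hy : idx y = m) (hx : IsX m n x) {v h : G}
    {q k : ℕ} (hq : q.Prime) (hqm : ¬ q ∣ m) (hv : v ^ q ^ k = 1) (hvc : v ∉ center G)
    (hhx : h ∈ cen x) (hhv : h ∈ cen v) : h ∈ center G := by
  refine mem_of_parts fun e p j hp hpj => ?_
  by_cases hpm : p ∣ m
  · exact H.central_of_commute hy hx hq hqm hv hvc hp hpm (pElem_pow hpj) (pow_mem hhv e)
  · exact H.central_of_mem_cen hy hx hp hpm (pElem_pow hpj) (pow_mem hhx e)

variable {v : G} {q₀ k₀ : ℕ}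

/-- The part of `cen v` of order prime to `q₀` is central in `cen v`. -/
theorem cen_le_cen_of_ne (H : Top G m n) (hy : idx y = m) (hx : IsX m n x) (hq₀ : q₀.Prime)
    (hq₀m : ¬ q₀ ∣ m) (hv : v ^ q₀ ^ k₀ = 1) (hvm : idx v = m) {a : G} {q j : ℕ} (hq : q.Prime)
    (hne : q ≠ q₀) (ha : a ^ q ^ j = 1) (hac : a ∈ cen v) : cen v ≤ cen a := by
  have hvc : v ∉ center G := fun h => by
    rw [← idx_eq_one_iff, hvm] at h; have := H.lt; have := H.one_lt; omega
  by_cases hqm : q ∣ m
  · rw [cen_eq_top_iff.2 (H.central_of_commute hy hx hq₀ hq₀m hv hvc hq hqm ha hac)]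
    exact le_top
  · have hd : ¬ q₀ ∣ orderOf a := fun hd => hne ((Nat.prime_dvd_prime_iff_eq hq₀ hq).1
      (hq₀.dvd_of_dvd_pow (hd.trans (orderOf_dvd_of_pow_eq_one ha)))).symm
    have hmul := cen_mul (mem_cen.1 hac).symm (coprime_orderOf hq₀ hv hd)
    have h1 : idx (v * a) = m := H.eq_of_dvd (hvm ▸ index_dvd_of_le (hmul ▸ inf_le_left))
    have h2 : cen v ⊓ cen a = cen v := by
      refine eq_of_le_of_index_le inf_le_left ?_
      rw [← hmul]
      exact (h1.trans hvm.symm).le
    exact h2 ▸ inf_le_right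

/-- The `q₀`-subgroups of `cen v` of full order are abelian. -/
theorem comm_of_card (H : Top G m n) (hy : idx y = m) (hx : IsX m n x) [hq₀ : Fact q₀.Prime]
    (hq₀m : ¬ q₀ ∣ m) (hv : v ^ q₀ ^ k₀ = 1) (hvm : idx v = m) (S : Subgroup G)
    (hS : S ≤ cen v) (hScard : Nat.card S = q₀ ^ (Nat.card G).factorization q₀) :
    ∀ a ∈ S, ∀ b ∈ S, Commute a b := by
  classical
  have hvc : v ∉ center G := fun h => by
    rw [← idx_eq_one_iff, hvm] at h; have := H.lt; have := H.one_lt; omega
  obtain ⟨hAn, hAc, hAo⟩ := H.clas_closure hy hx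
  haveI := hAn
  haveI := hAc
  obtain ⟨W, hWA, hWd, hWf, hWs⟩ := exists_split (closure (clas x)) hv hAo
    (Nat.Coprime.pow_left k₀ (hq₀.out.coprime_iff_not_dvd.2 fun hd => hq₀m (hx.2 q₀ hq₀.out hd)))
  haveI hWnt : Nontrivial W := by
    rw [Subgroup.nontrivial_iff_ne_bot]
    intro hW
    obtain ⟨a, -, hac, w, hw, e⟩ := hWs x (subset_closure (mem_clas_self x))
    rw [hW, mem_bot] at hw
    rw [hw, mul_one] at e
    exact hvc (H.central_of_mem_cen hy hx hq₀.out hq₀m hv (mem_cen.2 (e ▸ hac.symm)))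
  have hSp : IsPGroup q₀ S := IsPGroup.of_card hScard
  have hSel : ∀ s : S, ∃ i : ℕ, (s : G) ^ q₀ ^ i = 1 := fun s => by
    obtain ⟨i, hi⟩ := hSp s
    exact ⟨i, by simpa using congrArg Subtype.val hi⟩
  have hfix : ∀ s : S, (s : G) ∉ center G → ∀ w ∈ W, Commute w (s : G) → w = 1 := by
    intro s hs w hw hc
    obtain ⟨i, hi⟩ := hSel s
    refine hWf w hw (Commute.symm ?_)
    refine mem_center_iff.1 (mem_of_parts fun e p j hp hpj => ?_) v
    rcases Nat.eq_zero_or_pos j with hj0 | hj0
    · rw [hj0, pow_zero, orderOf_eq_one_iff] at hpj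
      rw [hpj]; exact one_mem _
    refine H.central_of_commute hy hx hq₀.out hq₀m hi hs hp (hx.2 p hp ?_) (pElem_pow hpj)
      (pow_mem (mem_cen.2 hc) e)
    exact ((hpj ▸ dvd_pow_self p hj0.ne' : p ∣ orderOf (w ^ e)).trans (orderOf_pow_dvd e)).trans
      (orderOf_dvd_of_pow_eq_one (hAo w (hWA hw)))
  let φ : S →* MulAut W := MonoidHom.mk'
    (fun s =>
      { toFun := fun w => ⟨(s : G) * w * (s : G)⁻¹, hWd s (mem_cen.1 (hS s.2)) w w.2⟩
        invFun := fun w => ⟨(s : G)⁻¹ * w * (s : G), by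
          have := hWd (s : G)⁻¹ (mem_cen.1 (hS s.2)).inv_left w w.2
          simpa using this⟩
        left_inv := fun w => Subtype.ext (by simp [mul_assoc])
        right_inv := fun w => Subtype.ext (by simp [mul_assoc])
        map_mul' := fun a b => Subtype.ext (by simp [mul_assoc]) })
    (fun s t => by ext w; simp [mul_assoc])
  have hφ : ∀ (s : S) (w : W), ((φ s w : W) : G) = (s : G) * w * (s : G)⁻¹ := fun s w => rfl
  have hone : ∀ s : S, φ s = 1 ↔ (s : G) ∈ center G := by
    intro s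
    constructor
    · intro h
      by_contra hs
      obtain ⟨w, hw⟩ := exists_ne (1 : W)
      refine hw (Subtype.ext (hfix s hs w w.2 ?_))
      have h1 := hφ s w
      rw [h] at h1
      exact (eq_mul_inv_iff_mul_eq.1 h1)
    · intro hs
      ext w
      rw [hφ, ← mem_center_iff.1 hs (w : G)]
      simp
  have hfpf : CfsgLib.Frobenius.IsFPF φ.range W := by
    rintro ⟨_, s, rfl⟩ hne w hw
    have hs : (s : G) ∉ center G := fun h => hne (Subtype.ext ((hone s).2 h))
    refine Subtype.ext (hfix s hs w w.2 ?_)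
    have h1 := hφ s w
    have h2 : φ s w = w := hw
    rw [h2] at h1
    exact (eq_mul_inv_iff_mul_eq.1 h1)
  -- every element has the image order of a central element
  have hconj : ∀ s : S, ∃ c : S, (∀ t : S, Commute (c : G) t) ∧
      orderOf (φ c) = orderOf (φ s) := by
    intro s
    by_cases hs : (s : G) ∈ center G
    · exact ⟨s, fun t => (mem_center_iff.1 hs t).symm, rfl⟩
    obtain ⟨i, hi⟩ := hSel s
    have hsm := H.eq_m_of_pElem hy hx hq₀.out hq₀m hi hs
    obtain ⟨T⟩ := (inferInstance : Nonempty (Sylow q₀ (cen (s : G))))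
    have hsT : (⟨(s : G), mem_cen.2 (Commute.refl _)⟩ : cen (s : G)) ∈ (T : Subgroup _) := by
      set s' : cen (s : G) := ⟨(s : G), mem_cen.2 (Commute.refl _)⟩
      have hsub : IsPGroup q₀ (zpowers s') :=
        isPGroup_zpowers hq₀.out (Subtype.ext (by simpa using hi) : s' ^ q₀ ^ i = 1)
      have hnorm : (T : Subgroup (cen (s : G))) ≤ normalizer (zpowers s' : Set (cen (s : G))) := by
        refine le_trans ?_ (centralizer_le_normalizer _)
        intro t _
        rw [mem_centralizer_iff]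
        rintro _ ⟨l, rfl⟩
        exact (Commute.zpow_left (Subtype.ext ((mem_cen.1 t.2).eq.symm) : Commute s' t) l).eq
      have := T.is_maximal' (IsPGroup.to_sup_of_normal_left' hsub T.isPGroup' hnorm) le_sup_right
      exact this ▸ (le_sup_left : zpowers s' ≤ zpowers s' ⊔ T) (mem_zpowers s')
    have hTcard : Nat.card ((T : Subgroup _).map (cen (s : G)).subtype) =
        q₀ ^ (Nat.card G).factorization q₀ := by
      rw [card_map_of_injective (cen (s : G)).subtype_injective, T.card_eq_multiplicity]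
      congr 1
      have hG := (cen (s : G)).card_mul_index
      rw [show (cen (s : G)).index = m from hsm] at hG
      rw [← hG, Nat.factorization_mul Nat.card_pos.ne' (by have := H.lt; omega), Finsupp.add_apply,
        Nat.factorization_eq_zero_of_not_dvd hq₀m, add_zero]
    let T' : Sylow q₀ G := Sylow.ofCard _ hTcard
    let S' : Sylow q₀ G := Sylow.ofCard S hScard
    obtain ⟨g, hg⟩ := MulAction.exists_smul_eq G T' S'
    have hgS : ∀ t ∈ (T : Subgroup _).map (cen (s : G)).subtype, g * t * g⁻¹ ∈ S := by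
      intro t ht
      have h1 : g * t * g⁻¹ ∈ ((g • T' : Sylow q₀ G) : Subgroup G) := by
        rw [Sylow.coe_subgroup_smul]
        exact Subgroup.mem_pointwise_smul_iff_inv_smul_mem.2 (by
          simpa [T', MulAut.smul_def, mul_assoc] using ht)
      rw [hg] at h1
      simpa [S'] using h1
    refine ⟨⟨g * s * g⁻¹, hgS _ ⟨_, hsT, rfl⟩⟩, fun t => ?_, ?_⟩
    · have h1 : ∃ t0 ∈ (T : Subgroup _).map (cen (s : G)).subtype, g * t0 * g⁻¹ = t := by
        have ht : (t : G) ∈ ((g • T' : Sylow q₀ G) : Subgroup G) := by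
          rw [hg]; simp [S']
        rw [Sylow.coe_subgroup_smul, Subgroup.mem_pointwise_smul_iff_inv_smul_mem] at ht
        refine ⟨g⁻¹ * t * g, ?_, by group⟩
        simpa [T', MulAut.smul_def, mul_assoc] using ht
      obtain ⟨_, ⟨t0, -, rfl⟩, ht0⟩ := h1
      rw [← ht0]
      exact ((mem_cen.1 t0.2).symm).map (MulAut.conj g).toMonoidHom
    · rw [orderOf_eq_orderOf_iff]
      intro N
      rw [← map_pow, ← map_pow, hone, hone, SubgroupClass.coe_pow, SubgroupClass.coe_pow]
      simp only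
      rw [← MulAut.conj_apply, ← map_pow]
      constructor
      · intro h
        have := (inferInstance : (center G).Normal).conj_mem _ h g⁻¹
        simpa [mul_assoc] using this
      · intro h
        exact (inferInstance : (center G).Normal).conj_mem _ h g
  obtain ⟨c, hc, hmax⟩ := Set.exists_max_image {c : S | ∀ t : S, Commute (c : G) t}
    (fun c => orderOf (φ c)) (Set.toFinite _) ⟨1, fun t => by simp⟩
  have hin : ∀ s : S, φ s ∈ zpowers (φ c) := by
    intro s
    let B : Subgroup φ.range := closure {⟨φ c, c, rfl⟩, ⟨φ s, s, rfl⟩}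
    haveI : IsMulCommutative B := isMulCommutative_closure (by
      have h1 : φ c * φ s = φ s * φ c := by
        rw [← map_mul, ← map_mul]; exact congrArg φ (Subtype.ext (hc s).eq)
      rintro a (rfl | rfl) b (rfl | rfl)
      exacts [rfl, Subtype.ext h1, Subtype.ext h1.symm, rfl])
    letI : MulDistribMulAction B W := MulDistribMulAction.compHom W B.subtype
    haveI : IsCyclic B := (hfpf.comp B.subtype B.subtype_injective).isCyclic_of_commutative
    obtain ⟨b, hb⟩ := IsCyclic.exists_generator (α := B)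
    obtain ⟨s', hs'⟩ := (b : φ.range).2
    obtain ⟨c', hc', hcs'⟩ := hconj s'
    have hcard : Nat.card B ≤ orderOf (φ c) := by
      rw [← orderOf_eq_card_of_forall_mem_zpowers hb, ← Subgroup.orderOf_coe b,
        ← Subgroup.orderOf_coe (b : φ.range), ← hs', ← hcs']
      exact hmax c' hc'
    have hcB : zpowers (⟨φ c, c, rfl⟩ : φ.range) ≤ B := zpowers_le.2 (subset_closure (by simp))
    have heq := Subgroup.eq_of_le_of_card_ge hcB (by
      rw [Nat.card_zpowers, ← Subgroup.orderOf_coe]; exact hcard)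
    have hsB : (⟨φ s, s, rfl⟩ : φ.range) ∈ B := subset_closure (by simp)
    rw [← heq] at hsB
    obtain ⟨l, hl⟩ := hsB
    exact ⟨l, by simpa using congrArg Subtype.val hl⟩
  intro a ha b hb
  obtain ⟨l, hl⟩ := hin ⟨a, ha⟩
  have h1 : φ ((c ^ l)⁻¹ * ⟨a, ha⟩) = 1 := by
    rw [map_mul, map_inv, map_zpow]
    simp only at hl
    rw [hl, inv_mul_cancel]
  rw [hone] at h1
  have e : a = ((c : G) ^ l) * ((((c ^ l)⁻¹ * ⟨a, ha⟩ : S)) : G) := by
    simp
  rw [e]
  exact ((hc ⟨b, hb⟩).zpow_left l).mul_left (mem_center_iff.1 h1 b).symm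

/-- `cen v` is abelian. -/
theorem comm_cen (H : Top G m n) (hy : idx y = m) (hx : IsX m n x) (hq₀ : q₀.Prime)
    (hq₀m : ¬ q₀ ∣ m) (hv : v ^ q₀ ^ k₀ = 1) (hvm : idx v = m) :
    ∀ a ∈ cen v, ∀ b ∈ cen v, Commute a b := by
  haveI := Fact.mk hq₀
  obtain ⟨T⟩ := (inferInstance : Nonempty (Sylow q₀ (cen v)))
  have hTcard : Nat.card ((T : Subgroup _).map (cen v).subtype) =
      q₀ ^ (Nat.card G).factorization q₀ := by
    rw [card_map_of_injective (cen v).subtype_injective, T.card_eq_multiplicity]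
    congr 1
    have hG := (cen v).card_mul_index
    rw [show (cen v).index = m from hvm] at hG
    rw [← hG, Nat.factorization_mul Nat.card_pos.ne' (by have := H.lt; omega), Finsupp.add_apply,
      Nat.factorization_eq_zero_of_not_dvd hq₀m, add_zero]
  have hT := H.comm_of_card hy hx hq₀m hv hvm _ (map_subtype_le _) hTcard
  have hothers : ∀ (q : ℕ), q.Prime → q ≠ q₀ → ∀ U : Sylow q (cen v),
      (U : Subgroup (cen v)) ≤ center (cen v) := by
    intro q hq hne U u hu
    obtain ⟨i, hi⟩ := U.isPGroup' ⟨u, hu⟩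
    have hui : (u : G) ^ q ^ i = 1 := by
      simpa using congrArg (fun t : (U : Subgroup (cen v)) => ((t : cen v) : G)) hi
    have hle := H.cen_le_cen_of_ne hy hx hq₀ hq₀m hv hvm hq hne hui u.2
    rw [mem_center_iff]
    exact fun g => Subtype.ext (mem_cen.1 (hle g.2)).eq
  have htop : (T : Subgroup (cen v)) ⊔ center (cen v) = ⊤ := by
    rw [← index_eq_one]
    by_contra hne
    obtain ⟨q, hq, hqd⟩ := Nat.exists_prime_and_dvd hne
    haveI := Fact.mk hq
    rcases eq_or_ne q q₀ with rfl | hqne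
    · exact T.not_dvd_index (hqd.trans (index_dvd_of_le le_sup_left))
    · obtain ⟨U⟩ := (inferInstance : Nonempty (Sylow q (cen v)))
      exact U.not_dvd_index
        (hqd.trans (index_dvd_of_le ((hothers q hq hqne U).trans le_sup_right)))
  intro a ha b hb
  have hdec : ∀ g : cen v, ∃ t ∈ (T : Subgroup (cen v)), ∃ k ∈ center (cen v), g = t * k := by
    intro g
    have : g ∈ (T : Subgroup (cen v)) ⊔ center (cen v) := htop ▸ mem_top g
    rw [← SetLike.mem_coe, mul_normal] at this
    obtain ⟨t, ht, k, hk, e⟩ := this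
    exact ⟨t, ht, k, hk, e.symm⟩
  obtain ⟨t1, ht1, k1, hk1, e1⟩ := hdec ⟨a, ha⟩
  obtain ⟨t2, ht2, k2, hk2, e2⟩ := hdec ⟨b, hb⟩
  have htt : Commute t1 t2 := Subtype.ext (hT _ (mem_map_of_mem _ ht1) _ (mem_map_of_mem _ ht2)).eq
  have hk1' : ∀ g, Commute k1 g := fun g => (mem_center_iff.1 hk1 g).symm
  have hk2' : ∀ g, Commute k2 g := fun g => (mem_center_iff.1 hk2 g).symm
  have : Commute (t1 * k1) (t2 * k2) :=
    (htt.mul_right (hk2' t1).symm).mul_left (hk1' _)
  rw [← e1, ← e2] at this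
  exact congrArg Subtype.val this.eq

/-- Noncentral elements of `cen v` have the same centralizer. -/
theorem cen_eq_of_mem (H : Top G m n) (hy : idx y = m) (hx : IsX m n x) (hq₀ : q₀.Prime)
    (hq₀m : ¬ q₀ ∣ m) (hv : v ^ q₀ ^ k₀ = 1) (hvm : idx v = m) {c : G} (hc : c ∈ cen v)
    (hcc : c ∉ center G) : cen c = cen v := by
  have hle : cen v ≤ cen c := fun d hd =>
    mem_cen.2 (H.comm_cen hy hx hq₀ hq₀m hv hvm d hd c hc)
  have hdvd : idx c ∣ m := hvm ▸ index_dvd_of_le hle
  have hcm := H.eq_m_of_coprime hy hx hcc (Nat.Coprime.coprime_dvd_left hdvd H.cop)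
  exact (eq_of_le_of_index_le hle (hvm.trans hcm.symm).le).symm

/-- `cen v` is self-normalizing. -/
theorem mem_of_normalizes (H : Top G m n) (hy : idx y = m) (hx : IsX m n x) (hq₀ : q₀.Prime)
    (hq₀m : ¬ q₀ ∣ m) (hv : v ^ q₀ ^ k₀ = 1) (hvm : idx v = m) {g : G}
    (hg : g ∈ normalizer (cen v : Set G)) : g ∈ cen v := by
  have hvc : v ∉ center G := fun h => by
    rw [← idx_eq_one_iff, hvm] at h; have := H.lt; have := H.one_lt; omega
  obtain ⟨u, hu, d, hd, rfl⟩ := exists_mul (H := cen x) (D := cen v)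
    (by rw [show (cen x).index = n from hx.1, show (cen v).index = m from hvm]; exact H.cop.symm) g
  refine mul_mem ?_ hd
  have hun : u ∈ normalizer (cen v : Set G) := by
    have := mul_mem hg (inv_mem (le_normalizer hd))
    simpa using this
  refine mem_of_parts fun e p j hp hpj => ?_
  set w := u ^ e with hw
  have hwx : w ∈ cen x := pow_mem hu e
  have hwn : w ∈ normalizer (cen v : Set G) := pow_mem hun e
  have hwp : w ^ p ^ j = 1 := pElem_pow hpj
  by_cases hwc : w ∈ center G
  · exact center_le_centralizer _ hwc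
  exfalso
  have hpm : p ∣ m := by
    by_contra hpm
    exact hwc (H.central_of_mem_cen hy hx hp hpm hwp hwx)
  have hinf : cen w ⊓ cen v ≤ center G := by
    rintro c ⟨hc1, hc2⟩
    by_contra hcc
    have hwv : w ∈ cen v :=
      H.cen_eq_of_mem hy hx hq₀ hq₀m hv hvm hc2 hcc ▸ mem_cen.2 (mem_cen.1 hc1).symm
    exact hwc (H.central_of_mem_inf hy hx hq₀ hq₀m hv hvc hwx hwv)
  have hZinf : cen x ⊓ cen v = cen w ⊓ cen v := by
    refine le_antisymm ?_ ?_
    · exact fun h hh => ⟨center_le_centralizer _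
        (H.central_of_mem_inf hy hx hq₀ hq₀m hv hvc hh.1 hh.2), hh.2⟩
    · exact fun h hh => ⟨center_le_centralizer _ (hinf hh), hh.2⟩
  have hge : n ≤ idx w := by
    have h1 : (cen x ⊓ cen v).index = n * m := by
      rw [index_inf_eq (by
        rw [show (cen x).index = n from hx.1, show (cen v).index = m from hvm]; exact H.cop.symm),
        show (cen x).index = n from hx.1, show (cen v).index = m from hvm]
    have h2 : (cen w ⊓ cen v).index ≤ idx w * m := index_inf_le.trans_eq (by rw [show (cen v).index = m from hvm])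
    rw [← hZinf, h1] at h2
    exact Nat.le_of_mul_le_mul_right h2 (by have := H.lt; omega)
  have hwn' : idx w = n := by
    rcases H.eq_or_le w with h1 | h1
    · exact absurd (H.central_of_dvd hy hx hp hpm hwp (h1.symm ▸ H.cop)) hwc
    · exact le_antisymm h1 hge
  have hL := H.card_comSub_dvd hy (hwn'.symm ▸ H.cop.symm : (idx w).Coprime m)
  have hsub : cen v ≤ cen w := by
    intro c hc
    refine mem_of_parts fun e' q i hq hqi => ?_
    set b := c ^ e' with hb
    have hbv : b ∈ cen v := pow_mem hc e'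
    have hbq : b ^ q ^ i = 1 := pElem_pow hqi
    by_cases hqm : q ∣ m
    · exact center_le_centralizer _
        (H.central_of_commute hy hx hq₀ hq₀m hv hvc hq hqm hbq hbv)
    set t := w⁻¹ * (b * w * b⁻¹) with ht
    have htv : t ∈ cen v := by
      have h2 : w⁻¹ * b * w ∈ cen v := by
        simpa using ((mem_normalizer_iff.1 (inv_mem hwn)) b).1 hbv
      have := mul_mem h2 (inv_mem hbv)
      simpa [ht, mul_assoc] using this
    have htc : t ∈ center G := by
      refine mem_of_parts fun e'' p' i' hp' hpi' => ?_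
      rcases Nat.eq_zero_or_pos i' with hj0 | hj0
      · rw [hj0, pow_zero, orderOf_eq_one_iff] at hpi'
        rw [hpi']; exact one_mem _
      refine H.central_of_commute hy hx hq₀ hq₀m hv hvc hp' ?_ (pElem_pow hpi') (pow_mem htv e'')
      exact (((hpi' ▸ dvd_pow_self p' hj0.ne' : p' ∣ orderOf (t ^ e'')).trans
        (orderOf_pow_dvd e'')).trans (Subgroup.orderOf_mk t (mem_comSub w b) ▸
          orderOf_dvd_natCard (⟨t, mem_comSub w b⟩ : comSub w))).trans hL
    have hiter : ∀ i : ℕ, b ^ i * w * (b ^ i)⁻¹ = w * t ^ i := by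
      intro i
      induction i with
      | zero => simp
      | succ i ih =>
        have h3 : b * t ^ i * b⁻¹ = t ^ i := by
          rw [(mem_center_iff.1 (pow_mem htc i) b)]; group
        calc b ^ (i + 1) * w * (b ^ (i + 1))⁻¹ = b * (b ^ i * w * (b ^ i)⁻¹) * b⁻¹ := by
              rw [pow_succ']; group
          _ = (b * w * b⁻¹) * (b * t ^ i * b⁻¹) := by rw [ih]; group
          _ = w * t * t ^ i := by rw [h3, ht]; group
          _ = w * t ^ (i + 1) := by rw [pow_succ', mul_assoc]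
    have h4 := hiter (q ^ i)
    rw [hbq, one_mul, inv_one, mul_one, left_eq_mul] at h4
    have h5 : t = 1 := orderOf_eq_one_iff.1 (Nat.eq_one_of_dvd_coprimes
      (Nat.Coprime.pow_left i (hq.coprime_iff_not_dvd.2 hqm)) (orderOf_dvd_of_pow_eq_one h4)
      ((Subgroup.orderOf_mk t (mem_comSub w b) ▸
        orderOf_dvd_natCard (⟨t, mem_comSub w b⟩ : comSub w)).trans hL))
    rw [ht, inv_mul_eq_one, eq_mul_inv_iff_mul_eq] at h5
    exact mem_cen.2 h5.symm
  have h6 : idx w ∣ m := hvm ▸ index_dvd_of_le hsub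
  rw [hwn'] at h6
  exact H.one_lt.ne' (Nat.eq_one_of_dvd_coprimes H.cop h6 dvd_rfl)

end Top

/-- The structure theorem. -/
theorem quasiFrobenius {m n : ℕ} (H : Top G m n) {x y : G} (hy : idx y = m) (hx : IsX m n x) :
    IsMulCommutative (cen x) ∧ IsMulCommutative (cen y) ∧
    Cfsg.IsFrobeniusComplement ((cen y).map (QuotientGroup.mk' (center G))) ∧
    Cfsg.frobeniusKernel ((cen y).map (QuotientGroup.mk' (center G))) =
      ((cen x).map (QuotientGroup.mk' (center G)) : Set (G ⧸ center G)) := by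
  classical
  obtain ⟨v, q₀, k₀, hq₀, hq₀m, hv, hvm, hveq⟩ := H.exists_part hy hx hy
  have hvc : v ∉ center G := fun h => by
    rw [← idx_eq_one_iff, hvm] at h; have := H.lt; have := H.one_lt; omega
  rw [← hveq]
  set Z := center G with hZ
  set π := QuotientGroup.mk' Z with hπ
  have hsurj : Function.Surjective π := QuotientGroup.mk'_surjective Z
  have hker : π.ker = Z := QuotientGroup.ker_mk' Z
  have hπ1 : ∀ g : G, π g = 1 ↔ g ∈ Z := fun g => QuotientGroup.eq_one_iff g
  have hcomap : ∀ g : G, ∀ K : Subgroup G, Z ≤ K → π g ∈ K.map π → g ∈ K := by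
    intro g K hK hg
    have : g ∈ (K.map π).comap π := hg
    rwa [comap_map_eq_self (hker.le.trans hK)] at this
  have hcop' : (cen x).index.Coprime (cen v).index := by
    rw [show (cen x).index = n from hx.1, show (cen v).index = m from hvm]; exact H.cop.symm
  have hinfZ : cen x ⊓ cen v = Z := le_antisymm
    (fun h hh => H.central_of_mem_inf hy hx hq₀ hq₀m hv hvc hh.1 hh.2)
    (le_inf (center_le_centralizer _) (center_le_centralizer _))
  have hcardQ : Nat.card (G ⧸ Z) = n * m := by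
    rw [← index_eq_card, ← hinfZ, index_inf_eq hcop', show (cen x).index = n from hx.1,
      show (cen v).index = m from hvm]
  have hiC : ((cen v).map π).index = m := by
    rw [index_map_eq (cen v) hsurj (hker.le.trans (center_le_centralizer _))]; exact hvm
  have hiE : ((cen x).map π).index = n := by
    rw [index_map_eq (cen x) hsurj (hker.le.trans (center_le_centralizer _))]; exact hx.1
  have hF : Cfsg.IsFrobeniusComplement ((cen v).map π) := by
    refine ⟨fun hb => ?_, fun ht => ?_, fun gb hgb => ?_⟩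
    · exact hvc ((hπ1 v).1 (mem_bot.1 (hb ▸ mem_map_of_mem π (mem_cen.2 (Commute.refl v)))))
    · rw [ht, index_top] at hiC
      have := H.lt; have := H.one_lt; omega
    · rw [eq_bot_iff]
      rintro cb ⟨hc1, hc2⟩
      obtain ⟨g, rfl⟩ := hsurj gb
      obtain ⟨c, hc, rfl⟩ := hc1
      replace hc2 : π c ∈ MulAut.conj (π g) • (cen v).map π := hc2
      rw [CfsgLib.Frobenius.mem_conj_smul_iff, ← map_inv, ← map_mul, ← map_mul] at hc2
      have hc2' := hcomap _ _ (center_le_centralizer _) hc2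
      rw [mem_bot, hπ1]
      by_contra hcc
      apply hgb
      refine mem_map_of_mem π (H.mem_of_normalizes hy hx hq₀ hq₀m hv hvm ?_)
      have hc'c : g⁻¹ * c * g ∉ Z := fun h => hcc (by
        have := (inferInstance : (center G).Normal).conj_mem _ h g
        simpa [mul_assoc] using this)
      have h1 := H.cen_eq_of_mem hy hx hq₀ hq₀m hv hvm hc hcc
      have h2 := H.cen_eq_of_mem hy hx hq₀ hq₀m hv hvm hc2' hc'c
      have h3 := cen_conj (g⁻¹ * c * g) g
      rw [show g * (g⁻¹ * c * g) * g⁻¹ = c by group, h1, h2] at h3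
      rw [mem_normalizer_iff]
      intro d
      constructor
      · intro hd
        rw [h3]
        exact ⟨d, hd, rfl⟩
      · intro hd
        rw [h3] at hd
        obtain ⟨d', hd', e⟩ := hd
        have : d' = d := by simpa using e
        exact this ▸ hd'
  have hker2 : Cfsg.frobeniusKernel ((cen v).map π) = ((cen x).map π : Set (G ⧸ Z)) := by
    refine (Set.eq_of_subset_of_ncard_le ?_ ?_ (Set.toFinite _)).symm
    · rintro _ ⟨e, he, rfl⟩
      by_cases hec : e ∈ Z
      · exact Or.inl ((hπ1 e).2 hec)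
      refine Or.inr fun gb hgb => hec ?_
      obtain ⟨g, rfl⟩ := hsurj gb
      rw [CfsgLib.Frobenius.mem_conj_smul_iff, ← map_inv, ← map_mul, ← map_mul] at hgb
      have h1 := hcomap _ _ (center_le_centralizer _) hgb
      refine H.central_of_mem_inf hy hx hq₀ hq₀m (conj_pow_eq_one (g := g) hv)
        (fun h => hvc ?_) he ?_
      · have := (inferInstance : (center G).Normal).conj_mem _ h g⁻¹
        simpa [mul_assoc] using this
      · rw [cen_conj]
        exact ⟨_, h1, by simp [mul_assoc]⟩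
    · rw [CfsgLib.Frobenius.ncard_frobeniusKernel hF, hiC, ← Nat.card_coe_set_eq]
      have h1 := ((cen x).map π).card_mul_index
      rw [hiE, hcardQ, mul_comm n m] at h1
      exact (Nat.eq_of_mul_eq_mul_right (by have := H.one_lt; omega) h1).ge
  refine ⟨?_, ⟨⟨fun a b => Subtype.ext (H.comm_cen hy hx hq₀ hq₀m hv hvm a a.2 b b.2).eq⟩⟩,
    hF, hker2⟩
  -- the kernel is normal and abelian
  have hEn : ∀ g e : G, e ∈ cen x → g * e * g⁻¹ ∈ cen x := by
    intro g e he
    refine hcomap _ _ (center_le_centralizer _) ?_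
    rw [← SetLike.mem_coe, ← hker2]
    have h1 : π e ∈ Cfsg.frobeniusKernel ((cen v).map π) := hker2 ▸ mem_map_of_mem π he
    rcases h1 with h1 | h1
    · exact Or.inl (by rw [map_mul, map_mul, h1, map_inv]; group)
    · refine Or.inr fun gb hgb => h1 (π g⁻¹ * gb) ?_
      rw [CfsgLib.Frobenius.mem_conj_smul_iff] at hgb ⊢
      convert hgb using 1
      simp only [map_mul, map_inv]
      group
  refine ⟨⟨fun a b => Subtype.ext ?_⟩⟩
  have key : (a : G) ∈ centralizer (cen x : Set G) := by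
    refine mem_of_parts fun e p j hp hpj => ?_
    set u := (a : G) ^ e with hu
    have hux : u ∈ cen x := pow_mem a.2 e
    by_cases huc : u ∈ Z
    · exact center_le_centralizer _ huc
    have hpm : p ∣ m := by
      by_contra hpm
      exact huc (H.central_of_mem_cen hy hx hp hpm (pElem_pow hpj) hux)
    have hle : cen u ≤ cen x := by
      intro h hh
      refine mem_of_parts fun e' q i hq hqi => ?_
      by_cases hqm : q ∣ m
      · obtain ⟨g, hg⟩ := exists_conj_mem (H := cen x) hq (by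
          rw [show (cen x).index = n from hx.1]
          exact fun hd => hq.not_dvd_one (H.cop ▸ Nat.dvd_gcd hqm hd)) (pElem_pow hqi)
        have := hEn g⁻¹ _ hg
        simpa [mul_assoc] using this
      · by_cases hbc : h ^ e' ∈ Z
        · exact center_le_centralizer _ hbc
        exact absurd (H.central_of_commute hy hx hq hqm (pElem_pow hqi) hbc hp hpm
          (pElem_pow hpj) (mem_cen.2 (mem_cen.1 (pow_mem hh e')).symm)) huc
    have h1 : idx u = n := H.eq_of_dvd_n (hx.1 ▸ index_dvd_of_le hle)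
    have h2 : cen u = cen x := eq_of_le_of_index_le hle (h1.trans hx.1.symm).le
    rw [mem_centralizer_iff]
    intro d hd
    rw [SetLike.mem_coe, ← h2] at hd
    exact (mem_cen.1 hd).eq
  exact (mem_centralizer_iff.1 key b b.2).symm

end CfsgLib.Structure81.CoprimeClass
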