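import Cfsg.Agent.Lib.Structure81.CoprimeTopClasses
import Cfsg.Agent.Lib.Structure81.FPFPGroup
import Cfsg.Agent.Lib.Structure81.ConjCover
import Cfsg.Agent.Lib.ClassSize.EqualPartition

/-!
# Normal subgroups with two class sizes

If a normal subgroup `N` contains a noncentral Sylow `r`-subgroup of `G` and the elements of `N`
have class sizes `1` or `m` in `G`, then `N` is nilpotent.
-/

set_option autoImplicit false
set_option linter.style.haveILetI false

namespace CfsgLib.Structure81.CoprimeClass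

open Subgroup

variable {G : Type*} [Group G]

/-- A normal subgroup with two `G`-class sizes which contains a Sylow `r`-subgroup. -/
structure TwoNormal (N : Subgroup G) (r m : ℕ) : Prop where
  normal : N.Normal
  prime : r.Prime
  sizes : ∀ x ∈ N, idx x = 1 ∨ idx x = m
  sylow : ∀ S : Sylow r G, (S : Subgroup G) ≤ N
  notCentral : ∀ S : Sylow r G, ¬ (S : Subgroup G) ≤ center G

/-- The centralizer of `g` centralizes what it contains of `N`. -/
def AbIn (N : Subgroup G) (g : G) : Prop := ∀ a ∈ N, a ∈ cen g → cen g ≤ cen a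

/-- `g` commutes with a noncentral element of `N` of prime power order prime to `r`. -/
def Mixed (N : Subgroup G) (r : ℕ) (g : G) : Prop :=
  ∃ (y : G) (s k : ℕ), s.Prime ∧ s ≠ r ∧ y ^ s ^ k = 1 ∧ y ∈ N ∧ y ∉ center G ∧ y ∈ cen g

variable [Finite G]

theorem card_mul_card_dvd {A B C : Subgroup G} (hA : A ≤ C) (hB : B ≤ C)
    (hc : ∀ a ∈ A, ∀ b ∈ B, Commute a b) :
    Nat.card A * Nat.card B ∣ Nat.card C * Nat.card (A ⊓ B : Subgroup G) := by
  let f : A × B →* C := MonoidHom.noncommCoprod (inclusion hA) (inclusion hB) fun a b =>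
    Subtype.ext (hc a a.2 b b.2).eq
  have hf : ∀ p : A × B, ((f p : C) : G) = (p.1 : G) * p.2 := fun p => rfl
  have h1 : Nat.card f.ker * Nat.card f.range = Nat.card A * Nat.card B := by
    have h1 := f.ker.card_mul_index
    rwa [index_ker, Nat.card_prod] at h1
  have hk : ∀ p : f.ker, ((p.1.1 : A) : G) = ((p.1.2 : B) : G)⁻¹ := fun p => by
    have h2 : (f p.1 : G) = 1 := by rw [MonoidHom.mem_ker.1 p.2]; rfl
    rw [hf] at h2
    exact eq_inv_of_mul_eq_one_left h2
  have h2 : Nat.card f.ker ≤ Nat.card (A ⊓ B : Subgroup G) := by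
    refine Nat.card_le_card_of_injective
      (fun p : f.ker => (⟨(p.1.1 : A), p.1.1.2,
        (show ((p.1.1 : A) : G) ∈ B by rw [hk p]; exact inv_mem p.1.2.2)⟩ : (A ⊓ B : Subgroup G))) ?_
    intro p q hpq
    have hpq' : ((p.1.1 : A) : G) = q.1.1 :=
      congrArg (fun x : (A ⊓ B : Subgroup G) => (x : G)) hpq
    refine Subtype.ext (Prod.ext (Subtype.ext hpq') (Subtype.ext (inv_injective ?_)))
    rw [← hk p, ← hk q, hpq']
  have h3 : Nat.card (A ⊓ B : Subgroup G) ≤ Nat.card f.ker := by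
    refine Nat.card_le_card_of_injective (fun x : (A ⊓ B : Subgroup G) =>
      (⟨(⟨x, x.2.1⟩, ⟨(x : G)⁻¹, inv_mem x.2.2⟩), by
        refine MonoidHom.mem_ker.2 (Subtype.ext ?_)
        rw [hf]
        simp⟩ : f.ker)) ?_
    intro x y hxy
    exact Subtype.ext (congrArg (fun p : f.ker => ((p.1.1 : A) : G)) hxy)
  rw [← h1, le_antisymm h2 h3, mul_comm (Nat.card C)]
  exact mul_dvd_mul_left _ (card_subgroup_dvd_card _)

theorem mem_sylow_of_commute {K : Type*} [Group K] [Finite K] {p : ℕ} [Fact p.Prime] {j : ℕ}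
    {z : K} (hz : z ^ p ^ j = 1) (hc : ∀ t : K, t * z = z * t) (S : Sylow p K) :
    z ∈ (S : Subgroup K) := by
  have hnorm : (S : Subgroup K) ≤ normalizer (zpowers z : Set K) := by
    refine le_trans ?_ (centralizer_le_normalizer _)
    intro t _
    rw [mem_centralizer_iff]
    rintro _ ⟨l, rfl⟩
    exact (Commute.zpow_left (hc t).symm l).eq
  exact S.is_maximal' (IsPGroup.to_sup_of_normal_left' (isPGroup_zpowers Fact.out hz) S.isPGroup'
    hnorm) le_sup_right ▸ (le_sup_left : zpowers z ≤ zpowers z ⊔ S) (mem_zpowers z)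

theorem coprime_orderOf_of_ne {p q i j : ℕ} (hp : p.Prime) (hq : q.Prime) (hpq : p ≠ q) {a b : G}
    (ha : a ^ p ^ i = 1) (hb : b ^ q ^ j = 1) : (orderOf a).Coprime (orderOf b) :=
  coprime_orderOf hp ha fun hd => hpq ((Nat.prime_dvd_prime_iff_eq hp hq).1
    (hp.dvd_of_dvd_pow (hd.trans (orderOf_dvd_of_pow_eq_one hb))))

namespace TwoNormal

variable {N : Subgroup G} {r m : ℕ}

theorem mem_of_pow (h : TwoNormal N r m) {x : G} {k : ℕ} (hx : x ^ r ^ k = 1) : x ∈ N := by
  obtain ⟨S, hS⟩ := (isPGroup_zpowers h.prime hx).exists_le_sylow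
  exact h.sylow S (hS (mem_zpowers x))

theorem idx_eq (h : TwoNormal N r m) {x : G} (hx : x ∈ N) (hxc : x ∉ center G) : idx x = m :=
  (h.sizes x hx).resolve_left fun h1 => hxc (idx_eq_one_iff.1 h1)

theorem cen_eq_of_le (h : TwoNormal N r m) {x y : G} (hx : x ∈ N) (hy : y ∈ N)
    (hxc : x ∉ center G) (hyc : y ∉ center G) (hle : cen x ≤ cen y) : cen x = cen y :=
  eq_of_le_of_index_le hle ((h.idx_eq hx hxc).trans (h.idx_eq hy hyc).symm).le

theorem card_eq (h : TwoNormal N r m) {x y : G} (hx : x ∈ N) (hy : y ∈ N)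
    (hxc : x ∉ center G) (hyc : y ∉ center G) : Nat.card (cen x) = Nat.card (cen y) := by
  have h1 := (cen x).card_mul_index
  have h2 := (cen y).card_mul_index
  rw [show (cen x).index = m from h.idx_eq hx hxc] at h1
  rw [show (cen y).index = m from h.idx_eq hy hyc, ← h1] at h2
  have hm : m ≠ 0 := h.idx_eq hx hxc ▸ index_ne_zero_of_finite
  exact (Nat.eq_of_mul_eq_mul_right (Nat.pos_of_ne_zero hm) h2).symm

/-- Commuting elements of coprime order in `N` have the same centralizer. -/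
theorem same_cen (h : TwoNormal N r m) {x y : G} (hx : x ∈ N) (hy : y ∈ N) (hxc : x ∉ center G)
    (hyc : y ∉ center G) (hc : Commute x y) (hcop : (orderOf x).Coprime (orderOf y)) :
    cen x = cen y := by
  have hmul := cen_mul hc hcop
  have hxy : x * y ∉ center G := fun hz => by
    obtain ⟨k, hk⟩ := exists_pow_eq_of_coprime hc hcop
    exact hxc (hk ▸ pow_mem hz k)
  have h1 := h.cen_eq_of_le (mul_mem hx hy) hx hxy hxc (hmul ▸ inf_le_left)
  have h2 := h.cen_eq_of_le (mul_mem hx hy) hy hxy hyc (hmul ▸ inf_le_right)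
  exact h1.symm.trans h2

theorem mixed_cen (h : TwoNormal N r m) {g : G} {j : ℕ} (hg : g ^ r ^ j = 1)
    (hgc : g ∉ center G) (hmx : Mixed N r g) :
    ∃ (y : G) (s k : ℕ), s.Prime ∧ s ≠ r ∧ y ^ s ^ k = 1 ∧ y ∈ N ∧ y ∉ center G ∧ cen y = cen g := by
  obtain ⟨y, s, k, hs, hsr, hys, hyN, hyc, hyg⟩ := hmx
  refine ⟨y, s, k, hs, hsr, hys, hyN, hyc, h.same_cen hyN (h.mem_of_pow hg) hyc hgc
    (mem_cen.1 hyg) ?_⟩
  exact coprime_orderOf hs hys fun hd => hsr ((Nat.prime_dvd_prime_iff_eq hs h.prime).1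
    (hs.dvd_of_dvd_pow (hd.trans (orderOf_dvd_of_pow_eq_one hg))))

theorem mixed_ab (h : TwoNormal N r m) {g : G} {j : ℕ} (hg : g ^ r ^ j = 1)
    (hgc : g ∉ center G) (hmx : Mixed N r g) : AbIn N g := by
  obtain ⟨y, s, k, hs, hsr, hys, hyN, hyc, heq⟩ := h.mixed_cen hg hgc hmx
  intro a haN hag d hd
  refine mem_cen.2 (Commute.symm (mem_cen.1 ?_))
  refine mem_of_parts fun e p l hp hpl => ?_
  have hbg : a ^ e ∈ cen g := pow_mem hag e
  refine mem_cen.2 (Commute.symm (mem_cen.1 ?_))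
  by_cases hb : a ^ e ∈ center G
  · exact mem_cen.2 ((mem_center_iff.1 hb) d)
  by_cases hpr : p = r
  · have h1 := h.same_cen (pow_mem haN e) hyN hb hyc (mem_cen.1 (heq.symm ▸ hbg))
      (coprime_orderOf hp (pElem_pow hpl) fun hd' => hsr (((Nat.prime_dvd_prime_iff_eq hp hs).1
        (hp.dvd_of_dvd_pow (hd'.trans (orderOf_dvd_of_pow_eq_one hys)))).symm.trans hpr))
    rw [h1, heq]; exact hd
  · have h1 := h.same_cen (pow_mem haN e) (h.mem_of_pow hg) hb hgc (mem_cen.1 hbg)
      (coprime_orderOf hp (pElem_pow hpl) fun hd' => hpr ((Nat.prime_dvd_prime_iff_eq hp h.prime).1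
        (hp.dvd_of_dvd_pow (hd'.trans (orderOf_dvd_of_pow_eq_one hg)))))
    rw [h1]; exact hd

theorem mixed_of_cen_eq {g g' : G} (hmx : Mixed N r g) (heq : cen g = cen g') : Mixed N r g' := by
  obtain ⟨y, s, k, h1, h2, h3, h4, h5, h6⟩ := hmx
  exact ⟨y, s, k, h1, h2, h3, h4, h5, heq ▸ h6⟩

/-- A noncentral member of an `AbIn` centralizer has the same centralizer. -/
theorem cen_eq_of_ab (h : TwoNormal N r m) {g a : G} (hg : g ∈ N) (hgc : g ∉ center G)
    (hab : AbIn N g) (ha : a ∈ N) (hac : a ∉ center G) (hag : a ∈ cen g) : cen g = cen a :=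
  h.cen_eq_of_le hg ha hgc hac (hab a ha hag)

/-- The central `r`-elements lie in every Sylow subgroup of every centralizer. -/
theorem central_mem_sylow (h : TwoNormal N r m) [Fact r.Prime] {g z : G} {k : ℕ}
    (hz : z ∈ center G) (hzr : z ^ r ^ k = 1) (U : Sylow r (cen g)) :
    z ∈ (U : Subgroup (cen g)).map (cen g).subtype := by
  have hzg : z ∈ cen g := center_le_centralizer _ hz
  set z' : cen g := ⟨z, hzg⟩
  have hnorm : (U : Subgroup (cen g)) ≤ normalizer (zpowers z' : Set (cen g)) := by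
    refine le_trans ?_ (centralizer_le_normalizer _)
    intro t _
    rw [mem_centralizer_iff]
    rintro _ ⟨l, rfl⟩
    exact (Commute.zpow_left (Subtype.ext (mem_center_iff.1 hz t).symm : Commute z' t) l).eq
  have := U.is_maximal' (IsPGroup.to_sup_of_normal_left' (isPGroup_zpowers h.prime
    (Subtype.ext (by simpa [z'] using hzr) : z' ^ r ^ k = 1)) U.isPGroup' hnorm) le_sup_right
  exact ⟨z', this ▸ (le_sup_left : zpowers z' ≤ zpowers z' ⊔ U) (mem_zpowers z'), rfl⟩

theorem sylow_card (h : TwoNormal N r m) [Fact r.Prime] {x y : G} (hx : x ∈ N) (hy : y ∈ N)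
    (hxc : x ∉ center G) (hyc : y ∉ center G) (U : Sylow r (cen x)) (V : Sylow r (cen y)) :
    Nat.card ((U : Subgroup (cen x)).map (cen x).subtype) =
      Nat.card ((V : Subgroup (cen y)).map (cen y).subtype) := by
  rw [card_map_of_injective (cen x).subtype_injective, card_map_of_injective (cen y).subtype_injective,
    U.card_eq_multiplicity, V.card_eq_multiplicity, h.card_eq hx hy hxc hyc]

/-- Divisibility of the components of two elements with central commutator. -/
theorem card_inf_dvd (h : TwoNormal N r m) {t z : G} {j : ℕ} (ht : t ^ r ^ j = 1)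
    (htc : t ∉ center G) (hzN : z ∈ N) (hzc : z ∉ center G) (habt : AbIn N t) (habz : AbIn N z)
    (hzt : z * t * z⁻¹ * t⁻¹ ∈ center G) (hne : z ∉ cen t) :
    ∃ k : ℕ, Nat.card (N ⊓ cen t : Subgroup G) ∣ Nat.card (N ⊓ cen z : Subgroup G) * r ^ k := by
  have htN := h.mem_of_pow ht
  set c := z * t * z⁻¹ * t⁻¹ with hc
  set H := N ⊓ cen z with hH
  have hnorm : ∀ w ∈ cen z, t * w * t⁻¹ ∈ cen z := by
    intro w hw
    have hwz := (mem_cen.1 hw).eq
    have hcc : ∀ g : G, g * c = c * g := mem_center_iff.1 hzt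
    have hz2 : t⁻¹ * z * t = c * z := by
      have e1 : z * t = c * t * z := by rw [hc]; group
      calc t⁻¹ * z * t = t⁻¹ * (z * t) := by group
        _ = t⁻¹ * ((t * c) * z) := by rw [e1, hcc t]
        _ = c * z := by group
    refine mem_cen.2 ?_
    have h2 : Commute w (t⁻¹ * z * t) := by
      rw [hz2]; exact Commute.mul_right (hcc w) hwz
    have h3 := h2.map (MulAut.conj t).toMonoidHom
    simpa [mul_assoc] using h3
  have hδmem : ∀ w : cen z, (w : G) * t * (w : G)⁻¹ * t⁻¹ ∈ H := by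
    intro w
    refine ⟨N.mul_mem (h.normal.conj_mem t htN w) (N.inv_mem htN), ?_⟩
    rw [mul_assoc (w : G), mul_assoc (w : G)]
    exact (cen z).mul_mem w.2 (hnorm _ ((cen z).inv_mem w.2))
  let δ : cen z →* H := MonoidHom.mk'
    (fun w => ⟨(w : G) * t * (w : G)⁻¹ * t⁻¹, hδmem w⟩) fun a b => by
    apply Subtype.ext
    show (a * b : G) * t * (a * b : G)⁻¹ * t⁻¹ = _ * _
    set d := (b : G) * t * (b : G)⁻¹ * t⁻¹ with hd
    set d' := (a : G) * t * (a : G)⁻¹ * t⁻¹ with hd'
    have h1 : Commute (a : G) d := mem_cen.1 (habz d (hδmem b).1 (hδmem b).2 a.2)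
    have h2 : Commute d d' :=
      (mem_cen.1 (habz d (hδmem b).1 (hδmem b).2 (hδmem a).2)).symm
    calc (a * b : G) * t * (a * b : G)⁻¹ * t⁻¹ = ((a : G) * d) * t * (a : G)⁻¹ * t⁻¹ := by
          rw [hd]; group
      _ = d * d' := by rw [h1.eq, hd']; group
      _ = d' * d := h2.eq
  set K := cen z ⊓ cen t with hK
  have hker : Nat.card δ.ker = Nat.card K := by
    rw [← card_map_of_injective (K := δ.ker) (cen z).subtype_injective]
    congr 2
    ext w
    constructor
    · rintro ⟨w', hw', rfl⟩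
      refine ⟨w'.2, mem_cen.2 ?_⟩
      have h1 : (w' : G) * t * (w' : G)⁻¹ * t⁻¹ = 1 := congrArg Subtype.val (MonoidHom.mem_ker.1 hw')
      rwa [mul_inv_eq_one, mul_inv_eq_iff_eq_mul] at h1
    · rintro ⟨hwz, hwt⟩
      refine ⟨⟨w, hwz⟩, MonoidHom.mem_ker.2 (Subtype.ext ?_), rfl⟩
      show w * t * w⁻¹ * t⁻¹ = 1
      rw [(mem_cen.1 hwt).eq]; group
  set I := δ.range.map H.subtype with hI
  set Z := N ⊓ center G with hZ
  have hZH : Z ≤ H := le_inf inf_le_left (inf_le_right.trans (center_le_centralizer _))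
  have hcardI : Nat.card K * Nat.card I = Nat.card (cen z) := by
    have h1 := δ.ker.card_mul_index
    rw [index_ker, hker] at h1
    rw [hI, card_map_of_injective H.subtype_injective, h1]
  -- `|N ⊓ cen t|` divides `|I| |Z|`
  have hKT : K ⊓ (N ⊓ cen t) = Z := by
    refine le_antisymm ?_ ?_
    · rintro a ⟨⟨haz, hat⟩, haN, -⟩
      refine ⟨haN, ?_⟩
      by_contra hac
      have h1 := h.cen_eq_of_ab hzN hzc habz haN hac haz
      have h2 := h.cen_eq_of_ab htN htc habt haN hac hat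
      exact hne ((h2.trans h1.symm).ge (mem_cen.2 (Commute.refl z)))
    · rintro a ⟨haN, hac⟩
      exact ⟨⟨center_le_centralizer _ hac, center_le_centralizer _ hac⟩, haN,
        center_le_centralizer _ hac⟩
  have h1 := card_mul_card_dvd (A := K) (B := N ⊓ cen t) (C := cen t) inf_le_right inf_le_right
    fun a ha b hb => mem_cen.1 (habt b hb.1 hb.2 ha.2)
  rw [hKT, h.card_eq htN hzN htc hzc, ← hcardI, mul_assoc] at h1
  have h2 : Nat.card (N ⊓ cen t : Subgroup G) ∣ Nat.card I * Nat.card Z :=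
    Nat.dvd_of_mul_dvd_mul_left Nat.card_pos h1
  -- `I` meets the centre in an `r`-group
  have h3 := card_mul_card_dvd (A := I) (B := Z) (C := H) (map_subtype_le _) hZH
    fun a _ b hb => mem_center_iff.1 hb.2 a
  have hIZ : IsPGroup r (I ⊓ Z : Subgroup G) := by
    rintro ⟨d, hdI, hdZ⟩
    obtain ⟨_, ⟨w, rfl⟩, hw⟩ := hdI
    refine ⟨j, Subtype.ext ?_⟩
    rw [SubgroupClass.coe_pow, OneMemClass.coe_one]
    have e : (w : G) * t * (w : G)⁻¹ = d * t := by
      rw [← hw]
      show (w : G) * t * (w : G)⁻¹ = (w : G) * t * (w : G)⁻¹ * t⁻¹ * t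
      group
    have h4 : (d * t) ^ r ^ j = 1 := e ▸ conj_pow_eq_one ht
    have hdt : Commute d t := ((mem_center_iff.1 hdZ.2) t).symm
    rwa [hdt.mul_pow, ht, mul_one] at h4
  haveI := Fact.mk h.prime
  obtain ⟨k, hk⟩ := IsPGroup.iff_card.1 hIZ
  exact ⟨k, h2.trans (hk ▸ h3)⟩

/-- The bound on a subgroup of `R` acting on a component. -/
theorem cyclic_mod_center (h : TwoNormal N r m) {R : Sylow r G} {X : Subgroup G}
    (hXR : X ≤ (R : Subgroup G)) {z g : G} {j : ℕ} (hg : g ^ r ^ j = 1) (hgc : g ∉ center G)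
    (hmx : Mixed N r g) (hnorm : ∀ x ∈ X, cen (x * g * x⁻¹) = cen g)
    (hXg : ∀ x ∈ X, x ∈ cen g → x ∈ center G) (hXz : ∀ x ∈ X, x ∈ cen z → x ∈ center G)
    (hzR : ∀ x ∈ (R : Subgroup G), z * x * z⁻¹ * x⁻¹ ∈ center G) (hzr : z ^ r ∈ center G)
    {a b : G} (ha : a ∈ X) (hac : a ∉ center G) (hb : b ∈ X) :
    ∃ l : ℤ, (a ^ l)⁻¹ * b ∈ center G := by
  haveI := Fact.mk h.prime
  have hab := h.mixed_ab hg hgc hmx
  -- the `r'`-part of the component
  have hH : ∀ a ∈ N ⊓ cen g, ∀ b ∈ N ⊓ cen g, Commute a b := fun a ha b hb =>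
    (mem_cen.1 (hab a ha.1 ha.2 hb.2)).symm
  let Hq : Subgroup G :=
    { carrier := {a | a ∈ N ⊓ cen g ∧ ¬ r ∣ orderOf a}
      one_mem' := ⟨one_mem _, by rw [orderOf_one]; exact h.prime.not_dvd_one⟩
      mul_mem' := by
        rintro a b ⟨ha, ha'⟩ ⟨hb, hb'⟩
        refine ⟨mul_mem ha hb, fun hd => ?_⟩
        have h1 := hd.trans ((hH a ha b hb).orderOf_mul_dvd_mul_orderOf)
        rcases (Nat.Prime.dvd_mul h.prime).1 h1 with h2 | h2
        · exact ha' h2
        · exact hb' h2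
      inv_mem' := by
        rintro a ⟨ha, ha'⟩
        exact ⟨inv_mem ha, by rwa [orderOf_inv]⟩ }
  have hHqmem : ∀ a, a ∈ Hq ↔ a ∈ N ⊓ cen g ∧ ¬ r ∣ orderOf a := fun a => Iff.rfl
  have hHqconj : ∀ x ∈ X, ∀ a ∈ Hq, x * a * x⁻¹ ∈ Hq := by
    rintro x hx a ⟨⟨haN, hag⟩, ha'⟩
    refine (hHqmem _).2 ⟨⟨h.normal.conj_mem a haN x, ?_⟩, ?_⟩
    · rw [← hnorm x hx, cen_conj]
      exact ⟨a, hag, rfl⟩
    · rwa [← MulAut.conj_apply, MulEquiv.orderOf_eq]
  set π := QuotientGroup.mk' (center G) with hπ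
  have hπ1 : ∀ g : G, π g = 1 ↔ g ∈ center G := fun g => QuotientGroup.eq_one_iff g
  set Q := Hq.map π with hQ
  haveI hQnt : Nontrivial Q := by
    obtain ⟨y, s, k, hs, hsr, hys, hyN, hyc, heq⟩ := h.mixed_cen hg hgc hmx
    refine ⟨⟨π y, mem_map_of_mem _ ((hHqmem y).2 ⟨⟨hyN, heq ▸ mem_cen.2 (Commute.refl y)⟩,
      fun hd => hsr ((Nat.prime_dvd_prime_iff_eq h.prime hs).1
        (h.prime.dvd_of_dvd_pow (hd.trans (orderOf_dvd_of_pow_eq_one hys)))).symm⟩)⟩, 1,
      fun e => hyc ((hπ1 y).1 (congrArg Subtype.val e))⟩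
  have hXN : X.map π ≤ normalizer (Q : Set (G ⧸ center G)) := by
    rintro _ ⟨x, hx, rfl⟩
    rw [mem_normalizer_iff]
    intro q
    constructor
    · rintro ⟨a, ha, rfl⟩
      exact ⟨x * a * x⁻¹, hHqconj x hx a ha, by simp⟩
    · rintro ⟨a, ha, e⟩
      refine ⟨x⁻¹ * a * x, by simpa using hHqconj x⁻¹ (inv_mem hx) a ha, ?_⟩
      rw [map_mul, map_mul, map_inv, e]; group
  let φ : X.map π →* MulAut Q :=
    (Subgroup.normalizerMonoidHom Q).comp (Subgroup.inclusion hXN)
  have hfix : ∀ (u : X.map π) (q : Q), φ u q = q → q ≠ 1 → u = 1 := by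
    rintro ⟨_, x, hx, rfl⟩ ⟨_, a, ha, rfl⟩ hq hq1
    have h1 : π x * π a * (π x)⁻¹ = π a := congrArg Subtype.val hq
    have hac : a ∉ center G := fun hc => hq1 (Subtype.ext ((hπ1 a).2 hc))
    set c := x * a * x⁻¹ * a⁻¹ with hc
    have hcZ : c ∈ center G := by
      rw [← hπ1, hc, map_mul, map_mul, map_mul, map_inv, map_inv, h1, mul_inv_cancel]
    have hcH : c ∈ Hq := mul_mem (hHqconj x hx a ha) (inv_mem ha)
    obtain ⟨i, hi⟩ := R.isPGroup' ⟨x, hXR hx⟩
    have hxi : x ^ r ^ i = 1 := by simpa using congrArg Subtype.val hi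
    have hiter : ∀ k : ℕ, x ^ k * a * (x ^ k)⁻¹ = c ^ k * a := by
      intro k
      induction k with
      | zero => simp
      | succ k ih =>
        have hcx : x * c ^ k = c ^ k * x := mem_center_iff.1 (pow_mem hcZ k) x
        calc x ^ (k + 1) * a * (x ^ (k + 1))⁻¹ = x * (x ^ k * a * (x ^ k)⁻¹) * x⁻¹ := by
              rw [pow_succ']; group
          _ = (x * c ^ k) * a * x⁻¹ := by rw [ih]; group
          _ = c ^ k * (x * a * x⁻¹) := by rw [hcx]; group
          _ = c ^ k * c * a := by rw [hc]; group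
          _ = c ^ (k + 1) * a := by rw [pow_succ]
    have h4 := hiter (r ^ i)
    rw [hxi, one_mul, inv_one, mul_one, right_eq_mul] at h4
    have h5 : c = 1 := orderOf_eq_one_iff.1 (Nat.eq_one_of_dvd_coprimes
      (Nat.Coprime.pow_left i (h.prime.coprime_iff_not_dvd.2 ((hHqmem c).1 hcH).2))
      (orderOf_dvd_of_pow_eq_one h4) dvd_rfl)
    rw [hc, mul_inv_eq_one, mul_inv_eq_iff_eq_mul] at h5
    obtain ⟨haN, hag⟩ := ((hHqmem a).1 ha).1
    have hxg : x ∈ cen g := (h.cen_eq_of_ab (h.mem_of_pow hg) hgc hab haN hac hag).ge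
      (mem_cen.2 h5)
    exact Subtype.ext ((hπ1 x).2 (hXg x hx hxg))
  have hfpf : CfsgLib.Frobenius.IsFPF φ.range Q := by
    rintro ⟨_, u, rfl⟩ hne q hq
    by_contra hq1
    exact hne (Subtype.ext (show φ u = 1 by rw [hfix u q hq hq1, map_one]))
  -- `X` is elementary abelian modulo the centre
  set e : G → G := fun x => z * x * z⁻¹ * x⁻¹ with he
  have hez : ∀ x ∈ (R : Subgroup G), z * x * z⁻¹ = e x * x := fun x _ => by simp [he]
  have hem : ∀ x ∈ (R : Subgroup G), ∀ y ∈ (R : Subgroup G), e (x * y) = e x * e y := by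
    intro x hx y hy
    have hc' : x * e y = e y * x := mem_center_iff.1 (hzR y hy) x
    calc e (x * y) = (z * x * z⁻¹) * (z * y * z⁻¹) * y⁻¹ * x⁻¹ := by simp [he, mul_assoc]
      _ = (e x * x) * (e y * y) * y⁻¹ * x⁻¹ := by rw [hez x hx, hez y hy]
      _ = e x * (x * e y) * x⁻¹ := by group
      _ = e x * e y := by rw [hc']; group
  have hecen : ∀ x, e x = 1 → x ∈ cen z := fun x hx => by
    rw [mem_cen]
    simp only [he] at hx
    rw [mul_inv_eq_one, mul_inv_eq_iff_eq_mul] at hx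
    exact hx.symm
  have hcomm : ∀ x ∈ X, ∀ y ∈ X, x * y * x⁻¹ * y⁻¹ ∈ center G := by
    intro x hx y hy
    have hmem : x * y * x⁻¹ * y⁻¹ ∈ X :=
      mul_mem (mul_mem (mul_mem hx hy) (inv_mem hx)) (inv_mem hy)
    refine hXz _ hmem (hecen _ ?_)
    have e1 : x * y = (x * y * x⁻¹ * y⁻¹) * (y * x) := by group
    have h1 := hem _ (hXR hmem) _ (hXR (mul_mem hy hx))
    rw [← e1, hem x (hXR hx) y (hXR hy), hem y (hXR hy) x (hXR hx),
      show e y * e x = e x * e y from mem_center_iff.1 (hzR x (hXR hx)) (e y)] at h1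
    exact mul_eq_right.1 h1.symm
  have hpow : ∀ x ∈ X, x ^ r ∈ center G := by
    intro x hx
    refine hXz _ (pow_mem hx r) (hecen _ ?_)
    have h1 : ∀ k : ℕ, e (x ^ k) = e x ^ k := by
      intro k
      induction k with
      | zero => simp [he]
      | succ k ih =>
        rw [pow_succ, hem _ (hXR (pow_mem hx k)) _ (hXR hx), ih, pow_succ]
    rw [h1]
    have hc2 : ∀ g : G, g * e x = e x * g := mem_center_iff.1 (hzR x (hXR hx))
    have h2 : ∀ k : ℕ, z ^ k * x * (z ^ k)⁻¹ = e x ^ k * x := by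
      intro k
      induction k with
      | zero => simp
      | succ k ih =>
        calc z ^ (k + 1) * x * (z ^ (k + 1))⁻¹ = z * (z ^ k * x * (z ^ k)⁻¹) * z⁻¹ := by
              rw [pow_succ']; group
          _ = (z * e x ^ k) * x * z⁻¹ := by rw [ih]; group
          _ = e x ^ k * (z * x * z⁻¹) := by
            rw [((show Commute z (e x) from hc2 z).pow_right k).eq]; group
          _ = e x ^ k * e x * x := by rw [hez x (hXR hx)]; group
          _ = e x ^ (k + 1) * x := by rw [pow_succ]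
    have h3 := h2 r
    rw [← (mem_center_iff.1 hzr x), mul_inv_cancel_right, right_eq_mul] at h3
    exact h3
  set A : φ.range := ⟨φ ⟨π a, mem_map_of_mem _ ha⟩, _, rfl⟩
  set B : φ.range := ⟨φ ⟨π b, mem_map_of_mem _ hb⟩, _, rfl⟩
  have hinj : ∀ u : X.map π, φ u = 1 → u = 1 := by
    intro u hu
    obtain ⟨q, hq⟩ := exists_ne (1 : Q)
    exact hfix u q (by rw [hu]; rfl) hq
  have hp1 : ∀ (x : G) (hx : x ∈ X), φ ⟨π x, mem_map_of_mem _ hx⟩ ^ r = 1 := by
    intro x hx
    rw [← map_pow, show (⟨π x, mem_map_of_mem _ hx⟩ : X.map π) ^ r = 1 from Subtype.ext ?_, map_one]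
    rw [SubgroupClass.coe_pow, ← map_pow, OneMemClass.coe_one, hπ1]
    exact hpow x hx
  have hAB : Commute A B := by
    apply Subtype.ext
    show φ _ * φ _ = φ _ * φ _
    rw [← map_mul, ← map_mul]
    congr 1
    apply Subtype.ext
    show π a * π b = π b * π a
    rw [← mul_inv_eq_one, mul_inv_rev, ← map_inv, ← map_inv, ← map_mul, ← map_mul, ← map_mul, hπ1]
    simpa [mul_assoc] using hcomm a ha b hb
  have hA1 : A ≠ 1 := fun e' => hac ((hπ1 a).1
    (congrArg Subtype.val (hinj ⟨π a, mem_map_of_mem _ ha⟩ (congrArg Subtype.val e'))))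
  obtain ⟨l, hl⟩ := mem_zpowers_of_commute hfpf h.prime hA1 (Subtype.ext (hp1 a ha))
    (Subtype.ext (hp1 b hb)) hAB
  refine ⟨l, ?_⟩
  have hl' : φ ⟨π a, mem_map_of_mem _ ha⟩ ^ l = φ ⟨π b, mem_map_of_mem _ hb⟩ :=
    congrArg Subtype.val hl
  have h6 := hinj ((⟨π a, mem_map_of_mem _ ha⟩ ^ l)⁻¹ * ⟨π b, mem_map_of_mem _ hb⟩)
    (by rw [map_mul, map_inv, map_zpow, hl', inv_mul_cancel])
  rw [← hπ1]
  simpa using congrArg Subtype.val h6

/-- A noncentral element whose centralizer has a Sylow `r`-subgroup which is cyclic modulo the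
centre satisfies `AbIn`, when it is not mixed. -/
theorem ab_of_small (h : TwoNormal N r m) {x : G} {j : ℕ} (hx : x ^ r ^ j = 1)
    (hxc : x ∉ center G) (hnmx : ¬ Mixed N r x) {T : Subgroup G} {a g : G} (hgN : g ∈ N)
    (hgc : g ∉ center G) (hTg : T ≤ cen g) (hT : ∃ U : Sylow r (cen g), Nat.card T = Nat.card U)
    (haT : a ∈ T) (hcyc : ∀ b ∈ T, ∃ l : ℤ, (a ^ l)⁻¹ * b ∈ center G) (har : a ^ r ∈ center G) :
    AbIn N x := by
  haveI := Fact.mk h.prime
  intro d hdN hdx
  -- parts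
  intro w hw
  refine mem_cen.2 (Commute.symm (mem_cen.1 ?_))
  refine mem_of_parts fun e p l hp hpl => ?_
  refine mem_cen.2 (Commute.symm (mem_cen.1 ?_))
  by_cases hb : d ^ e ∈ center G
  · exact mem_cen.2 ((mem_center_iff.1 hb) w)
  by_cases hpr : p = r
  · subst hpr
    -- the `r`-part of the centre
    obtain ⟨S⟩ := (inferInstance : Nonempty (Sylow p (center G)))
    set Zr := (S : Subgroup (center G)).map (center G).subtype with hZr
    have hTp : IsPGroup p T := by
      obtain ⟨U, hU⟩ := hT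
      obtain ⟨k, hk⟩ := IsPGroup.iff_card.1 U.isPGroup'
      exact IsPGroup.of_card (hU.trans hk)
    have hZmem : ∀ c : G, c ∈ center G → ∀ k : ℕ, c ^ p ^ k = 1 → c ∈ Zr := by
      intro c hc k hk
      refine ⟨⟨c, hc⟩, mem_sylow_of_commute (j := k) (Subtype.ext (by simpa using hk)) (fun t => mul_comm' t _) S, rfl⟩
    have hTle : Nat.card T ≤ p * Nat.card Zr := by
      have hdec : ∀ b : T, ∃ (i : Fin p) (c : Zr), (b : G) = a ^ (i : ℕ) * c := by
        intro b
        obtain ⟨l, hl⟩ := hcyc b b.2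
        set i := (l % (p : ℤ)).toNat
        have hp0 : (0 : ℤ) < p := by exact_mod_cast hp.pos
        have hi : (i : ℤ) = l % (p : ℤ) := Int.toNat_of_nonneg (Int.emod_nonneg _ hp0.ne')
        have hip : i < p := by
          have := Int.emod_lt_of_pos l hp0
          omega
        have hc : (a ^ i)⁻¹ * b ∈ center G := by
          have e1 : a ^ l = a ^ i * (a ^ p) ^ (l / (p : ℤ)) := by
            rw [← zpow_natCast a p, ← zpow_mul, ← zpow_natCast a i, ← zpow_add, hi,
              Int.emod_add_mul_ediv]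
          have e2 : (a ^ i)⁻¹ * (b : G) = ((a ^ i)⁻¹ * a ^ l) * ((a ^ l)⁻¹ * b) := by group
          rw [e2]
          refine mul_mem ?_ hl
          rw [e1, inv_mul_cancel_left]
          exact zpow_mem har _
        obtain ⟨k, hk⟩ := hTp ⟨(a ^ i)⁻¹ * b, mul_mem (inv_mem (pow_mem haT i)) b.2⟩
        exact ⟨⟨i, hip⟩, ⟨_, hZmem _ hc k (by simpa using congrArg Subtype.val hk)⟩,
          by simp⟩
      choose fi fc hfc using hdec
      calc Nat.card T ≤ Nat.card (Fin p × Zr) :=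
            Nat.card_le_card_of_injective (fun b => (fi b, fc b)) fun b b' he => by
              simp only [Prod.mk.injEq] at he
              exact Subtype.ext (by rw [hfc b, hfc b', he.1, he.2])
        _ = p * Nat.card Zr := by rw [Nat.card_prod, Nat.card_fin]
    set x' : cen x := ⟨x, mem_cen.2 (Commute.refl x)⟩
    obtain ⟨U, hU⟩ := (isPGroup_zpowers (z := (⟨d ^ e, pow_mem hdx e⟩ : cen x)) hp
      (Subtype.ext (by simpa using pElem_pow hpl) :
        (⟨d ^ e, pow_mem hdx e⟩ : cen x) ^ p ^ l = 1)).exists_le_sylow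
    set U0 := (U : Subgroup (cen x)).map (cen x).subtype with hU0
    have hxU : x ∈ U0 := ⟨x', mem_sylow_of_commute (j := j)
      (Subtype.ext (by simpa [x'] using hx))
      (fun t => Subtype.ext (mem_cen.1 t.2).eq) U, rfl⟩
    have hbU : d ^ e ∈ U0 := ⟨⟨d ^ e, pow_mem hdx e⟩, hU (mem_zpowers _), rfl⟩
    have hZU : Zr ≤ U0 := by
      rintro _ ⟨c, hc, rfl⟩
      obtain ⟨k, hk⟩ := S.isPGroup' ⟨c, hc⟩
      exact h.central_mem_sylow c.2
        (by simpa using congrArg (fun t : (S : Subgroup (center G)) => ((t : center G) : G)) hk) U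
    have hcardU : Nat.card U0 = Nat.card T := by
      obtain ⟨V, hV⟩ := hT
      rw [hV, hU0, h.sylow_card (h.mem_of_pow hx) hgN hxc hgc U V,
        card_map_of_injective (cen g).subtype_injective]
    have hWle : zpowers x ⊔ Zr ≤ U0 := sup_le (zpowers_le.2 hxU) hZU
    have hlt : Zr ≠ zpowers x ⊔ Zr := fun e' => hxc (map_subtype_le _
      (e'.ge ((le_sup_left : zpowers x ≤ zpowers x ⊔ Zr) (mem_zpowers x))))
    obtain ⟨kz, hkz⟩ := IsPGroup.iff_card.1 (S.isPGroup'.map (center G).subtype)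
    obtain ⟨kw, hkw⟩ := IsPGroup.iff_card.1 ((U.isPGroup'.map (cen x).subtype).to_le hWle)
    have hle : p * Nat.card Zr ≤ Nat.card (zpowers x ⊔ Zr : Subgroup G) := by
      rw [hkw, hZr, hkz, ← pow_succ']
      refine Nat.pow_le_pow_right hp.pos ?_
      by_contra hcon
      push Not at hcon
      refine hlt (eq_of_le_of_card_ge le_sup_right ?_)
      rw [hkw, hZr, hkz]
      exact Nat.pow_le_pow_right hp.pos (by omega)
    have hEq : zpowers x ⊔ Zr = U0 := eq_of_le_of_card_ge hWle (by rw [hcardU]; omega)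
    rw [← hEq] at hbU
    have hsup : zpowers x ⊔ Zr ≤ centralizer (cen x : Set G) := by
      refine sup_le (zpowers_le.2 (mem_centralizer_iff.2 fun t ht => (mem_cen.1 ht).eq)) ?_
      rintro _ ⟨c, -, rfl⟩
      exact center_le_centralizer _ c.2
    exact mem_cen.2 (mem_centralizer_iff.1 (hsup hbU) w hw)
  · exfalso
    exact hnmx ⟨d ^ e, p, l, hp, hpr, pElem_pow hpl, pow_mem hdN e, hb, pow_mem hdx e⟩

omit [Finite G] in
theorem cen_mul_central {g c : G} (hc : c ∈ center G) : cen (g * c) = cen g := by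
  ext w
  have hwc : Commute w c := mem_center_iff.1 hc w
  rw [mem_cen, mem_cen]
  exact ⟨fun h1 => by simpa using h1.mul_right hwc.inv_right, fun h1 => h1.mul_right hwc⟩

omit [Finite G] in
theorem cen_central_mul {g c : G} (hc : c ∈ center G) : cen (c * g) = cen g := by
  rw [← mem_center_iff.1 hc g]; exact cen_mul_central hc

theorem conj_not_central {g : G} (t : G) (hg : g ∉ center G) : t * g * t⁻¹ ∉ center G := fun hc =>
  hg (by simpa [mul_assoc] using (inferInstance : (center G).Normal).conj_mem _ hc t⁻¹)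

theorem mixed_conj (h : TwoNormal N r m) {g : G} (hmx : Mixed N r g) (t : G) :
    Mixed N r (t * g * t⁻¹) := by
  obtain ⟨y, s, k, h1, h2, h3, h4, h5, h6⟩ := hmx
  refine ⟨t * y * t⁻¹, s, k, h1, h2, conj_pow_eq_one h3, h.normal.conj_mem y h4 t,
    conj_not_central t h5, ?_⟩
  rw [cen_conj]
  exact ⟨y, h6, by simp⟩

theorem exists_pow_r (h : TwoNormal N r m) {t : G} {j : ℕ} (ht : t ^ r ^ j = 1)
    (htc : t ∉ center G) : ∃ e : ℕ, t ^ e ∉ center G ∧ (t ^ e) ^ r ∈ center G := by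
  induction j generalizing t with
  | zero => rw [pow_zero, pow_one] at ht; exact absurd (ht ▸ one_mem _) htc
  | succ j ih =>
    by_cases hc : t ^ r ∈ center G
    · exact ⟨1, by rwa [pow_one], by rwa [pow_one]⟩
    · obtain ⟨e, h1, h2⟩ := ih (t := t ^ r) (by rw [← pow_mul, ← pow_succ']; exact ht) hc
      exact ⟨r * e, by rwa [pow_mul], by rwa [pow_mul]⟩

theorem exists_w (h : TwoNormal N r m) (R : Sylow r G) {X : Subgroup G}
    (hXR : X ≤ (R : Subgroup G)) (hXn : ∀ a ∈ (R : Subgroup G), ∀ x ∈ X, a * x * a⁻¹ ∈ X)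
    (hX : ¬ X ≤ center G) :
    ∃ w ∈ X, w ∉ center G ∧ w ^ r ∈ center G ∧
      ∀ a ∈ (R : Subgroup G), w * a * w⁻¹ * a⁻¹ ∈ center G := by
  haveI := Fact.mk h.prime
  set π := QuotientGroup.mk' (center G) with hπ
  have hπ1 : ∀ g : G, π g = 1 ↔ g ∈ center G := fun g => QuotientGroup.eq_one_iff g
  set Rb := (R : Subgroup G).map π with hRb
  set Xb := (X.map π).subgroupOf Rb with hXb
  have hXbR : X.map π ≤ Rb := map_mono hXR
  haveI : Xb.Normal := by
    refine ⟨fun x hx a => ?_⟩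
    obtain ⟨a0, ha0, hae⟩ := a.2
    obtain ⟨x0, hx0, hxe⟩ := mem_subgroupOf.1 hx
    rw [hXb, mem_subgroupOf]
    refine ⟨a0 * x0 * a0⁻¹, hXn a0 ha0 x0 hx0, ?_⟩
    simp [hae, hxe]
  have hRp : IsPGroup r Rb := R.isPGroup'.map _
  obtain ⟨x0, hx0, hx0c⟩ := SetLike.not_le_iff_exists.1 hX
  have hnt : Nontrivial Xb := ⟨⟨⟨π x0, hXbR (mem_map_of_mem _ hx0)⟩,
      mem_subgroupOf.2 (mem_map_of_mem _ hx0)⟩, 1,
    fun e => hx0c ((hπ1 x0).1 (congrArg (fun t : Xb => ((t : Rb) : G ⧸ center G)) e))⟩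
  obtain ⟨k, hk⟩ := IsPGroup.iff_card.1 (hRp.to_subgroup Xb)
  have hdvd : r ∣ Nat.card Xb := by
    have h1 : k ≠ 0 := fun e => by
      have := Finite.one_lt_card (α := Xb)
      rw [hk, e, pow_zero] at this
      omega
    rw [hk]; exact dvd_pow_self r h1
  letI : MulAction Rb Xb := MulAction.compHom Xb (MulAut.conjNormal (H := Xb))
  have h1fix : (1 : Xb) ∈ MulAction.fixedPoints Rb Xb := fun a => by
    show MulAut.conjNormal a (1 : Xb) = 1
    simp
  obtain ⟨q, hq, hq1⟩ := hRp.exists_fixed_point_of_prime_dvd_card_of_fixed_point Xb hdvd h1fix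
  obtain ⟨x, hx, hxe⟩ := mem_subgroupOf.1 q.2
  have hxc : x ∉ center G := fun hc => hq1 (Subtype.ext (Subtype.ext (by
    rw [← hxe, (hπ1 x).2 hc]; rfl)))
  have hxfix : ∀ a ∈ (R : Subgroup G), Commute (π a) (π x) := by
    intro a ha
    have h2 : MulAut.conjNormal (⟨π a, mem_map_of_mem _ ha⟩ : Rb) q = q :=
      hq ⟨π a, mem_map_of_mem _ ha⟩
    have h3 := congrArg (fun t : Xb => ((t : Rb) : G ⧸ center G)) h2
    simp only [MulAut.conjNormal_apply, Subgroup.coe_mul, InvMemClass.coe_inv] at h3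
    rw [← hxe] at h3
    exact mul_inv_eq_iff_eq_mul.1 h3
  obtain ⟨j, hj⟩ := R.isPGroup' ⟨x, hXR hx⟩
  obtain ⟨e, he1, he2⟩ := h.exists_pow_r (j := j) (by simpa using congrArg Subtype.val hj) hxc
  refine ⟨x ^ e, pow_mem hx e, he1, he2, fun a ha => ?_⟩
  rw [← hπ1, map_mul, map_mul, map_mul, map_inv, map_inv, map_pow,
    ((hxfix a ha).pow_right e).symm.eq]
  group

/-- A conjugate of `g` has a Sylow subgroup of its centralizer inside `R`. -/
theorem sylow_in (h : TwoNormal N r m) (R : Sylow r G) (g : G) :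
    ∃ t : G, Nat.card ((R : Subgroup G) ⊓ cen (t * g * t⁻¹) : Subgroup G) =
      r ^ (Nat.card (cen g)).factorization r := by
  haveI := Fact.mk h.prime
  obtain ⟨U⟩ := (inferInstance : Nonempty (Sylow r (cen g)))
  obtain ⟨R1, hR1⟩ := (U.isPGroup'.map (cen g).subtype).exists_le_sylow
  obtain ⟨t, ht⟩ := MulAction.exists_smul_eq G R1 R
  refine ⟨t, le_antisymm ?_ ?_⟩
  · obtain ⟨k, hk⟩ := IsPGroup.iff_card.1 (R.isPGroup'.to_le
      (inf_le_left : (R : Subgroup G) ⊓ cen (t * g * t⁻¹) ≤ _))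
    rw [hk]
    refine Nat.le_of_dvd (pow_pos h.prime.pos _) (pow_dvd_pow r ?_)
    refine (h.prime.pow_dvd_iff_le_factorization Nat.card_pos.ne').1 ?_
    have h1 : Nat.card ((R : Subgroup G) ⊓ cen (t * g * t⁻¹) : Subgroup G) ∣
        Nat.card (cen (t * g * t⁻¹)) := card_dvd_of_le inf_le_right
    rw [hk, cen_conj, card_map_of_injective (MulAut.conj t).injective] at h1
    exact h1
  · rw [← U.card_eq_multiplicity, ← card_map_of_injective (cen g).subtype_injective,
      ← card_map_of_injective (K := (U : Subgroup (cen g)).map (cen g).subtype)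
        (f := (MulAut.conj t).toMonoidHom) (MulAut.conj t).injective]
    refine Nat.le_of_dvd Nat.card_pos (card_dvd_of_le ?_)
    rintro _ ⟨a, ha, rfl⟩
    refine ⟨?_, ?_⟩
    · rw [← ht]
      show _ ∈ ((t • R1 : Sylow r G) : Subgroup G)
      rw [Sylow.coe_subgroup_smul]
      refine mem_pointwise_smul_iff_inv_smul_mem.2 ?_
      have e : (MulAut.conj t)⁻¹ • ((MulAut.conj t).toMonoidHom a) = a := by
        simp [MulAut.smul_def, mul_assoc]
      rw [e]
      exact hR1 ha
    · rw [SetLike.mem_coe, cen_conj]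
      exact ⟨a, map_subtype_le _ ha, rfl⟩

/-- The `r`-part of a component is that of the whole centralizer. -/
theorem factorization_inf (h : TwoNormal N r m) (g : G) :
    (Nat.card (N ⊓ cen g : Subgroup G)).factorization r =
      (Nat.card (cen g)).factorization r := by
  haveI := Fact.mk h.prime
  obtain ⟨U⟩ := (inferInstance : Nonempty (Sylow r (cen g)))
  refine le_antisymm
    ((Nat.factorization_le_iff_dvd Nat.card_pos.ne' Nat.card_pos.ne').2
      (card_dvd_of_le inf_le_right) r) ?_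
  refine (h.prime.pow_dvd_iff_le_factorization Nat.card_pos.ne').1 ?_
  rw [← U.card_eq_multiplicity, ← card_map_of_injective (cen g).subtype_injective]
  refine card_dvd_of_le fun a ha => ⟨?_, map_subtype_le _ ha⟩
  obtain ⟨b, hb, rfl⟩ := ha
  obtain ⟨k, hk⟩ := U.isPGroup' ⟨b, hb⟩
  exact h.mem_of_pow (k := k)
    (by simpa using congrArg (fun t : (U : Subgroup (cen g)) => ((t : cen g) : G)) hk)

/-- A bound on components transports `Mixed`. -/
theorem mixed_of_dvd (h : TwoNormal N r m) {t z : G} {j : ℕ} (ht : t ^ r ^ j = 1)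
    (htc : t ∉ center G) (hmx : Mixed N r t) {k : ℕ}
    (hdvd : Nat.card (N ⊓ cen t : Subgroup G) ∣ Nat.card (N ⊓ cen z : Subgroup G) * r ^ k) :
    Mixed N r z := by
  obtain ⟨y, s, l, hs, hsr, hys, hyN, hyc, hyeq⟩ := h.mixed_cen ht htc hmx
  haveI := Fact.mk hs
  by_contra hnz
  obtain ⟨S⟩ := (inferInstance : Nonempty (Sylow s (N ⊓ cen z : Subgroup G)))
  set S0 := (S : Subgroup (N ⊓ cen z : Subgroup G)).map (N ⊓ cen z).subtype with hS0
  have hS0c : S0 ≤ N ⊓ center G := by
    rintro _ ⟨a, ha, rfl⟩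
    refine ⟨a.2.1, ?_⟩
    by_contra hac
    obtain ⟨i, hi⟩ := S.isPGroup' ⟨a, ha⟩
    exact hnz ⟨a, s, i, hs, hsr,
      by simpa using congrArg (fun t : (S : Subgroup (N ⊓ cen z : Subgroup G)) =>
        ((t : (N ⊓ cen z : Subgroup G)) : G)) hi, a.2.1, hac, a.2.2⟩
  have hbigp : IsPGroup s (S0 ⊔ zpowers y : Subgroup G) := by
    refine IsPGroup.to_sup_of_normal_left' (S.isPGroup'.map _) (isPGroup_zpowers hs hys) ?_
    refine le_trans ?_ (centralizer_le_normalizer _)
    intro w _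
    rw [mem_centralizer_iff]
    exact fun c hc => (mem_center_iff.1 (hS0c hc).2 w).symm
  have hbig : S0 ⊔ zpowers y ≤ N ⊓ cen t :=
    sup_le (le_inf (hS0c.trans inf_le_left)
      (hS0c.trans (inf_le_right.trans (center_le_centralizer _))))
      (zpowers_le.2 ⟨hyN, hyeq ▸ mem_cen.2 (Commute.refl y)⟩)
  obtain ⟨i, hi⟩ := IsPGroup.iff_card.1 hbigp
  have h1 : s ^ i ∣ Nat.card (N ⊓ cen z : Subgroup G) :=
    ((Nat.Coprime.pow _ _ ((Nat.coprime_primes hs h.prime).2 hsr)).dvd_of_dvd_mul_right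
      (hi ▸ (card_dvd_of_le hbig).trans hdvd))
  have h2 : Nat.card (S0 ⊔ zpowers y : Subgroup G) ≤ Nat.card S0 := by
    rw [hi, hS0, card_map_of_injective (N ⊓ cen z).subtype_injective, S.card_eq_multiplicity]
    exact Nat.pow_le_pow_right hs.pos
      ((hs.pow_dvd_iff_le_factorization Nat.card_pos.ne').1 h1)
  have h3 : S0 = S0 ⊔ zpowers y := eq_of_le_of_card_ge le_sup_left h2
  exact hyc (hS0c (h3.ge ((le_sup_right : zpowers y ≤ S0 ⊔ zpowers y) (mem_zpowers y)))).2

/-- The setting where no noncentral element of a Sylow `r`-subgroup is central in it. -/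
theorem exists_mixed_w (h : TwoNormal N r m)
    (hA : ∀ (R : Sylow r G), ∀ z ∈ (R : Subgroup G), (R : Subgroup G) ≤ cen z → z ∈ center G)
    {y : G} {s l : ℕ} (hs : s.Prime) (hsr : s ≠ r) (hys : y ^ s ^ l = 1) (hyN : y ∈ N)
    (hyc : y ∉ center G) (R : Sylow r G) :
    ∃ z ∈ (R : Subgroup G), z ∉ center G ∧ z ^ r ∈ center G ∧
      (∀ a ∈ (R : Subgroup G), z * a * z⁻¹ * a⁻¹ ∈ center G) ∧ Mixed N r z := by
  haveI := Fact.mk h.prime
  have hrpow : ∀ x ∈ (R : Subgroup G), ∃ j : ℕ, x ^ r ^ j = 1 := fun x hx => by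
    obtain ⟨j, hj⟩ := R.isPGroup' ⟨x, hx⟩
    exact ⟨j, by simpa using congrArg Subtype.val hj⟩
  obtain ⟨t0, ht0⟩ := h.sylow_in R y
  set y' := t0 * y * t0⁻¹ with hy'
  set T := (R : Subgroup G) ⊓ cen y' with hT
  have hy'N : y' ∈ N := h.normal.conj_mem y hyN t0
  have hy'c : y' ∉ center G := conj_not_central t0 hyc
  have hy's : y' ^ s ^ l = 1 := conj_pow_eq_one hys
  have hmixT : ∀ a ∈ T, Mixed N r a := fun a ha =>
    ⟨y', s, l, hs, hsr, hy's, hy'N, hy'c, mem_cen.2 (mem_cen.1 ha.2).symm⟩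
  have hy'card : Nat.card (cen y') = Nat.card (cen y) := h.card_eq hy'N hyN hy'c hyc
  -- `T` is not central
  have hTc : ¬ T ≤ center G := by
    intro hTc
    obtain ⟨u, hu, huc⟩ := SetLike.not_le_iff_exists.1 (h.notCentral R)
    obtain ⟨j, hj⟩ := hrpow u hu
    set u' : cen u := ⟨u, mem_cen.2 (Commute.refl u)⟩
    obtain ⟨U⟩ := (inferInstance : Nonempty (Sylow r (cen u)))
    have huU : u ∈ (U : Subgroup (cen u)).map (cen u).subtype :=
      ⟨u', mem_sylow_of_commute (j := j) (Subtype.ext (by simpa [u'] using hj))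
        (fun a => Subtype.ext (mem_cen.1 a.2).eq) U, rfl⟩
    have hTU : T ≤ (U : Subgroup (cen u)).map (cen u).subtype := by
      intro c hc
      obtain ⟨k, hk⟩ := hrpow c hc.1
      exact h.central_mem_sylow (hTc hc) hk U
    have heq : T = (U : Subgroup (cen u)).map (cen u).subtype := by
      refine eq_of_le_of_card_ge hTU (le_of_eq ?_)
      rw [card_map_of_injective (cen u).subtype_injective, U.card_eq_multiplicity, ht0,
        h.card_eq hyN (h.mem_of_pow hj) hyc huc]
    exact huc (hTc (heq.ge huU))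
  by_cases hw : ∃ w ∈ T, w ∉ center G ∧ w ^ r ∈ center G ∧
      ∀ a ∈ (R : Subgroup G), w * a * w⁻¹ * a⁻¹ ∈ center G
  · obtain ⟨w, hwT, h1, h2, h3⟩ := hw
    exact ⟨w, hwT.1, h1, h2, h3, hmixT w hwT⟩
  -- `T` is not normal in `R`
  set TR := T.subgroupOf (R : Subgroup G) with hTR
  set V := normalizer (TR : Set (R : Subgroup G)) with hV
  have hVne : V ≠ ⊤ := by
    intro hVt
    refine hw (h.exists_w R inf_le_left (fun a ha x hx => ?_) hTc)
    have h1 := ((mem_normalizer_iff.1 (hVt.ge (mem_top (⟨a, ha⟩ : (R : Subgroup G)))))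
      ⟨x, hx.1⟩).1 (mem_subgroupOf.2 hx)
    simpa [hTR, mem_subgroupOf] using h1
  haveI : Group.IsNilpotent (R : Subgroup G) := R.isPGroup'.isNilpotent
  obtain ⟨g, hgV, hgV'⟩ := SetLike.exists_of_lt
    (normalizerCondition_of_isNilpotent V hVne.lt_top)
  obtain ⟨t1, ht1, ht1c⟩ := SetLike.not_le_iff_exists.1 hTc
  obtain ⟨j1, hj1⟩ := hrpow t1 ht1.1
  obtain ⟨e1, ht2c, ht2r⟩ := h.exists_pow_r hj1 ht1c
  set t := t1 ^ e1 with ht
  have htT : t ∈ T := pow_mem ht1 e1
  obtain ⟨j, hj⟩ := hrpow t htT.1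
  have htN := h.mem_of_pow hj
  have habt := h.mixed_ab hj ht2c (hmixT t htT)
  have hty : cen t = cen y' := h.cen_eq_of_ab htN ht2c habt hy'N hy'c
    (mem_cen.2 (mem_cen.1 htT.2).symm)
  set T2 := T.map (MulAut.conj (g : G)).toMonoidHom with hT2
  have hT2R : T2 ≤ (R : Subgroup G) := by
    rintro _ ⟨a, ha, rfl⟩
    exact mul_mem (mul_mem g.2 ha.1) (inv_mem g.2)
  have hT2cen : T2 ≤ cen ((g : G) * y' * (g : G)⁻¹) := by
    rintro _ ⟨a, ha, rfl⟩
    rw [cen_conj]
    exact ⟨a, ha.2, rfl⟩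
  have hT2mem : ∀ a ∈ (R : Subgroup G), a ∈ cen ((g : G) * y' * (g : G)⁻¹) → a ∈ T2 := by
    intro a ha hac
    rw [cen_conj] at hac
    obtain ⟨b, hb, rfl⟩ := hac
    refine ⟨b, ⟨?_, hb⟩, rfl⟩
    have h1 := mul_mem (mul_mem (inv_mem g.2) ha) g.2
    simp only [MulEquiv.coe_toMonoidHom, MulAut.conj_apply] at h1
    rw [show ((g : G))⁻¹ * ((g : G) * b * (g : G)⁻¹) * (g : G) = b by group] at h1
    exact h1
  set y2 := (g : G) * y' * (g : G)⁻¹ with hy2
  have hy2N : y2 ∈ N := h.normal.conj_mem y' hy'N _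
  have hy2c : y2 ∉ center G := conj_not_central _ hy'c
  have hT2cen' : ∀ x ∈ T2, x ∉ center G → cen x = cen y2 := by
    intro x hx hxc
    obtain ⟨i, hi⟩ := hrpow x (hT2R hx)
    obtain ⟨a, ha, rfl⟩ := hx
    exact h.cen_eq_of_ab (h.mem_of_pow hi) hxc
      (h.mixed_ab hi hxc (h.mixed_conj (hmixT a ha) g)) hy2N hy2c
      (mem_cen.2 (mem_cen.1 (hT2cen ⟨a, ha, rfl⟩)).symm)
  have hne2 : cen y2 ≠ cen y' := by
    intro heq
    apply hgV'
    rw [hV, mem_normalizer_iff]
    intro a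
    simp only [hTR, mem_subgroupOf, hT, mem_inf]
    have h1 : ((g * a * g⁻¹ : (R : Subgroup G)) : G) = (g : G) * a * (g : G)⁻¹ := rfl
    constructor
    · rintro ⟨-, h2⟩
      refine ⟨(g * a * g⁻¹).2, ?_⟩
      rw [h1, ← heq, hy2, cen_conj]
      exact ⟨a, h2, rfl⟩
    · rintro ⟨-, h2⟩
      refine ⟨a.2, ?_⟩
      rw [h1, ← heq, hy2, cen_conj] at h2
      obtain ⟨b, hb, e⟩ := h2
      have : b = a := by simpa using e
      exact this ▸ hb
  have hT2V : ∀ x ∈ T2, ∃ hx : x ∈ (R : Subgroup G), (⟨x, hx⟩ : (R : Subgroup G)) ∈ V := by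
    rintro _ ⟨a, ha, rfl⟩
    refine ⟨hT2R ⟨a, ha, rfl⟩, ?_⟩
    exact ((mem_normalizer_iff.1 hgV) ⟨a, ha.1⟩).1 (le_normalizer (mem_subgroupOf.2 ha))
  obtain ⟨z, hzR, hzc, hzr, hzcomm⟩ := h.exists_w R le_rfl
    (fun a ha x hx => mul_mem (mul_mem ha hx) (inv_mem ha)) (h.notCentral R)
  by_cases hzm : Mixed N r z
  · exact ⟨z, hzR, hzc, hzr, hzcomm, hzm⟩
  exfalso
  have hnorm : ∀ x ∈ T2, cen (x * t * x⁻¹) = cen t := by
    intro x hx
    obtain ⟨hxR, hxV⟩ := hT2V x hx
    have h1 := ((mem_normalizer_iff.1 hxV) ⟨t, htT.1⟩).1 (mem_subgroupOf.2 htT)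
    have h2 : x * t * x⁻¹ ∈ T := mem_subgroupOf.1 h1
    exact (h.cen_eq_of_ab htN ht2c habt (h.normal.conj_mem t htN x) (conj_not_central x ht2c)
      (hty ▸ h2.2)).symm
  have hXg : ∀ x ∈ T2, x ∈ cen t → x ∈ center G := by
    intro x hx hxt
    by_contra hxc
    obtain ⟨i, hi⟩ := hrpow x (hT2R hx)
    apply hne2
    rw [← hT2cen' x hx hxc, ← h.cen_eq_of_ab htN ht2c habt (h.mem_of_pow hi) hxc hxt, hty]
  have hXz : ∀ x ∈ T2, x ∈ cen z → x ∈ center G := by
    intro x hx hxz
    by_contra hxc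
    have hz2 : z ∈ cen y2 := hT2cen' x hx hxc ▸ mem_cen.2 (mem_cen.1 hxz).symm
    obtain ⟨b, hb, hbe⟩ := hT2mem z hzR hz2
    apply hw
    have hbe' : (g : G) * b * (g : G)⁻¹ = z := hbe
    refine ⟨b, hb, fun hc => hzc (hbe' ▸ (inferInstance : (center G).Normal).conj_mem _ hc _),
      ?_, fun a ha => ?_⟩
    · have h1 := (inferInstance : (center G).Normal).conj_mem _ hzr (g : G)⁻¹
      rw [← hbe', conj_pow] at h1
      simpa [mul_assoc] using h1
    · have h1 := (inferInstance : (center G).Normal).conj_mem _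
        (hzcomm _ (mul_mem (mul_mem g.2 ha) (inv_mem g.2))) (g : G)⁻¹
      rw [← hbe'] at h1
      simpa [mul_assoc] using h1
  set a2 := (g : G) * t * (g : G)⁻¹ with ha2
  have ha2T : a2 ∈ T2 := ⟨t, htT, rfl⟩
  have ha2r : a2 ^ r ∈ center G := by
    rw [ha2, conj_pow]; exact (inferInstance : (center G).Normal).conj_mem _ ht2r _
  obtain ⟨i, hi⟩ := hrpow z hzR
  obtain ⟨U2⟩ := (inferInstance : Nonempty (Sylow r (cen y2)))
  have habz : AbIn N z := h.ab_of_small hi hzc hzm hy2N hy2c hT2cen ⟨U2, by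
      rw [hT2, card_map_of_injective (MulAut.conj (g : G)).injective, ht0,
        U2.card_eq_multiplicity, h.card_eq hyN hy2N hyc hy2c]⟩ ha2T
    (fun b hb => h.cyclic_mod_center hT2R hj ht2c (hmixT t htT) hnorm hXg hXz hzcomm hzr ha2T
      (conj_not_central _ ht2c) hb) ha2r
  have hzt : z ∉ cen t := fun hzt => by
    have h1 := h.cen_eq_of_ab htN ht2c habt (h.mem_of_pow hi) hzc hzt
    exact hzm (mixed_of_cen_eq (hmixT t htT) h1)
  obtain ⟨k, hk⟩ := h.card_inf_dvd hj ht2c (h.mem_of_pow hi) hzc habt habz (hzcomm t htT.1) hzt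
  exact hzm (h.mixed_of_dvd hj ht2c (hmixT t htT) hk)

/-- All noncentral `r`-elements are mixed. -/
theorem mixed_all (h : TwoNormal N r m)
    (hA : ∀ (R : Sylow r G), ∀ z ∈ (R : Subgroup G), (R : Subgroup G) ≤ cen z → z ∈ center G)
    {y : G} {s l : ℕ} (hs : s.Prime) (hsr : s ≠ r) (hys : y ^ s ^ l = 1) (hyN : y ∈ N)
    (hyc : y ∉ center G) {u : G} {j : ℕ} (hu : u ^ r ^ j = 1) (huc : u ∉ center G) :
    Mixed N r u := by
  haveI := Fact.mk h.prime
  obtain ⟨R0, hR0⟩ := (isPGroup_zpowers h.prime hu).exists_le_sylow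
  obtain ⟨t, ht⟩ := h.sylow_in R0 u
  set u' := t * u * t⁻¹ with hu'
  suffices Mixed N r u' by
    have h1 := h.mixed_conj this t⁻¹
    simpa [hu', mul_assoc] using h1
  set X := (R0 : Subgroup G) ⊓ cen u' with hX
  have hu'c : u' ∉ center G := conj_not_central t huc
  have hu'p : u' ^ r ^ j = 1 := conj_pow_eq_one hu
  have hu'N := h.mem_of_pow hu'p
  have huN := h.mem_of_pow hu
  have hu'X : u' ∈ X := by
    obtain ⟨U, hU⟩ := (isPGroup_zpowers (z := (⟨u', mem_cen.2 (Commute.refl u')⟩ : cen u')) h.prime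
      (Subtype.ext (by simpa using hu'p) :
        (⟨u', mem_cen.2 (Commute.refl u')⟩ : cen u') ^ r ^ j = 1)).exists_le_sylow
    have hnorm : X ≤ normalizer (zpowers u' : Set G) := by
      refine le_trans ?_ (centralizer_le_normalizer _)
      intro a ha
      rw [mem_centralizer_iff]
      rintro _ ⟨l', rfl⟩
      exact (Commute.zpow_left (mem_cen.1 ha.2).symm l').eq
    have hbig : IsPGroup r (zpowers u' ⊔ X : Subgroup G) := IsPGroup.to_sup_of_normal_left'
      (isPGroup_zpowers h.prime hu'p) (R0.isPGroup'.to_le inf_le_left) hnorm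
    obtain ⟨k, hk⟩ := IsPGroup.iff_card.1 hbig
    have hle : zpowers u' ⊔ X ≤ cen u' :=
      sup_le (zpowers_le.2 (mem_cen.2 (Commute.refl u'))) inf_le_right
    have h1 : r ^ k ∣ Nat.card (cen u') := hk ▸ card_dvd_of_le hle
    rw [h.prime.pow_dvd_iff_le_factorization Nat.card_pos.ne',
      h.card_eq hu'N huN hu'c huc] at h1
    have h2 : X = zpowers u' ⊔ X := eq_of_le_of_card_ge le_sup_right (by
      rw [hk, ht]; exact Nat.pow_le_pow_right h.prime.pos h1)
    exact h2.ge ((le_sup_left : zpowers u' ≤ zpowers u' ⊔ X) (mem_zpowers u'))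
  obtain ⟨z, hzR, hzc, hzr, hzcomm, hzm⟩ := h.exists_mixed_w hA hs hsr hys hyN hyc R0
  obtain ⟨i, hi⟩ := R0.isPGroup' ⟨z, hzR⟩
  have hzi : z ^ r ^ i = 1 := by simpa using congrArg Subtype.val hi
  have hzN := h.mem_of_pow hzi
  have habz := h.mixed_ab hzi hzc hzm
  by_contra hnm
  have hnz : u' ∉ cen z := fun hc =>
    hnm (mixed_of_cen_eq hzm (h.cen_eq_of_ab hzN hzc habz hu'N hu'c hc))
  have hXg : ∀ x ∈ X, x ∈ cen z → x ∈ center G := by
    intro x hx hxz
    by_contra hxc
    obtain ⟨k, hk⟩ := R0.isPGroup' ⟨x, hx.1⟩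
    have h1 := h.cen_eq_of_ab hzN hzc habz
      (h.mem_of_pow (k := k) (by simpa using congrArg Subtype.val hk)) hxc hxz
    exact hnz (h1.ge (mem_cen.2 (mem_cen.1 hx.2).symm))
  obtain ⟨e, he1, he2⟩ := h.exists_pow_r hu'p hu'c
  obtain ⟨U⟩ := (inferInstance : Nonempty (Sylow r (cen u')))
  have hnorm : ∀ x ∈ X, cen (x * z * x⁻¹) = cen z := by
    intro x hx
    have e1 : x * z * x⁻¹ = (z * x * z⁻¹ * x⁻¹)⁻¹ * z := by group
    rw [e1, cen_central_mul (inv_mem (hzcomm x hx.1))]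
  have habu : AbIn N u' := h.ab_of_small hu'p hu'c hnm hu'N hu'c (T := X) inf_le_right ⟨U, by
      rw [U.card_eq_multiplicity, h.card_eq hu'N huN hu'c huc]; exact ht⟩ (pow_mem hu'X e)
    (fun b hb => h.cyclic_mod_center (X := X) inf_le_left hzi hzc hzm hnorm hXg hXg hzcomm hzr
      (pow_mem hu'X e) he1 hb) he2
  have hcz : u' * z * u'⁻¹ * z⁻¹ ∈ center G := by
    have := inv_mem (hzcomm u' hu'X.1)
    simpa [mul_assoc] using this
  obtain ⟨k, hk⟩ := h.card_inf_dvd hzi hzc hu'N hu'c habz habu hcz hnz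
  exact hnm (h.mixed_of_dvd hzi hzc hzm hk)

/-- If two components bound each other up to a power of `r` they have the same order. -/
theorem card_inf_eq (h : TwoNormal N r m) {a b : G} (ha : a ∈ N) (hb : b ∈ N)
    (hac : a ∉ center G) (hbc : b ∉ center G) {k k' : ℕ}
    (h1 : Nat.card (N ⊓ cen a : Subgroup G) ∣ Nat.card (N ⊓ cen b : Subgroup G) * r ^ k)
    (h2 : Nat.card (N ⊓ cen b : Subgroup G) ∣ Nat.card (N ⊓ cen a : Subgroup G) * r ^ k') :
    Nat.card (N ⊓ cen a : Subgroup G) = Nat.card (N ⊓ cen b : Subgroup G) := by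
  have key : ∀ {A B k : ℕ}, A ≠ 0 → B ≠ 0 → A ∣ B * r ^ k → ∀ p, p ≠ r →
      A.factorization p ≤ B.factorization p := by
    intro A B k hA hB hd p hp
    have h3 := (Nat.factorization_le_iff_dvd hA
      (mul_ne_zero hB (pow_ne_zero k h.prime.ne_zero))).2 hd p
    rwa [Nat.factorization_mul hB (pow_ne_zero k h.prime.ne_zero), Finsupp.add_apply,
      h.prime.factorization_pow, Finsupp.single_apply, if_neg hp.symm, add_zero] at h3
  refine Nat.eq_of_factorization_eq Nat.card_pos.ne' Nat.card_pos.ne' fun p => ?_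
  by_cases hp : p = r
  · rw [hp, h.factorization_inf, h.factorization_inf, h.card_eq ha hb hac hbc]
  · exact le_antisymm (key Nat.card_pos.ne' Nat.card_pos.ne' h1 p hp)
      (key Nat.card_pos.ne' Nat.card_pos.ne' h2 p hp)

/-- The structure theorem. -/
theorem isNilpotent (h : TwoNormal N r m) : Group.IsNilpotent N := by
  classical
  haveI := Fact.mk h.prime
  haveI := h.normal
  set Z := (center G).subgroupOf N with hZ
  have hZc : Z ≤ center N := fun a ha => mem_center_iff.2 fun b =>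
    Subtype.ext (mem_center_iff.1 (mem_subgroupOf.1 ha) b)
  by_cases hP : ∀ (y : G) (s l : ℕ), s.Prime → s ≠ r → y ^ s ^ l = 1 → y ∈ N → y ∈ center G
  · -- the central quotient is an `r`-group
    refine Group.of_quotient_center_nilpotent (IsPGroup.isNilpotent (p := r) fun q => ?_)
    induction q using QuotientGroup.induction_on with
    | H a =>
    refine ⟨(orderOf (a : G)).factorization r, ?_⟩
    rw [← QuotientGroup.mk_pow, QuotientGroup.eq_one_iff]
    refine hZc (mem_subgroupOf.2 ?_)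
    rw [SubgroupClass.coe_pow]
    refine mem_of_parts fun e p i hp hpi => ?_
    rcases Nat.eq_zero_or_pos i with hi0 | hi0
    · rw [hi0, pow_zero, orderOf_eq_one_iff] at hpi
      rw [hpi]; exact one_mem _
    refine hP _ p i hp (fun hpr => ?_) (pElem_pow hpi) (pow_mem (pow_mem a.2 _) _)
    subst hpr
    have h1 : p ∣ orderOf ((a : G) ^ p ^ (orderOf (a : G)).factorization p) :=
      (hpi ▸ dvd_pow_self p hi0.ne' :
        p ∣ orderOf (((a : G) ^ p ^ (orderOf (a : G)).factorization p) ^ e)).trans (orderOf_pow_dvd e)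
    rw [orderOf_pow_of_dvd (pow_pos hp.pos _).ne' (Nat.ordProj_dvd _ _)] at h1
    exact Nat.not_dvd_ordCompl hp (orderOf_pos _).ne' h1
  push Not at hP
  obtain ⟨y, s, l, hs, hsr, hys, hyN, hyc⟩ := hP
  by_cases hB : ∃ (R : Sylow r G), ∃ z ∈ (R : Subgroup G),
      (R : Subgroup G) ≤ cen z ∧ z ∉ center G
  · -- a noncentral element central in a Sylow subgroup
    obtain ⟨R, z, hzR, hRz, hzc⟩ := hB
    obtain ⟨j, hj⟩ := R.isPGroup' ⟨z, hzR⟩
    have hzj : z ^ r ^ j = 1 := by simpa using congrArg Subtype.val hj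
    have hzN := h.mem_of_pow hzj
    have hrm : ¬ r ∣ m := fun hd => R.not_dvd_index (hd.trans
      ((h.idx_eq hzN hzc) ▸ index_dvd_of_le hRz))
    have hyz : ∀ (y : G) (s l : ℕ), s.Prime → s ≠ r → y ^ s ^ l = 1 → y ∈ N → y ∉ center G →
        ∃ g : G, cen y = cen (g * z * g⁻¹) := by
      intro y s l hs hsr hys hyN hyc
      obtain ⟨V⟩ := (inferInstance : Nonempty (Sylow r (cen y)))
      have hV : Nat.card ((V : Subgroup (cen y)).map (cen y).subtype) =
          r ^ (Nat.card G).factorization r := by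
        rw [card_map_of_injective (cen y).subtype_injective, V.card_eq_multiplicity]
        congr 1
        have hG := (cen y).card_mul_index
        rw [show (cen y).index = m from h.idx_eq hyN hyc] at hG
        have hm0 : m ≠ 0 := h.idx_eq hyN hyc ▸ index_ne_zero_of_finite
        rw [← hG, Nat.factorization_mul Nat.card_pos.ne' hm0, Finsupp.add_apply,
          Nat.factorization_eq_zero_of_not_dvd hrm, add_zero]
      obtain ⟨g, hg⟩ := MulAction.exists_smul_eq G R (Sylow.ofCard _ hV)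
      refine ⟨g, ?_⟩
      have hw : g * z * g⁻¹ ∈ (V : Subgroup (cen y)).map (cen y).subtype := by
        have h1 : g * z * g⁻¹ ∈ ((g • R : Sylow r G) : Subgroup G) := by
          rw [Sylow.coe_subgroup_smul]
          refine mem_pointwise_smul_iff_inv_smul_mem.2 ?_
          simpa [MulAut.smul_def, mul_assoc] using hzR
        rw [hg] at h1
        simpa using h1
      exact h.same_cen hyN (h.normal.conj_mem z hzN g) hyc (conj_not_central g hzc)
        (mem_cen.1 (map_subtype_le _ hw)).symm (coprime_orderOf hs hys fun hd => hsr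
          ((Nat.prime_dvd_prime_iff_eq hs h.prime).1 (hs.dvd_of_dvd_pow
            (hd.trans (orderOf_dvd_of_pow_eq_one (conj_pow_eq_one hzj))))))
    have hmz : Mixed N r z := by
      obtain ⟨g, hg⟩ := hyz y s l hs hsr hys hyN hyc
      have h1 : Mixed N r (g * z * g⁻¹) :=
        ⟨y, s, l, hs, hsr, hys, hyN, hyc, hg ▸ mem_cen.2 (Commute.refl y)⟩
      have h2 := h.mixed_conj h1 g⁻¹
      simpa [mul_assoc] using h2
    have habz := h.mixed_ab hzj hzc hmz
    set R' := R.subtype (h.sylow R) with hR'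
    have hRmem : ∀ (t : G), ∃ n0 : N, ∀ a, a ∈ (R : Subgroup G) →
        (n0 : G)⁻¹ * (t * a * t⁻¹) * n0 ∈ (R : Subgroup G) := by
      intro t
      obtain ⟨n0, hn0⟩ := MulAction.exists_smul_eq N R' ((t • R).subtype (h.sylow _))
      refine ⟨n0, fun a ha => ?_⟩
      have h1 : (⟨t * a * t⁻¹, h.normal.conj_mem a (h.sylow R ha) t⟩ : N) ∈
          (((t • R).subtype (h.sylow _) : Sylow r N) : Subgroup N) := by
        rw [Sylow.coe_subtype, mem_subgroupOf, Sylow.coe_subgroup_smul]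
        refine mem_pointwise_smul_iff_inv_smul_mem.2 ?_
        simpa [MulAut.smul_def, mul_assoc] using ha
      rw [← hn0, Sylow.coe_subgroup_smul, mem_pointwise_smul_iff_inv_smul_mem] at h1
      simpa [hR', mem_subgroupOf, MulAut.smul_def, mul_assoc] using h1
    set H := (cen z).subgroupOf N with hH
    have hcover : H = ⊤ := by
      refine CfsgLib.ConjCover.eq_top_of_conj_cover H fun g => ?_
      by_cases hg : ∃ (e p i : ℕ), p.Prime ∧ p ≠ r ∧ orderOf ((g : G) ^ e) = p ^ i ∧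
          (g : G) ^ e ∉ center G
      · obtain ⟨e, p, i, hp, hpr, hpi, hec⟩ := hg
        obtain ⟨t, ht⟩ := hyz _ p i hp hpr (pElem_pow hpi) (pow_mem g.2 e) hec
        obtain ⟨n0, hn0⟩ := hRmem t
        set w := (n0 : G)⁻¹ * (t * z * t⁻¹) * n0 with hw
        have hwc : w ∉ center G := by
          have := conj_not_central (n0 : G)⁻¹ (conj_not_central t hzc)
          simpa [hw] using this
        have hweq : cen z = cen w :=
          h.cen_eq_of_ab hzN hzc habz (h.sylow R (hn0 z hzR)) hwc (hRz (hn0 z hzR))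
        have hgt : (g : G) ∈ cen (t * z * t⁻¹) := ht ▸ mem_cen.2 ((Commute.refl (g : G)).pow_right e)
        refine ⟨n0⁻¹, ?_⟩
        rw [hH, mem_subgroupOf, hweq, hw]
        have h4 := (mem_cen.1 hgt).map (MulAut.conj (n0 : G)⁻¹).toMonoidHom
        simpa [mem_cen] using h4
      · push Not at hg
        set k := (orderOf (g : G)).factorization r
        set c := orderOf (g : G) / r ^ k
        have hgc : r ^ k * c = orderOf (g : G) := Nat.ordProj_mul_ordCompl_eq_self _ r
        have hap : ((g : G) ^ c) ^ r ^ k = 1 := by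
          rw [← pow_mul, mul_comm, hgc, pow_orderOf_eq_one]
        obtain ⟨n0, hn0⟩ := exists_conj_mem (H := (R' : Subgroup N)) (v := g ^ c) (k := k) h.prime
          R'.not_dvd_index (Subtype.ext (by simpa using hap))
        refine ⟨n0, ?_⟩
        rw [hH, mem_subgroupOf]
        refine mem_of_coprime_pow (g := ((n0 * g * n0⁻¹ : N) : G)) (a := c) (b := r ^ k)
          (Nat.Coprime.pow_right k (Nat.Coprime.symm (h.prime.coprime_iff_not_dvd.2
            (Nat.not_dvd_ordCompl h.prime (orderOf_pos (g : G)).ne')))) ?_ ?_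
        · rw [← SubgroupClass.coe_pow, conj_pow]
          exact hRz (mem_subgroupOf.1 (by simpa [hR'] using hn0))
        · rw [← SubgroupClass.coe_pow, conj_pow]
          refine center_le_centralizer _ ((inferInstance : (center G).Normal).conj_mem _ ?_ _)
          rw [SubgroupClass.coe_pow]
          refine mem_of_parts fun e p i hp hpi => ?_
          rcases Nat.eq_zero_or_pos i with hi0 | hi0
          · rw [hi0, pow_zero, orderOf_eq_one_iff] at hpi
            rw [hpi]; exact one_mem _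
          rw [← pow_mul] at hpi ⊢
          refine hg _ p i hp (fun hpr => ?_) hpi
          have h1 : r ∣ orderOf (((g : G) ^ r ^ k) ^ e) := by
            rw [← pow_mul, hpi, hpr]; exact dvd_pow_self r hi0.ne'
          have h2 := h1.trans (orderOf_pow_dvd e)
          rw [orderOf_pow_of_dvd (pow_pos h.prime.pos _).ne' (Nat.ordProj_dvd _ _)] at h2
          exact Nat.not_dvd_ordCompl h.prime (orderOf_pos _).ne' h2
    have hab : ∀ a b : N, a * b = b * a := by
      intro a b
      have ha : (a : G) ∈ cen z := mem_subgroupOf.1 (hcover.ge (mem_top a) : a ∈ H)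
      have hb : (b : G) ∈ cen z := mem_subgroupOf.1 (hcover.ge (mem_top b) : b ∈ H)
      exact Subtype.ext (mem_cen.1 (habz b b.2 hb ha)).eq
    letI : CommGroup N := { (inferInstance : Group N) with mul_comm := hab }
    exact CommGroup.isNilpotent
  -- no such element
  exfalso
  push Not at hB
  have hA : ∀ (R : Sylow r G), ∀ z ∈ (R : Subgroup G), (R : Subgroup G) ≤ cen z → z ∈ center G :=
    hB
  obtain ⟨R0⟩ := (inferInstance : Nonempty (Sylow r G))
  obtain ⟨z0, hz0R, hz0c, hz0r, hz0comm, hz0m⟩ := h.exists_mixed_w hA hs hsr hys hyN hyc R0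
  obtain ⟨i0, hi0⟩ := R0.isPGroup' ⟨z0, hz0R⟩
  have hz0i : z0 ^ r ^ i0 = 1 := by simpa using congrArg Subtype.val hi0
  have hz0N := h.mem_of_pow hz0i
  have hab0 := h.mixed_ab hz0i hz0c hz0m
  have hmixall : ∀ (u : G) (j : ℕ), u ^ r ^ j = 1 → u ∉ center G → Mixed N r u :=
    fun u j hu huc => h.mixed_all hA hs hsr hys hyN hyc hu huc
  have hconst : ∀ (u : G) (j : ℕ), u ^ r ^ j = 1 → u ∉ center G →
      Nat.card (N ⊓ cen u : Subgroup G) = Nat.card (N ⊓ cen z0 : Subgroup G) := by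
    intro u j hu huc
    obtain ⟨g, hg⟩ := exists_conj_mem (H := (R0 : Subgroup G)) h.prime R0.not_dvd_index hu
    set u' := g * u * g⁻¹ with hu'
    have hu'c : u' ∉ center G := conj_not_central g huc
    have hu'p : u' ^ r ^ j = 1 := conj_pow_eq_one hu
    have h1 : Nat.card (N ⊓ cen u : Subgroup G) = Nat.card (N ⊓ cen u' : Subgroup G) := by
      rw [← card_map_of_injective (K := N ⊓ cen u) (f := (MulAut.conj g).toMonoidHom)
        (MulAut.conj g).injective]
      congr 2
      rw [hu', cen_conj]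
      ext a
      constructor
      · rintro ⟨b, ⟨hb, hb'⟩, rfl⟩
        exact ⟨h.normal.conj_mem b hb g, b, hb', rfl⟩
      · rintro ⟨ha, b, hb', rfl⟩
        refine ⟨b, ⟨?_, hb'⟩, rfl⟩
        have := h.normal.conj_mem _ ha g⁻¹
        simpa [mul_assoc] using this
    rw [h1]
    have habu := h.mixed_ab hu'p hu'c (hmixall u' j hu'p hu'c)
    by_cases hc : u' ∈ cen z0
    · rw [h.cen_eq_of_ab hz0N hz0c hab0 (h.mem_of_pow hu'p) hu'c hc]
    · have hc' : z0 ∉ cen u' := fun hh => hc (mem_cen.2 (mem_cen.1 hh).symm)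
      have hcz : u' * z0 * u'⁻¹ * z0⁻¹ ∈ center G := by
        have := inv_mem (hz0comm u' hg)
        simpa [mul_assoc] using this
      obtain ⟨k, hk⟩ := h.card_inf_dvd hu'p hu'c hz0N hz0c habu hab0 (hz0comm u' hg) hc'
      obtain ⟨k', hk'⟩ := h.card_inf_dvd hz0i hz0c (h.mem_of_pow hu'p) hu'c hab0 habu hcz hc
      exact h.card_inf_eq (h.mem_of_pow hu'p) hz0N hu'c hz0c hk hk'
  -- every component is that of an `r`-element
  have hcomp : ∀ g ∈ N, g ∉ center G → ∃ (u : G) (j : ℕ), u ^ r ^ j = 1 ∧ u ∉ center G ∧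
      cen g = cen u := by
    intro g hgN hgc
    obtain ⟨e, p, i, hp, hpi, hec⟩ : ∃ e p i : ℕ, p.Prime ∧ orderOf (g ^ e) = p ^ i ∧
        g ^ e ∉ center G := by
      by_contra hno
      push Not at hno
      exact hgc (mem_of_parts fun e p i hp hpi => hno e p i hp hpi)
    have heq : cen g = cen (g ^ e) :=
      h.cen_eq_of_le hgN (pow_mem hgN e) hgc hec (cen_le_cen_pow g e)
    by_cases hpr : p = r
    · exact ⟨g ^ e, i, hpr ▸ pElem_pow hpi, hec, heq⟩
    set x := g ^ e with hx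
    have hxi : x ^ p ^ i = 1 := pElem_pow hpi
    have hxN : x ∈ N := pow_mem hgN e
    obtain ⟨u, hu, huc⟩ : ∃ u ∈ (R0 : Subgroup G), u ∉ center G :=
      SetLike.not_le_iff_exists.1 (h.notCentral R0)
    obtain ⟨ju, hju⟩ := R0.isPGroup' ⟨u, hu⟩
    have hju' : u ^ r ^ ju = 1 := by simpa using congrArg Subtype.val hju
    obtain ⟨V⟩ := (inferInstance : Nonempty (Sylow r (cen x)))
    set V0 := (V : Subgroup (cen x)).map (cen x).subtype with hV0
    have hVnc : ¬ V0 ≤ center G := by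
      intro hV
      set u' : cen u := ⟨u, mem_cen.2 (Commute.refl u)⟩
      obtain ⟨U⟩ := (inferInstance : Nonempty (Sylow r (cen u)))
      have huU : u ∈ (U : Subgroup (cen u)).map (cen u).subtype :=
        ⟨u', mem_sylow_of_commute (j := ju) (Subtype.ext (by simpa [u'] using hju'))
          (fun a => Subtype.ext (mem_cen.1 a.2).eq) U, rfl⟩
      have hVU : V0 ≤ (U : Subgroup (cen u)).map (cen u).subtype := by
        rintro _ ⟨c, hc, rfl⟩
        obtain ⟨k, hk⟩ := V.isPGroup' ⟨c, hc⟩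
        exact h.central_mem_sylow (hV ⟨c, hc, rfl⟩)
          (by simpa using congrArg (fun t : (V : Subgroup (cen x)) => ((t : cen x) : G)) hk) U
      have heq' := eq_of_le_of_card_ge hVU (le_of_eq
        (h.sylow_card (h.mem_of_pow hju') hxN huc hec U V))
      exact huc (hV (heq'.ge huU))
    obtain ⟨w, hw, hwc⟩ := SetLike.not_le_iff_exists.1 hVnc
    obtain ⟨b, hb, rfl⟩ := hw
    obtain ⟨k, hk⟩ := V.isPGroup' ⟨b, hb⟩
    have hbk : (b : G) ^ r ^ k = 1 := by
      simpa using congrArg (fun t : (V : Subgroup (cen x)) => ((t : cen x) : G)) hk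
    refine ⟨(b : G), k, hbk, hwc, heq.trans ?_⟩
    exact h.same_cen hxN (h.mem_of_pow hbk) hec hwc (mem_cen.1 b.2).symm
      (coprime_orderOf_of_ne hp h.prime hpr hxi hbk)
  have habN : ∀ g ∈ N, g ∉ center G → AbIn N g := by
    intro g hgN hgc a ha hag
    obtain ⟨u, j, hu, huc, heq⟩ := hcomp g hgN hgc
    rw [heq] at hag ⊢
    exact h.mixed_ab hu huc (hmixall u j hu huc) a ha hag
  -- the partition of `N` modulo the centre
  haveI : Z.Normal := inferInstanceAs ((center G).subgroupOf N).Normal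
  let A : N ⧸ Z → Subgroup (N ⧸ Z) := fun q =>
    ((cen ((q.out : N) : G)).subgroupOf N).map (QuotientGroup.mk' Z)
  have hAeq : ∀ a : N, A (a : N ⧸ Z) = ((cen (a : G)).subgroupOf N).map (QuotientGroup.mk' Z) := by
    intro a
    obtain ⟨⟨c, hc⟩, hcc⟩ := QuotientGroup.mk_out_eq_mul Z a
    simp only [A, hcc, Subgroup.coe_mul]
    rw [cen_mul_central (mem_subgroupOf.1 hc)]
  have hone : ∀ a : N, (a : N ⧸ Z) = 1 ↔ (a : G) ∈ center G := fun a => by
    rw [QuotientGroup.eq_one_iff, hZ, mem_subgroupOf]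
  have hkerA : ∀ a : N, (QuotientGroup.mk' Z).ker ≤ (cen (a : G)).subgroupOf N := fun a => by
    rw [QuotientGroup.ker_mk']
    exact fun c hc => mem_subgroupOf.2 (center_le_centralizer _ (mem_subgroupOf.1 hc))
  have hmemA : ∀ a b : N, (b : N ⧸ Z) ∈ A (a : N ⧸ Z) → (b : G) ∈ cen (a : G) := by
    intro a b hb
    rw [hAeq] at hb
    have : b ∈ (((cen (a : G)).subgroupOf N).map (QuotientGroup.mk' Z)).comap
        (QuotientGroup.mk' Z) := hb
    rw [comap_map_eq_self (hkerA a)] at this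
    exact mem_subgroupOf.1 this
  set z0' : N := ⟨z0, hz0N⟩
  have hcardA : ∀ a : N, (a : G) ∉ center G →
      Nat.card (A (a : N ⧸ Z)) = Nat.card (A (z0' : N ⧸ Z)) := by
    intro a hac
    obtain ⟨u, j, hu, huc, heq⟩ := hcomp a a.2 hac
    have hidx : ∀ b : N, (A (b : N ⧸ Z)).index = ((cen (b : G)).subgroupOf N).index := fun b => by
      rw [hAeq]; exact index_map_eq _ (QuotientGroup.mk'_surjective Z) (hkerA b)
    have hcard : ∀ b : N, Nat.card ((cen (b : G)).subgroupOf N) =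
        Nat.card (N ⊓ cen (b : G) : Subgroup G) := fun b => by
      rw [← card_map_of_injective N.subtype_injective, subgroupOf_map_subtype, inf_comm]
    have e1 := ((cen (a : G)).subgroupOf N).card_mul_index
    have e2 := ((cen (z0' : G)).subgroupOf N).card_mul_index
    rw [← hidx, hcard, heq, hconst u j hu huc] at e1
    rw [← hidx, hcard] at e2
    have e3 := (A (a : N ⧸ Z)).card_mul_index
    have e4 := (A (z0' : N ⧸ Z)).card_mul_index
    rw [Nat.eq_of_mul_eq_mul_left Nat.card_pos (e1.trans e2.symm)] at e3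
    exact Nat.eq_of_mul_eq_mul_right (Nat.pos_of_ne_zero index_ne_zero_of_finite)
      (e3.trans e4.symm)
  obtain ⟨p, hp, hpg⟩ := CfsgLib.EqualPartition.isPGroup_of_equal_abelian_partition A
    (Nat.card (A (z0' : N ⧸ Z)))
    (fun q => by
      induction q using QuotientGroup.induction_on with
      | H a => rw [hAeq]; exact ⟨a, mem_subgroupOf.2 (mem_cen.2 (Commute.refl _)), rfl⟩)
    (fun q hq => by
      induction q using QuotientGroup.induction_on with
      | H a =>
      rw [hAeq]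
      rintro _ ⟨b, hb, rfl⟩ _ ⟨c, hc, rfl⟩
      have h1 : (b : G) * c = c * b :=
        (mem_cen.1 (habN a a.2 (fun hh => hq ((hone a).2 hh)) c c.2 hc hb)).eq
      rw [← map_mul, ← map_mul, show b * c = c * b from Subtype.ext h1])
    (fun q hq => by
      induction q using QuotientGroup.induction_on with
      | H a => exact hcardA a fun hh => hq ((hone a).2 hh))
    (fun q hq q' hq' hq'1 => by
      induction q using QuotientGroup.induction_on with
      | H a =>
      induction q' using QuotientGroup.induction_on with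
      | H b =>
      rw [hAeq, hAeq, h.cen_eq_of_ab a.2 (fun hh => hq ((hone a).2 hh))
        (habN a a.2 fun hh => hq ((hone a).2 hh)) b.2 (fun hh => hq'1 ((hone b).2 hh))
        (hmemA a b hq')])
    (fun g q q' hq' => by
      induction g using QuotientGroup.induction_on with
      | H g =>
      induction q using QuotientGroup.induction_on with
      | H a =>
      induction q' using QuotientGroup.induction_on with
      | H b =>
      rw [← QuotientGroup.mk_mul, ← QuotientGroup.mk_inv, ← QuotientGroup.mk_mul,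
        ← QuotientGroup.mk_mul, ← QuotientGroup.mk_mul, hAeq]
      refine ⟨g * b * g⁻¹, mem_subgroupOf.2 ?_, rfl⟩
      show (g : G) * b * (g : G)⁻¹ ∈ cen ((g : G) * a * (g : G)⁻¹)
      rw [cen_conj]
      exact ⟨(b : G), hmemA a b hq', rfl⟩)
    (by
      refine lt_of_le_of_ne (card_le_card_group _) fun heq => ?_
      have htop := eq_top_of_card_eq _ heq
      have h1 : (R0 : Subgroup G) ≤ cen z0 := fun a ha =>
        hmemA z0' ⟨a, h.sylow R0 ha⟩ (htop ▸ mem_top _)
      exact hz0c (hA R0 z0 hz0R h1))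
  have hne : ∀ (a : N) (q i : ℕ), q.Prime → (a : G) ^ q ^ i = 1 → (a : G) ∉ center G → p = q := by
    intro a q i hq ha hac
    by_contra hpq
    obtain ⟨c, hc⟩ := hpg (a : N ⧸ Z)
    refine hac ((hone a).1 (orderOf_eq_one_iff.1 (Nat.eq_one_of_dvd_coprimes
      (Nat.Coprime.pow c i ((Nat.coprime_primes hp hq).2 hpq)) (orderOf_dvd_of_pow_eq_one hc) ?_)))
    refine orderOf_dvd_of_pow_eq_one ?_
    rw [← QuotientGroup.mk_pow, QuotientGroup.eq_one_iff, hZ, mem_subgroupOf,
      SubgroupClass.coe_pow, ha]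
    exact one_mem _
  exact hsr ((hne ⟨y, hyN⟩ s l hs hys hyc).symm.trans (hne z0' r i0 h.prime hz0i hz0c))

end TwoNormal

end CfsgLib.Structure81.CoprimeClass
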