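import Cfsg.Agent.Lib.Structure81.CentreChar
import Cfsg.Agent.Lib.Coprime85.Invariant
import Cfsg.Agent.Lib.ConstStab.Basic
import Cfsg.Agent.Lib.PGroup.Frattini

/-!
# A Camina pair of `p`-groups, `p` odd, does not act fixed-point-freely outside its kernel

Let `(S, R)` be a Camina pair of `p`-groups with `R ≠ ⊥` and `p` odd. Then `S` has no coprime
action on a nontrivial group in which every element outside `R` is fixed-point-free.
-/

set_option autoImplicit false
set_option linter.unusedSectionVars false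
set_option linter.style.haveILetI false

namespace CfsgLib.Structure81.CaminaFPF

open CentreChar MonoidAlgebra
open scoped commutatorElement

universe v

variable {S : Type*} [Group S] [Finite S] {p : ℕ} [hp : Fact p.Prime]

/-- A central step between two normal subgroups of a `p`-group. -/
theorem exists_central_step {G : Type*} [Group G] [Finite G] (hG : IsPGroup p G)
    (A B : Subgroup G) [A.Normal] [B.Normal] (hAB : A ≤ B) (hne : ¬ B ≤ A) :
    ∃ y ∈ B, y ∉ A ∧ (∀ t : G, t * y * t⁻¹ * y⁻¹ ∈ A) ∧ y ^ p ∈ A := by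
  set π := QuotientGroup.mk' A
  have hπ : Function.Surjective π := QuotientGroup.mk'_surjective A
  haveI : (B.map π).Normal := Subgroup.Normal.map inferInstance π hπ
  have hne' : B.map π ≠ ⊥ := fun h => hne (by
    rw [Subgroup.map_eq_bot_iff, QuotientGroup.ker_mk'] at h; exact h)
  have hQ : IsPGroup p (G ⧸ A) := hG.to_quotient A
  haveI : Nontrivial (B.map π) := (Subgroup.nontrivial_iff_ne_bot _).2 hne'
  letI : MulAction (ConjAct (G ⧸ A)) (B.map π) := inferInstance
  have hdvd : p ∣ Nat.card (B.map π) := by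
    obtain ⟨n, hn0, hn⟩ := (hQ.to_subgroup (B.map π)).nontrivial_iff_card.1 inferInstance
    exact hn ▸ dvd_pow_self p hn0.ne'
  have hQ' : IsPGroup p (ConjAct (G ⧸ A)) := hQ.of_equiv ConjAct.toConjAct
  obtain ⟨z, hz, hz1⟩ := hQ'.exists_fixed_point_of_prime_dvd_card_of_fixed_point (B.map π) hdvd
    (a := 1) (fun c => smul_one c)
  have hzc : ∀ c : G ⧸ A, c * (z : G ⧸ A) * c⁻¹ = z := fun c => by
    have h := congrArg Subtype.val (hz (ConjAct.toConjAct c))
    rwa [ConjAct.Subgroup.val_conj_smul, ConjAct.toConjAct_smul] at h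
  obtain ⟨k, hk⟩ := IsPGroup.iff_orderOf.1 hQ (z : G ⧸ A)
  have hk0 : k ≠ 0 := fun e => hz1 (Subtype.ext (orderOf_eq_one_iff.1 (by rw [hk, e, pow_zero])).symm)
  obtain ⟨k', rfl⟩ := Nat.exists_eq_succ_of_ne_zero hk0
  obtain ⟨y, hy, hyz⟩ := Subgroup.mem_map.1 ((B.map π).pow_mem z.2 (p ^ k'))
  have hw1 : π y ≠ 1 := by
    rw [hyz]
    intro h
    have := orderOf_dvd_of_pow_eq_one h
    rw [hk] at this
    exact absurd (Nat.le_of_dvd (pow_pos hp.out.pos _) this)
      (not_le.2 (Nat.pow_lt_pow_right hp.out.one_lt k'.lt_succ_self))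
  refine ⟨y, hy, fun h => hw1 ((QuotientGroup.eq_one_iff y).2 h), fun t => ?_, ?_⟩
  · refine (QuotientGroup.eq_one_iff _).1 ?_
    show π (t * y * t⁻¹ * y⁻¹) = 1
    rw [map_mul, map_mul, map_mul, map_inv, map_inv, hyz, ← conj_pow, hzc, mul_inv_cancel]
  · refine (QuotientGroup.eq_one_iff _).1 ?_
    show π (y ^ p) = 1
    rw [map_pow, hyz, ← pow_mul, ← pow_succ, ← hk]
    exact pow_orderOf_eq_one _

/-- A noncyclic `p`-group, `p` odd, has two commuting independent elements of order `p`. -/
theorem exists_pair {G : Type*} [Group G] [Finite G] (hp2 : p ≠ 2) (hG : IsPGroup p G)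
    (hnc : ¬ IsCyclic G) :
    ∃ a b : G, a ≠ 1 ∧ a ^ p = 1 ∧ b ^ p = 1 ∧ Commute a b ∧ b ∉ Subgroup.zpowers a := by
  rcases subsingleton_or_nontrivial G with hs | hn
  · exact absurd (inferInstance : IsCyclic G) hnc
  haveI := hG.center_nontrivial
  obtain ⟨z, hz⟩ := exists_prime_orderOf_dvd_card' (G := Subgroup.center G) p
    (((IsPGroup.to_subgroup hG (Subgroup.center G)).nontrivial_iff_card.1 inferInstance).elim
      fun n hn => hn.2 ▸ dvd_pow_self p hn.1.ne')
  have hzp : (z : G) ^ p = 1 := by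
    rw [← hz, ← Subgroup.orderOf_coe z]; exact pow_orderOf_eq_one _
  have hz1 : (z : G) ≠ 1 := fun e => hp.out.ne_one (by
    rw [← hz, ← Subgroup.orderOf_coe z, e, orderOf_one])
  by_contra hcon
  push Not at hcon
  have hzc : ∀ y : G, y ^ p = 1 → y ∈ Subgroup.zpowers (z : G) := fun y hy =>
    hcon _ y hz1 hzp hy ((Subgroup.mem_center_iff.1 z.2 y).symm)
  refine hnc (CfsgLib.ConstStab.isCyclic_of_unique_prime_subgroup hp2 hG fun x y hx hxp hyp => ?_)
  have hx' : Subgroup.zpowers x = Subgroup.zpowers (z : G) := by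
    refine Subgroup.eq_of_le_of_card_ge (Subgroup.zpowers_le.2 (hzc x hxp)) ?_
    rw [Nat.card_zpowers, Nat.card_zpowers, orderOf_eq_prime hxp hx, orderOf_eq_prime hzp hz1]
  rw [hx']
  exact hzc y hyp

section Core

variable {F : Type*} [Field F] [IsAlgClosed F]

theorem mul_pow_of_skew {A : Type*} [Ring A] [Algebra F A] {X Y : A} {d : F}
    (h : Y * X = d • (X * Y)) :
    ∀ n : ℕ, (X * Y) ^ n = d ^ (∑ i ∈ Finset.range n, i) • (X ^ n * Y ^ n) := by
  have hn : ∀ n : ℕ, Y ^ n * X = d ^ n • (X * Y ^ n) := by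
    intro n
    induction n with
    | zero => simp
    | succ n ih =>
      rw [pow_succ, mul_assoc, h, mul_smul_comm, ← mul_assoc, ih, smul_mul_assoc, smul_smul,
        mul_assoc, ← pow_succ' d]
  intro n
  induction n with
  | zero => simp
  | succ n ih =>
    calc (X * Y) ^ (n + 1) = (X * Y) ^ n * (X * Y) := pow_succ _ _
      _ = (d ^ (∑ i ∈ Finset.range n, i)) • (X ^ n * ((Y ^ n * X) * Y)) := by
          rw [ih, smul_mul_assoc]
          simp only [mul_assoc]
      _ = (d ^ (∑ i ∈ Finset.range n, i) * d ^ n) • (X ^ n * ((X * Y ^ n) * Y)) := by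
          rw [hn, smul_mul_assoc, mul_smul_comm, smul_smul]
      _ = _ := by
          rw [Finset.sum_range_succ, pow_add, pow_succ X, pow_succ Y]
          simp only [mul_assoc]

/-- No representation of a noncyclic section is fixed-point-free outside a subgroup whose
enveloping centre is scalar. -/
theorem core (hp2 : p ≠ 2) (hpF : (p : F) ≠ 0) (hS : IsPGroup p S) (R : Subgroup S) [R.Normal] :
    ∀ (n : ℕ) (T : Subgroup S) (V : Type v) [AddCommGroup V] [Module F V] [FiniteDimensional F V],
      Module.finrank F V = n → ∀ ρ : T →* Module.End F V, Nontrivial V →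
      (∀ t : T, (t : S) ∉ R → ∀ x, ρ t x = x → x = 0) →
      ¬ IsCyclic (T.map (QuotientGroup.mk' R)) →
      (∀ A ∈ Algebra.adjoin F (ρ '' {t : T | (t : S) ∈ R}),
        (∀ t : T, (t : S) ∈ R → Commute A (ρ t)) → ∃ μ : F, A = μ • 1) → False := by
  intro n
  induction n using Nat.strong_induction_on with
  | _ n ih =>
  intro T V _ _ _ hn ρ hV hfpf hnc hscal
  have hT : IsPGroup p T := hS.to_subgroup T
  have hρinv : ∀ t : T, ρ t * ρ t⁻¹ = 1 := fun t => by rw [← map_mul, mul_inv_cancel, map_one]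
  have hρinv' : ∀ t : T, ρ t⁻¹ * ρ t = 1 := fun t => by rw [← map_mul, inv_mul_cancel, map_one]
  obtain ⟨x₀, hx₀⟩ := exists_ne (0 : V)
  have hsinj : ∀ μ ν : F, μ • (1 : Module.End F V) = ν • 1 → μ = ν := fun μ ν h =>
    smul_left_injective F hx₀ (by simpa using LinearMap.congr_fun h x₀)
  -- the scalar part
  let R1 : Subgroup T :=
    { carrier := {t | (t : S) ∈ R ∧ ∃ μ : F, ρ t = μ • 1}
      mul_mem' := by
        rintro a b ⟨ha, μ, hμ⟩ ⟨hb, ν, hν⟩
        exact ⟨R.mul_mem ha hb, μ * ν, by rw [map_mul, hμ, hν, smul_mul_smul_comm, one_mul]⟩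
      one_mem' := ⟨R.one_mem, 1, by rw [map_one, one_smul]⟩
      inv_mem' := by
        rintro a ⟨ha, μ, hμ⟩
        refine ⟨R.inv_mem ha, μ⁻¹, ?_⟩
        have h := hρinv' a
        rw [hμ, mul_smul_comm, mul_one] at h
        have hμ0 : μ ≠ 0 := by
          rintro rfl
          rw [zero_smul] at h
          exact zero_ne_one h
        rw [← h, smul_smul, inv_mul_cancel₀ hμ0, one_smul] }
  haveI : R1.Normal := ⟨by
    rintro a ⟨ha, μ, hμ⟩ t
    exact ⟨(inferInstance : R.Normal).conj_mem _ ha _, μ, by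
      rw [map_mul, map_mul, hμ, mul_smul_comm, mul_one, smul_mul_assoc, hρinv]⟩⟩
  by_cases hall : R.subgroupOf T ≤ R1
  · -- every element of `R` is a scalar
    have hex : ∀ t : T, (t : S) ∈ R → ∃ μ : F, ρ t = μ • 1 := fun t ht =>
      (hall (Subgroup.mem_subgroupOf.2 ht)).2
    have hroot : ∀ (t : T) (μ : F), ρ t = μ • 1 → ∃ k : ℕ, μ ^ p ^ k = 1 := by
      intro t μ hμ
      obtain ⟨k, hk⟩ := hT t
      refine ⟨k, hsinj _ _ ?_⟩
      rw [one_smul]
      have h := congrArg ρ hk
      rw [map_pow, hμ, map_one, _root_.smul_pow, one_pow] at h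
      exact h
    set π := QuotientGroup.mk' R
    obtain ⟨a, b, ha1, hap, hbp, hab, hba⟩ :=
      exists_pair hp2 ((hS.to_quotient R).to_subgroup _) hnc
    obtain ⟨t1, ht1, ht1a⟩ := Subgroup.mem_map.1 a.2
    obtain ⟨t2, ht2, ht2b⟩ := Subgroup.mem_map.1 b.2
    have hmem : ∀ s : S, π s = 1 → s ∈ R := fun s h => (QuotientGroup.eq_one_iff s).1 h
    have hab' : a ∉ Subgroup.zpowers b := by
      intro h
      have hb1 : b ≠ 1 := fun e => hba (e ▸ one_mem _)
      have := Subgroup.eq_of_le_of_card_ge (Subgroup.zpowers_le.2 h) (by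
        rw [Nat.card_zpowers, Nat.card_zpowers, orderOf_eq_prime hap ha1, orderOf_eq_prime hbp hb1])
      exact hba (this ▸ Subgroup.mem_zpowers b)
    set u1 : T := ⟨t1, ht1⟩
    set u2 : T := ⟨t2, ht2⟩
    obtain ⟨a1, h1⟩ := hex (u1 ^ p) (hmem _ (by
      show π (t1 ^ p) = 1
      rw [map_pow, ht1a, ← SubgroupClass.coe_pow, hap]; rfl))
    obtain ⟨a2, h2⟩ := hex (u2 ^ p) (hmem _ (by
      show π (t2 ^ p) = 1
      rw [map_pow, ht2b, ← SubgroupClass.coe_pow, hbp]; rfl))
    obtain ⟨c, hc⟩ := hex (u2 * u1 * u2⁻¹ * u1⁻¹) (hmem _ (by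
      show π (t2 * t1 * t2⁻¹ * t1⁻¹) = 1
      rw [map_mul, map_mul, map_mul, map_inv, map_inv, ht1a, ht2b]
      exact congrArg Subtype.val (show b * a * b⁻¹ * a⁻¹ = 1 by
        rw [← hab.eq, mul_assoc a b, mul_inv_cancel, mul_one, mul_inv_cancel])))
    have hskew : ρ u2 * ρ u1 = c • (ρ u1 * ρ u2) := by
      have e : u2 * u1 = (u2 * u1 * u2⁻¹ * u1⁻¹) * (u1 * u2) := by group
      rw [← map_mul, e, map_mul, hc, smul_mul_assoc, one_mul, map_mul]
    rw [map_pow] at h1 h2
    have hcp : c ^ p = 1 := by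
      have hpow : ∀ k : ℕ, ρ u2 * ρ u1 ^ k = c ^ k • (ρ u1 ^ k * ρ u2) := by
        intro k
        induction k with
        | zero => simp
        | succ k ihk =>
          rw [pow_succ (ρ u1), ← mul_assoc, ihk, smul_mul_assoc, mul_assoc, hskew, mul_smul_comm,
            smul_smul, ← pow_succ, ← mul_assoc]
      have h := hpow p
      rw [h1, mul_smul_comm, mul_one, smul_mul_assoc, one_mul, smul_smul] at h
      have ha10 : a1 ≠ 0 := by
        rintro rfl
        rw [zero_smul, ← map_pow] at h1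
        have h' := hρinv (u1 ^ p)
        rw [h1, zero_mul] at h'
        exact zero_ne_one h'
      have h' := congrArg (· * ρ u2⁻¹) h
      simp only [smul_mul_assoc, hρinv] at h'
      exact mul_right_cancel₀ ha10 ((hsinj _ _ h').symm.trans (one_mul _).symm)
    have hπ1 : π t1 = (a : S ⧸ R) := ht1a
    have hπ2 : π t2 = (b : S ⧸ R) := ht2b
    obtain ⟨k1, hk1⟩ := hroot (u1 ^ p) a1 (by rw [map_pow, h1])
    obtain ⟨k2, hk2⟩ := hroot (u2 ^ p) a2 (by rw [map_pow, h2])
    -- an element outside `R` whose `p`-th power acts trivially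
    have step : ∀ (w1 w2 : T) (b1 b2 d : F) (l : ℕ), p ≠ 0 → ρ w1 ^ p = b1 • 1 → ρ w2 ^ p = b2 • 1 →
        ρ w2 * ρ w1 = d • (ρ w1 * ρ w2) → d ^ p = 1 → b1 ^ l * b2 = 1 →
        ρ (w1 ^ l * w2) ^ p = 1 := by
      intro w1 w2 b1 b2 d l _ e1 e2 ed hdp hl
      have hpow : ∀ k : ℕ, ρ w2 * ρ w1 ^ k = d ^ k • (ρ w1 ^ k * ρ w2) := by
        intro k
        induction k with
        | zero => simp
        | succ k ihk =>
          rw [pow_succ (ρ w1), ← mul_assoc, ihk, smul_mul_assoc, mul_assoc, ed, mul_smul_comm,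
            smul_smul, ← pow_succ, ← mul_assoc]
      rw [map_mul, map_pow, mul_pow_of_skew (hpow l) p]
      have hsum : ∑ i ∈ Finset.range p, i = p * ((p - 1) / 2) := by
        rw [Finset.sum_range_id, Nat.mul_div_assoc]
        obtain ⟨k, hk⟩ := hp.out.odd_of_ne_two hp2
        exact ⟨k, by omega⟩
      rw [hsum, ← pow_mul, show l * (p * ((p - 1) / 2)) = p * (l * ((p - 1) / 2)) by ring, pow_mul d,
        hdp, one_pow, one_smul, ← pow_mul, mul_comm l p, pow_mul, e1, e2, _root_.smul_pow, one_pow,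
        smul_mul_smul_comm, one_mul, hl, one_smul]
    obtain ⟨t, htR, htp⟩ : ∃ t : T, (t : S) ∉ R ∧ ρ t ^ p = 1 := by
      have hne : ∀ (s1 s2 : S) (x y : T.map π), π s1 = (x : S ⧸ R) → π s2 = (y : S ⧸ R) →
          y ∉ Subgroup.zpowers x → ∀ m : ℕ, s1 ^ m * s2 ∉ R := by
        intro s1 s2 x y hs1 hs2 hy m h
        have h' : π (s1 ^ m * s2) = 1 := (QuotientGroup.eq_one_iff _).2 h
        rw [map_mul, map_pow, hs1, hs2] at h'
        have h'' : x ^ m * y = 1 := Subtype.ext (by simpa using h')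
        exact hy ((eq_inv_of_mul_eq_one_right h'') ▸
          inv_mem (pow_mem (Subgroup.mem_zpowers x) m))
      have hb1 : IsPrimitiveRoot a1 (orderOf a1) := IsPrimitiveRoot.orderOf a1
      have hb2 : IsPrimitiveRoot a2 (orderOf a2) := IsPrimitiveRoot.orderOf a2
      obtain ⟨i, -, hi⟩ := (Nat.dvd_prime_pow hp.out).1 (orderOf_dvd_of_pow_eq_one hk1)
      obtain ⟨j, -, hj⟩ := (Nat.dvd_prime_pow hp.out).1 (orderOf_dvd_of_pow_eq_one hk2)
      rcases le_total j i with hji | hij
      · haveI : NeZero (orderOf a1) := ⟨by rw [hi]; exact (pow_pos hp.out.pos i).ne'⟩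
        obtain ⟨l, -, hl⟩ := hb1.eq_pow_of_pow_eq_one (ξ := a2⁻¹) (by
          rw [inv_pow, inv_eq_one]
          exact orderOf_dvd_iff_pow_eq_one.1 (by rw [hi, hj]; exact pow_dvd_pow p hji))
        refine ⟨u1 ^ l * u2, hne t1 t2 a b hπ1 hπ2 hba l, step u1 u2 a1 a2 c l hp.out.ne_zero h1 h2
          hskew hcp ?_⟩
        rw [hl, inv_mul_cancel₀]
        intro e
        rw [e, zero_pow (pow_pos hp.out.pos k2).ne'] at hk2
        exact zero_ne_one hk2
      · haveI : NeZero (orderOf a2) := ⟨by rw [hj]; exact (pow_pos hp.out.pos j).ne'⟩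
        obtain ⟨l, -, hl⟩ := hb2.eq_pow_of_pow_eq_one (ξ := a1⁻¹) (by
          rw [inv_pow, inv_eq_one]
          exact orderOf_dvd_iff_pow_eq_one.1 (by rw [hi, hj]; exact pow_dvd_pow p hij))
        have hc0 : c ≠ 0 := by
          intro e
          rw [e, zero_pow hp.out.ne_zero] at hcp
          exact zero_ne_one hcp
        refine ⟨u2 ^ l * u1, hne t2 t1 b a hπ2 hπ1 hab' l, step u2 u1 a2 a1 c⁻¹ l hp.out.ne_zero h2
          h1 ?_ (by rw [inv_pow, hcp, inv_one]) ?_⟩
        · rw [hskew, smul_smul, inv_mul_cancel₀ hc0, one_smul]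
        · rw [hl, inv_mul_cancel₀]
          intro e
          rw [e, zero_pow (pow_pos hp.out.pos k1).ne'] at hk1
          exact zero_ne_one hk1
    have heig : ∀ (t : T) (β : F) (x : V), x ≠ 0 → ρ t x = β • x → ρ t ^ p = 1 → β ^ p = 1 := by
      intro t β x hx hxe htp
      have h : ∀ k : ℕ, (ρ t ^ k) x = β ^ k • x := by
        intro k
        induction k with
        | zero => simp
        | succ k ihk => rw [pow_succ', Module.End.mul_apply, ihk, map_smul, hxe, smul_smul, ← pow_succ]
      have h' := h p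
      rw [htp, Module.End.one_apply] at h'
      exact smul_left_injective F hx (h'.symm.trans (one_smul F x).symm)
    by_cases htriv : ∀ r : T, (r : S) ∈ R → ρ r = 1
    · -- `R` acts trivially
      have hc1 : c = 1 := hsinj _ _ (by
        rw [← hc, htriv _ (hmem _ (by
          show π (t2 * t1 * t2⁻¹ * t1⁻¹) = 1
          rw [map_mul, map_mul, map_mul, map_inv, map_inv, ht1a, ht2b]
          exact congrArg Subtype.val (show b * a * b⁻¹ * a⁻¹ = 1 by
            rw [← hab.eq, mul_assoc a b, mul_inv_cancel, mul_one, mul_inv_cancel]))), one_smul])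
      have hcomm : Commute (ρ u2) (ρ u1) := by
        show ρ u2 * ρ u1 = ρ u1 * ρ u2
        rw [hskew, hc1, one_smul]
      have hp1 : ρ u1 ^ p = 1 := by
        rw [← map_pow]
        exact htriv _ (hmem _ (by
          show π (t1 ^ p) = 1
          rw [map_pow, ht1a, ← SubgroupClass.coe_pow, hap]; rfl))
      have hp2' : ρ u2 ^ p = 1 := by
        rw [← map_pow]
        exact htriv _ (hmem _ (by
          show π (t2 ^ p) = 1
          rw [map_pow, ht2b, ← SubgroupClass.coe_pow, hbp]; rfl))
      obtain ⟨β, hβ⟩ := Module.End.exists_eigenvalue (ρ u1)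
      set E := Module.End.eigenspace (ρ u1) β
      have hEinv : ∀ x ∈ E, ρ u2 x ∈ E := by
        intro x hx
        rw [Module.End.mem_eigenspace_iff] at hx ⊢
        rw [← Module.End.mul_apply, ← hcomm.eq, Module.End.mul_apply, hx, map_smul]
      haveI : Nontrivial E := Submodule.nontrivial_iff_ne_bot.2 hβ
      obtain ⟨γ, hγ⟩ := Module.End.exists_eigenvalue ((ρ u2).restrict hEinv)
      obtain ⟨x, hx⟩ := hγ.exists_hasEigenvector
      have hx0 : (x : V) ≠ 0 := fun e => hx.2 (Subtype.ext e)
      have hx1 : ρ u1 x = β • (x : V) := Module.End.mem_eigenspace_iff.1 x.2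
      have hx2 : ρ u2 x = γ • (x : V) := congrArg Subtype.val hx.apply_eq_smul
      have hβp := heig u1 β x hx0 hx1 hp1
      have hγp := heig u2 γ x hx0 hx2 hp2'
      have hu1 : (u1 : S) ∉ R := fun h => ha1 (Subtype.ext (by
        rw [← hπ1]; exact (QuotientGroup.eq_one_iff _).2 h))
      have hβ1 : β ≠ 1 := fun e => hx0 (hfpf u1 hu1 _ (by rw [hx1, e, one_smul]))
      have hprim : IsPrimitiveRoot β p := by
        rw [← orderOf_eq_prime hβp hβ1]; exact IsPrimitiveRoot.orderOf β
      haveI : NeZero p := ⟨hp.out.ne_zero⟩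
      obtain ⟨l, -, hl⟩ := hprim.eq_pow_of_pow_eq_one (ξ := γ⁻¹) (by rw [inv_pow, hγp, inv_one])
      have hout : ((u1 ^ l * u2 : T) : S) ∉ R := by
        intro h
        have h' : π (t1 ^ l * t2) = 1 := (QuotientGroup.eq_one_iff _).2 h
        rw [map_mul, map_pow, hπ1, hπ2] at h'
        have h'' : a ^ l * b = 1 := Subtype.ext (by simpa using h')
        exact hba ((eq_inv_of_mul_eq_one_right h'') ▸
          inv_mem (pow_mem (Subgroup.mem_zpowers a) l))
      refine hx0 (hfpf _ hout _ ?_)
      have hl' : ∀ k : ℕ, (ρ u1 ^ k) (x : V) = β ^ k • (x : V) := by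
        intro k
        induction k with
        | zero => simp
        | succ k ihk =>
          rw [pow_succ', Module.End.mul_apply, ihk, map_smul, hx1, smul_smul, ← pow_succ]
      rw [map_mul, map_pow, Module.End.mul_apply, hx2, map_smul, hl', hl, smul_smul,
        mul_inv_cancel₀, one_smul]
      intro e
      rw [e, zero_pow hp.out.ne_zero] at hγp
      exact zero_ne_one hγp
    · push Not at htriv
      obtain ⟨r, hrR, hr1⟩ := htriv
      obtain ⟨μ, hμ⟩ := hex r hrR
      obtain ⟨k, hk⟩ := hroot r μ hμ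
      obtain ⟨i, -, hi⟩ := (Nat.dvd_prime_pow hp.out).1 (orderOf_dvd_of_pow_eq_one hk)
      have hi0 : i ≠ 0 := fun e => hr1 (by
        rw [hμ, orderOf_eq_one_iff.1 (show orderOf μ = 1 by rw [hi, e, pow_zero]), one_smul])
      have hprim : IsPrimitiveRoot (μ ^ p ^ (i - 1)) p := by
        refine (IsPrimitiveRoot.orderOf μ).pow (by rw [hi]; exact pow_pos hp.out.pos i) ?_
        rw [hi, ← pow_succ, Nat.sub_add_cancel (Nat.one_le_iff_ne_zero.2 hi0)]
      haveI : NeZero p := ⟨hp.out.ne_zero⟩
      obtain ⟨β, hβ⟩ := Module.End.exists_eigenvalue (ρ t)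
      obtain ⟨x, hx⟩ := hβ.exists_hasEigenvector
      have hβp := heig t β x hx.2 hx.apply_eq_smul htp
      obtain ⟨l, -, hl⟩ := hprim.eq_pow_of_pow_eq_one (ξ := β⁻¹) (by rw [inv_pow, hβp, inv_one])
      refine hx.2 (hfpf ((r ^ p ^ (i - 1)) ^ l * t) ?_ x ?_)
      · intro h
        exact htR ((R.mul_mem_cancel_left
          (show (((r ^ p ^ (i - 1)) ^ l : T) : S) ∈ R by
            simpa using R.pow_mem (R.pow_mem hrR _) _)).1 (by simpa using h))
      · rw [map_mul, map_pow, map_pow, Module.End.mul_apply, hx.apply_eq_smul, hμ, _root_.smul_pow,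
          one_pow, _root_.smul_pow, one_pow, hl, LinearMap.smul_apply, Module.End.one_apply,
          smul_smul, inv_mul_cancel₀, one_smul]
        intro e
        rw [e, zero_pow hp.out.ne_zero] at hβp
        exact zero_ne_one hβp
  · -- an element of `R` acting as a non-scalar, central modulo scalars
    obtain ⟨y, hyR, hy1, hycen, hyp⟩ := exists_central_step hT R1 (R.subgroupOf T)
      (fun t ht => Subgroup.mem_subgroupOf.2 ht.1) hall
    rw [Subgroup.mem_subgroupOf] at hyR
    set Y := ρ y with hY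
    obtain ⟨-, a0, ha0⟩ := hyp
    rw [map_pow, ← hY] at ha0
    have ha00 : a0 ≠ 0 := by
      rintro rfl
      rw [zero_smul, ← map_pow] at ha0
      have h' := hρinv (y ^ p)
      rw [ha0, zero_mul] at h'
      exact zero_ne_one h'
    have hcex : ∀ t : T, ∃ c : F, ρ t * Y = c • (Y * ρ t) := by
      intro t
      obtain ⟨-, c, hc⟩ := hycen t
      refine ⟨c, ?_⟩
      have e : t * y = (t * y * t⁻¹ * y⁻¹) * (y * t) := by group
      rw [hY, ← map_mul, e, map_mul, hc, smul_mul_assoc, one_mul, map_mul]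
    choose cf hcf using hcex
    have hYt : ∀ t : T, ∀ μ ν : F, μ • (Y * ρ t) = ν • (Y * ρ t) → μ = ν := fun t μ ν h => by
      have h' := congrArg (fun A => ρ y⁻¹ * A * ρ t⁻¹) h
      simp only [mul_smul_comm, smul_mul_assoc, hY, ← map_mul, inv_mul_cancel_left, mul_inv_cancel,
        map_one] at h'
      exact hsinj _ _ h'
    let cT : T →* F :=
      { toFun := cf
        map_one' := hYt 1 _ _ (by rw [← hcf 1, map_one, one_smul]; simp)
        map_mul' := fun s t => hYt (s * t) _ _ (by
          rw [← hcf (s * t), map_mul, mul_assoc, hcf t, mul_smul_comm, ← mul_assoc, hcf s,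
            smul_mul_assoc, smul_smul, mul_comm, mul_assoc]) }
    have hcT : ∀ t : T, ρ t * Y = cT t • (Y * ρ t) := hcf
    have hcp : ∀ t : T, cT t ^ p = 1 := by
      intro t
      have hpow : ∀ k : ℕ, ρ t * Y ^ k = cT t ^ k • (Y ^ k * ρ t) := by
        intro k
        induction k with
        | zero => simp
        | succ k ihk =>
          rw [pow_succ Y, ← mul_assoc, ihk, smul_mul_assoc, mul_assoc, hcT, mul_smul_comm,
            smul_smul, ← pow_succ, ← mul_assoc]
      have h := hpow p
      rw [ha0, mul_smul_comm, mul_one, smul_mul_assoc, one_mul, smul_smul] at h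
      have h' := congrArg (· * ρ t⁻¹) h
      simp only [smul_mul_assoc, hρinv] at h'
      exact mul_right_cancel₀ ha00 ((hsinj _ _ h').symm.trans (one_mul _).symm)
    obtain ⟨r, hrR, hr⟩ : ∃ r : T, (r : S) ∈ R ∧ cT r ≠ 1 := by
      by_contra hcon
      push Not at hcon
      apply hy1
      obtain ⟨μ, hμ⟩ := hscal Y (Algebra.subset_adjoin ⟨y, hyR, rfl⟩) (fun t ht => by
        have h := hcT t
        rw [hcon t ht, one_smul] at h
        exact h.symm)
      exact ⟨hyR, μ, hμ⟩
    set ζ := cT r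
    haveI : NeZero p := ⟨hp.out.ne_zero⟩
    have hprim : IsPrimitiveRoot ζ p := by
      rw [← orderOf_eq_prime (hcp r) hr]; exact IsPrimitiveRoot.orderOf ζ
    -- an eigenspace
    obtain ⟨β, hβ⟩ := Module.End.exists_eigenvalue Y
    obtain ⟨x1, hx1⟩ := hβ.exists_hasEigenvector
    have hβp : β ^ p = a0 := by
      have h : ∀ k : ℕ, (Y ^ k) x1 = β ^ k • x1 := by
        intro k
        induction k with
        | zero => simp
        | succ k ihk =>
          rw [pow_succ', Module.End.mul_apply, ihk, map_smul, hx1.apply_eq_smul, smul_smul,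
            ← pow_succ]
      have h' := h p
      rw [ha0, LinearMap.smul_apply, Module.End.one_apply] at h'
      exact smul_left_injective F hx1.2 h'.symm
    have hβ0 : β ≠ 0 := by
      rintro rfl
      rw [zero_pow hp.out.ne_zero] at hβp
      exact ha00 hβp.symm
    set E := Module.End.eigenspace Y β with hE
    haveI : Nontrivial E := Submodule.nontrivial_iff_ne_bot.2 hβ
    have hElt : Module.finrank F E < n := by
      rw [← hn]
      refine Submodule.finrank_lt fun htop => hy1 ⟨hyR, β, LinearMap.ext fun x => ?_⟩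
      have : x ∈ E := by rw [htop]; exact Submodule.mem_top
      rw [← hY, Module.End.mem_eigenspace_iff.1 this, LinearMap.smul_apply, Module.End.one_apply]
    set C0 : Subgroup T := cT.ker with hC0
    set C : Subgroup S := C0.map T.subtype with hC
    have hCT : C ≤ T := Subgroup.map_subtype_le C0
    set ι : C →* T := Subgroup.inclusion hCT with hι
    have hιker : ∀ u : C, cT (ι u) = 1 := by
      intro u
      obtain ⟨w, hw, hwu⟩ := Subgroup.mem_map.1 u.2
      have : ι u = w := Subtype.ext hwu.symm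
      rw [this]
      exact MonoidHom.mem_ker.1 hw
    have hιY : ∀ u : C, Commute (ρ (ι u)) Y := fun u => by
      have h := hcT (ι u)
      rwa [hιker, one_smul] at h
    have hEinv : ∀ u : C, ∀ x ∈ E, ρ (ι u) x ∈ E := by
      intro u x hx
      rw [hE, Module.End.mem_eigenspace_iff] at hx ⊢
      rw [← Module.End.mul_apply, ← (hιY u).eq, Module.End.mul_apply, hx, map_smul]
    let ρC : C →* Module.End F E :=
      { toFun := fun u => (ρ (ι u)).restrict (hEinv u)
        map_one' := by
          ext x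
          show ρ (ι 1) (x : V) = (x : V)
          rw [map_one, map_one, Module.End.one_apply]
        map_mul' := fun u w => by
          ext x
          show ρ (ι (u * w)) (x : V) = ρ (ι u) (ρ (ι w) (x : V))
          rw [map_mul, map_mul, Module.End.mul_apply] }
    refine ih _ hElt C E rfl ρC inferInstance (fun u hu x hx => ?_) ?_ ?_
    · exact Subtype.ext (hfpf (ι u) hu _ (congrArg Subtype.val hx))
    · have : C.map (QuotientGroup.mk' R) = T.map (QuotientGroup.mk' R) := by
        refine le_antisymm (Subgroup.map_mono hCT) ?_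
        rintro _ ⟨t, ht, rfl⟩
        obtain ⟨l, -, hl⟩ := hprim.eq_pow_of_pow_eq_one (hcp ⟨t, ht⟩)
        have hl' : l ≤ l * p := Nat.le_mul_of_pos_right l hp.out.pos
        refine ⟨t * (r : S) ^ (l * p - l), ⟨⟨t, ht⟩ * r ^ (l * p - l), ?_, rfl⟩, ?_⟩
        · rw [SetLike.mem_coe, hC0, MonoidHom.mem_ker, map_mul, map_pow, ← hl, ← pow_add,
            Nat.add_sub_cancel' hl', mul_comm, pow_mul, hprim.pow_eq_one, one_pow]
        · rw [map_mul, map_pow]
          have : QuotientGroup.mk' R (r : S) = 1 := (QuotientGroup.eq_one_iff _).2 hrR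
          rw [this, one_pow, mul_one]
      rwa [this]
    intro A hA hAc
    -- lift `A`
    have hlift : ∀ B ∈ Algebra.adjoin F (ρC '' {u : C | (u : S) ∈ R}),
        ∃ B0 ∈ Algebra.adjoin F (ρ '' {t : T | (t : S) ∈ R}),
          Commute B0 Y ∧ ∀ x : E, ((B x : E) : V) = B0 x := by
      intro B hB
      induction hB using Algebra.adjoin_induction with
      | mem B hB =>
        obtain ⟨u, hu, rfl⟩ := hB
        exact ⟨ρ (ι u), Algebra.subset_adjoin ⟨ι u, hu, rfl⟩, hιY u, fun x => rfl⟩
      | algebraMap μ =>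
        exact ⟨algebraMap F _ μ, Subalgebra.algebraMap_mem _ μ, Algebra.commutes μ Y,
          fun x => by simp [Module.algebraMap_end_apply]⟩
      | add B B' _ _ hB hB' =>
        obtain ⟨B0, h0, h0Y, h0B⟩ := hB
        obtain ⟨B1, h1, h1Y, h1B⟩ := hB'
        exact ⟨B0 + B1, add_mem h0 h1, h0Y.add_left h1Y, fun x => by
          simp [LinearMap.add_apply, h0B, h1B]⟩
      | mul B B' _ _ hB hB' =>
        obtain ⟨B0, h0, h0Y, h0B⟩ := hB
        obtain ⟨B1, h1, h1Y, h1B⟩ := hB'
        exact ⟨B0 * B1, mul_mem h0 h1, h0Y.mul_left h1Y, fun x => by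
          simp only [Module.End.mul_apply]
          rw [h0B, h1B]⟩
    obtain ⟨A0, hA0, hA0Y, hA0A⟩ := hlift A hA
    set Rad := Algebra.adjoin F (ρ '' {t : T | (t : S) ∈ R}) with hRad
    -- the projection to the eigenspace
    set Z : Module.End F V := β⁻¹ • Y with hZ
    set e : Module.End F V := (p : F)⁻¹ • ∑ k ∈ Finset.range p, Z ^ k with he
    have hZp : Z ^ p = 1 := by
      rw [hZ, _root_.smul_pow, ha0, smul_smul, inv_pow, hβp, inv_mul_cancel₀ ha00, one_smul]
    have heY : ∀ M : Module.End F V, Commute M Y → Commute M e := fun M hM =>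
      ((Commute.sum_right _ _ _ fun k _ => (hM.smul_right _).pow_right k).smul_right _)
    have heE : ∀ x : V, e x ∈ E := by
      intro x
      have h1 : Z * e = e := by
        rw [he, mul_smul_comm, Finset.mul_sum]
        congr 1
        simp only [← pow_succ']
        have h2 := Finset.sum_range_succ' (fun k => Z ^ k) p
        rw [Finset.sum_range_succ, hZp, pow_zero] at h2
        exact (add_right_cancel h2).symm
      rw [hE, Module.End.mem_eigenspace_iff]
      have h3 := LinearMap.congr_fun h1 x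
      rw [Module.End.mul_apply, hZ, LinearMap.smul_apply] at h3
      conv_rhs => rw [← h3]
      rw [smul_smul, mul_inv_cancel₀ hβ0, one_smul]
    have heig : ∀ (x : V) (γ : F), Y x = γ • x → e x =
        ((p : F)⁻¹ * ∑ k ∈ Finset.range p, (β⁻¹ * γ) ^ k) • x := by
      intro x γ hx
      have h : ∀ k : ℕ, (Z ^ k) x = (β⁻¹ * γ) ^ k • x := by
        intro k
        induction k with
        | zero => simp
        | succ k ihk =>
          rw [pow_succ', Module.End.mul_apply, ihk, map_smul, hZ, LinearMap.smul_apply, hx,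
            smul_smul, smul_smul, pow_succ]
          congr 1
          ring
      rw [he, LinearMap.smul_apply, LinearMap.sum_apply, Finset.sum_congr rfl (fun k _ => h k),
        ← Finset.sum_smul, smul_smul]
    have hefix : ∀ x ∈ E, e x = x := by
      intro x hx
      rw [heig x β (Module.End.mem_eigenspace_iff.1 hx), inv_mul_cancel₀ hβ0]
      simp only [one_pow, Finset.sum_const, Finset.card_range, nsmul_one]
      rw [inv_mul_cancel₀ hpF, one_smul]
    have hekill : ∀ (x : V) (γ : F), Y x = γ • x → γ ^ p = a0 → γ ≠ β → e x = 0 := by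
      intro x γ hx hγ hne
      have h1 : β⁻¹ * γ ≠ 1 := fun h => hne (by
        rw [inv_mul_eq_one₀ hβ0] at h; exact h.symm)
      rw [heig x γ hx, geom_sum_eq h1, mul_pow, inv_pow, hβp, hγ, inv_mul_cancel₀ ha00, sub_self,
        zero_div, mul_zero, zero_smul]
    have heRad : e ∈ Rad := Subalgebra.smul_mem _ (sum_mem fun k _ => pow_mem
      (Subalgebra.smul_mem _ (show Y ∈ Rad from Algebra.subset_adjoin ⟨y, hyR, rfl⟩) _) k) _
    set B : Module.End F V := A0 * e with hB
    have hBker : ∀ t : T, (t : S) ∈ R → cT t = 1 → Commute B (ρ t) := by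
      intro t ht ht1
      have htY : Commute (ρ t) Y := by
        show ρ t * Y = Y * ρ t
        rw [hcT, ht1, one_smul]
      set u : C := ⟨t, Subgroup.mem_map.2 ⟨t, MonoidHom.mem_ker.2 ht1, rfl⟩⟩
      have hu : ι u = t := Subtype.ext rfl
      refine LinearMap.ext fun x => ?_
      show A0 (e (ρ t x)) = ρ t (A0 (e x))
      rw [← Module.End.mul_apply e, ← (heY _ htY).eq, Module.End.mul_apply]
      have h1 := LinearMap.congr_fun (hAc u ht).eq ⟨e x, heE x⟩
      have h2 := congrArg Subtype.val h1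
      simp only [Module.End.mul_apply] at h2
      have h3 : ∀ w : E, ((ρC u w : E) : V) = ρ t w := fun w => by rw [← hu]; rfl
      rw [hA0A, h3, h3, hA0A] at h2
      exact h2
    -- averaging
    set X : Module.End F V := ∑ i ∈ Finset.range p, ρ (r ^ i) * B * ρ (r ^ i)⁻¹ with hX
    have hXmem : X ∈ Rad := sum_mem fun i _ => mul_mem (mul_mem
      (Algebra.subset_adjoin ⟨r ^ i, by simpa using R.pow_mem hrR i, rfl⟩) (mul_mem hA0 heRad))
      (Algebra.subset_adjoin ⟨(r ^ i)⁻¹, by simpa using R.pow_mem hrR i, rfl⟩)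
    have hperiod : ρ (r ^ p) * B * ρ (r ^ p)⁻¹ = B := by
      have hk : cT (r ^ p) = 1 := by rw [map_pow]; exact hcp r
      rw [← (hBker _ (by simpa using R.pow_mem hrR p) hk).eq, mul_assoc, hρinv, mul_one]
    have hXr : Commute X (ρ r) := by
      have h1 : ρ r * X * ρ r⁻¹ = X := by
        rw [hX, Finset.mul_sum, Finset.sum_mul]
        have h2 := Finset.sum_range_succ' (fun i => ρ (r ^ i) * B * ρ (r ^ i)⁻¹) p
        rw [Finset.sum_range_succ, hperiod, pow_zero, inv_one, map_one, one_mul, mul_one] at h2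
        have h3 := (add_right_cancel h2).symm
        refine Eq.trans (Finset.sum_congr rfl fun i _ => ?_) h3
        rw [pow_succ', map_mul, mul_inv_rev, map_mul]
        simp only [mul_assoc]
      show X * ρ r = ρ r * X
      conv_lhs => rw [← h1]
      rw [mul_assoc, hρinv', mul_one]
    have hXker : ∀ t : T, (t : S) ∈ R → cT t = 1 → Commute X (ρ t) := by
      intro t ht ht1
      refine Commute.sum_left _ _ _ fun i _ => ?_
      set t' : T := (r ^ i)⁻¹ * t * r ^ i with ht'
      have hd : cT (r ^ i)⁻¹ * cT (r ^ i) = 1 := by rw [← map_mul, inv_mul_cancel, map_one]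
      have hB' := hBker t' (by
        simpa [ht'] using R.mul_mem (R.mul_mem (R.inv_mem (R.pow_mem hrR i)) ht) (R.pow_mem hrR i))
        (by rw [ht', map_mul, map_mul, ht1, mul_one, hd])
      show ρ (r ^ i) * B * ρ (r ^ i)⁻¹ * ρ t = ρ t * (ρ (r ^ i) * B * ρ (r ^ i)⁻¹)
      have e1 : ρ (r ^ i)⁻¹ * ρ t = ρ t' * ρ (r ^ i)⁻¹ := by
        rw [← map_mul, ← map_mul, ht']; congr 1; group
      have e2 : ρ t * ρ (r ^ i) = ρ (r ^ i) * ρ t' := by
        rw [← map_mul, ← map_mul, ht']; congr 1; group
      rw [mul_assoc, e1, ← mul_assoc, mul_assoc (ρ (r ^ i)) B, hB'.eq, ← mul_assoc, ← e2]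
      simp only [mul_assoc]
    obtain ⟨μ, hμ⟩ := hscal X hXmem (fun t ht => by
      obtain ⟨l, -, hl⟩ := hprim.eq_pow_of_pow_eq_one (hcp t)
      have hinv1 : cT (r ^ l)⁻¹ * cT (r ^ l) = 1 := by rw [← map_mul, inv_mul_cancel, map_one]
      have hk : cT ((r ^ l)⁻¹ * t) = 1 := by rw [map_mul, ← hl, ← map_pow, hinv1]
      have h1 := hXker _ (by simpa using R.mul_mem (R.inv_mem (R.pow_mem hrR l)) ht) hk
      have e3 : t = r ^ l * ((r ^ l)⁻¹ * t) := by group
      rw [e3, map_mul, map_pow]
      exact (hXr.pow_right l).mul_right h1)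
    refine ⟨μ, LinearMap.ext fun x => Subtype.ext ?_⟩
    have h := LinearMap.congr_fun hμ (x : V)
    have hterm : ∀ i ∈ Finset.range p, i ≠ 0 → (ρ (r ^ i) * B * ρ (r ^ i)⁻¹) (x : V) = 0 := by
      intro i hi hi0
      set s : T := (r ^ i)⁻¹
      have hxx : Y x = β • (x : V) := Module.End.mem_eigenspace_iff.1 x.2
      have hs1 : cT s * cT (r ^ i) = 1 := by rw [← map_mul, inv_mul_cancel, map_one]
      have hYw : Y (ρ s x) = (cT (r ^ i) * β) • ρ s (x : V) := by
        have h1 := LinearMap.congr_fun (hcT s) (x : V)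
        rw [Module.End.mul_apply, LinearMap.smul_apply, Module.End.mul_apply, hxx, map_smul] at h1
        rw [mul_comm, ← smul_smul, smul_comm, h1, smul_smul, mul_comm (cT (r ^ i)), hs1, one_smul]
      have h0 : e (ρ s x) = 0 := by
        refine hekill _ _ hYw ?_ ?_
        · rw [mul_pow, hcp, one_mul, hβp]
        · rw [map_pow]
          intro hc
          exact hprim.pow_ne_one_of_pos_of_lt hi0 (Finset.mem_range.1 hi)
            (mul_right_cancel₀ hβ0 (hc.trans (one_mul β).symm))
      rw [Module.End.mul_apply, Module.End.mul_apply, hB, Module.End.mul_apply, h0, map_zero,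
        map_zero]
    rw [hX, LinearMap.sum_apply, Finset.sum_eq_single 0 hterm
      (fun h => absurd (Finset.mem_range.2 hp.out.pos) h), pow_zero, inv_one, map_one, one_mul,
      mul_one, hB, Module.End.mul_apply, hefix _ x.2, ← hA0A, LinearMap.smul_apply,
      Module.End.one_apply] at h
    rw [h, LinearMap.smul_apply, Module.End.one_apply, SetLike.val_smul]

end Core

section Orbit

variable {F : Type*} [Field F] [IsAlgClosed F] {R : Subgroup S} [R.Normal]

/-- The order of a subgroup is that of its image times that of its part in the kernel. -/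
theorem card_eq_image_mul (R T : Subgroup S) [R.Normal] :
    Nat.card T = Nat.card (T.map (QuotientGroup.mk' R)) * Nat.card (T ⊓ R : Subgroup S) := by
  set φ := (QuotientGroup.mk' R).comp T.subtype
  have hran : φ.range = T.map (QuotientGroup.mk' R) := by
    rw [MonoidHom.range_comp, Subgroup.range_subtype]
  have hker : φ.ker = R.subgroupOf T := by
    ext x; simp [φ, MonoidHom.mem_ker, Subgroup.mem_subgroupOf]
  have h := φ.ker.card_mul_index
  rw [Subgroup.index_ker, hran, hker] at h
  rw [← h, mul_comm]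
  congr 1
  rw [← Subgroup.card_map_of_injective T.subtype_injective, Subgroup.subgroupOf_map_subtype,
    inf_comm]

/-- A stabilizer of a character of the centre with cyclic image lies in `R`. -/
theorem stabilizer_le_of_isCyclic (hF : (Nat.card S : F) ≠ 0) (hS : IsPGroup p S)
    (hconj : ∀ g : S, g ∉ R → ∀ r ∈ R, ∃ x : S, x * g * x⁻¹ = g * r)
    (hnc : ¬ IsCyclic (S ⧸ R)) {W : Subgroup S} [W.Normal] (hW : W ≤ R) (ω : Cent F W)
    (hcyc : IsCyclic ((MulAction.stabilizer S ω).map (QuotientGroup.mk' R))) :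
    MulAction.stabilizer S ω ≤ R := by
  classical
  set T := MulAction.stabilizer S ω with hT
  set π := QuotientGroup.mk' R with hπ
  by_contra hle
  obtain ⟨tb, htb⟩ := IsCyclic.exists_ofOrder_eq_natCard (α := T.map π)
  obtain ⟨t, ht, htt⟩ := Subgroup.mem_map.1 tb.2
  obtain ⟨m, hm⟩ := IsPGroup.iff_card.1 ((hS.to_quotient R).to_subgroup (T.map π))
  have hm0 : m ≠ 0 := by
    rintro rfl
    rw [pow_zero, Subgroup.card_eq_one, Subgroup.map_eq_bot_iff, hπ, QuotientGroup.ker_mk'] at hm
    exact hle hm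
  obtain ⟨m', rfl⟩ := Nat.exists_eq_succ_of_ne_zero hm0
  have htord : orderOf (π t) = p ^ (m' + 1) := by
    rw [htt, Subgroup.orderOf_coe, htb, hm]
  set g := t ^ p ^ m' with hg
  have hgT : g ∈ T := pow_mem ht _
  have hgR : g ∉ R := by
    intro h
    have h1 : π t ^ p ^ m' = 1 := by
      rw [← map_pow]; exact (QuotientGroup.eq_one_iff _).2 h
    have h2 := Nat.le_of_dvd (pow_pos hp.out.pos _) (orderOf_dvd_of_pow_eq_one h1)
    rw [htord] at h2
    exact absurd h2 (not_le.2 (Nat.pow_lt_pow_right hp.out.one_lt m'.lt_succ_self))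
  set Cg := Subgroup.centralizer ({g} : Set S) with hCg
  -- the fixed characters
  set L : Set (Cent F W) := MulAction.orbit S ω ∩ MulAction.fixedBy (Cent F W) g with hL
  have hlow : Nat.card (T ⊓ R : Subgroup S) * Nat.card Cg ≤ Nat.card L * Nat.card T := by
    have hex : ∀ r : (T ⊓ R : Subgroup S), ∃ u : S, u⁻¹ * g * u = g * r := fun r => by
      obtain ⟨x, hx⟩ := hconj g hgR r r.2.2
      exact ⟨x⁻¹, by rwa [inv_inv]⟩
    choose u hu using hex
    have hex2 : ∀ l : L, ∃ u : S, u • ω = l := fun l => MulAction.mem_orbit_iff.1 l.2.1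
    choose v hv using hex2
    have hmem : ∀ (r : (T ⊓ R : Subgroup S)) (c : Cg),
        ((c : S) * u r)⁻¹ * g * ((c : S) * u r) = g * r := fun r c => by
      have hc : (c : S) * g = g * c := Subgroup.mem_centralizer_singleton_iff.1 c.2
      calc ((c : S) * u r)⁻¹ * g * ((c : S) * u r)
          = (u r)⁻¹ * (c : S)⁻¹ * (g * (c : S)) * u r := by group
        _ = (u r)⁻¹ * g * u r := by rw [← hc]; group
        _ = _ := hu r
    have hmemL : ∀ (r : (T ⊓ R : Subgroup S)) (c : Cg), ((c : S) * u r) • ω ∈ L := by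
      intro r c
      refine ⟨MulAction.mem_orbit _ _, ?_⟩
      rw [MulAction.mem_fixedBy]
      have h1 : g * r ∈ T := mul_mem hgT r.2.1
      rw [← hmem r c, hT, MulAction.mem_stabilizer_iff] at h1
      have h2 := congrArg (((c : S) * u r) • ·) h1
      simp only [smul_smul, ← mul_assoc, mul_inv_cancel, one_mul] at h2
      rw [smul_smul, mul_assoc] at *
      exact h2
    let f : (T ⊓ R : Subgroup S) × Cg → L × T := fun rc =>
      (⟨_, hmemL rc.1 rc.2⟩,
        ⟨(v ⟨_, hmemL rc.1 rc.2⟩)⁻¹ * ((rc.2 : S) * u rc.1), by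
          show _ • ω = ω
          rw [mul_smul, inv_smul_eq_iff, hv]⟩)
    have hf : Function.Injective f := by
      rintro ⟨r, c⟩ ⟨r', c'⟩ h
      obtain ⟨h1, h2⟩ := Prod.mk.injEq _ _ _ _ ▸ h
      have h3 := congrArg Subtype.val h2
      simp only [h1] at h3
      have h4 := mul_left_cancel h3
      have h5 : r = r' := Subtype.ext (mul_left_cancel (a := g) (by
        rw [← hmem r c, h4, hmem r' c']))
      subst h5
      exact Prod.ext rfl (Subtype.ext (mul_right_cancel h4))
    have := Nat.card_le_card_of_injective f hf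
    rwa [Nat.card_prod, Nat.card_prod] at this
  -- the trivial character is one more fixed point
  have hfix : Nat.card L + 1 ≤ Nat.card (MulAction.fixedBy (Cent F W) g) := by
    have hω0 : trivCent F W ∉ MulAction.orbit S ω := by
      intro h
      obtain ⟨u, hu⟩ := MulAction.mem_orbit_iff.1 h
      have htop : T = ⊤ := by
        rw [eq_top_iff]
        intro x _
        rw [hT, MulAction.mem_stabilizer_iff]
        have h1 := smul_trivCent (F := F) (W := W) (u * x * u⁻¹)
        rw [← hu, smul_smul, inv_mul_cancel_right, mul_smul] at h1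
        exact MulAction.injective u h1
      rw [htop, Subgroup.map_top_of_surjective _ (QuotientGroup.mk'_surjective R)] at hcyc
      exact hnc (Subgroup.topEquiv.isCyclic.1 hcyc)
    haveI := Fintype.ofFinite (Cent F W)
    rw [Nat.card_coe_set_eq, Nat.card_coe_set_eq]
    have hnot : trivCent F W ∉ L := fun h => hω0 h.1
    rw [← Set.ncard_insert_of_notMem hnot]
    refine Set.ncard_le_ncard (Set.insert_subset ?_ Set.inter_subset_right)
    rw [MulAction.mem_fixedBy]
    exact smul_trivCent g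
  have hg1 : g ≠ 1 := fun e => hgR (e ▸ R.one_mem)
  rw [card_fixedBy_eq hF hS hg1 (fun y hy w hw => ?_)] at hfix
  swap
  · have hyR : y ∉ R := fun h => hgR (Subgroup.zpowers_le.2 h (hy ▸ Subgroup.mem_zpowers g))
    obtain ⟨x, hx⟩ := hconj y hyR (y⁻¹ * w * y)
      (hW (by simpa using (inferInstance : W.Normal).conj_mem w hw y⁻¹))
    exact ⟨x, by rw [hx]; group⟩
  -- the centralizer of `g`
  have hCge : p ^ (m' + 1) * cW W g ≤ Nat.card Cg := by
    rw [card_eq_image_mul R Cg]
    refine Nat.mul_le_mul ?_ ?_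
    · rw [← htord, ← Nat.card_zpowers]
      refine Nat.le_of_dvd Nat.card_pos (Subgroup.card_dvd_of_le (Subgroup.zpowers_le.2 ?_))
      refine Subgroup.mem_map_of_mem _ ?_
      rw [hCg, Subgroup.mem_centralizer_singleton_iff, hg]
      exact ((Commute.refl t).pow_right _).eq
    · refine Nat.card_le_card_of_injective (fun w => ⟨(w.1 : S),
        Subgroup.mem_centralizer_singleton_iff.2 w.2.symm, hW w.1.2⟩) ?_
      intro a b h
      exact Subtype.ext (Subtype.ext (congrArg (fun z : (Cg ⊓ R : Subgroup S) => (z : S)) h))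
  have hTcard := card_eq_image_mul R T
  rw [hm] at hTcard
  simp only [Nat.succ_eq_add_one] at hTcard
  rw [hTcard] at hlow
  have hpos : 0 < Nat.card (T ⊓ R : Subgroup S) := Nat.card_pos
  have hpm : 0 < p ^ (m' + 1) := pow_pos hp.out.pos _
  have h1 : Nat.card Cg ≤ Nat.card L * p ^ (m' + 1) := by
    refine Nat.le_of_mul_le_mul_left (hlow.trans (le_of_eq ?_)) hpos
    ring
  have h2 := Nat.mul_le_mul_left (p ^ (m' + 1)) hfix
  rw [Nat.mul_add, mul_one, mul_comm (p ^ (m' + 1)) (Nat.card L)] at h2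
  omega

/-- No stabilizer of a character of the centre lies in `R`. -/
theorem not_stabilizer_le (hF : (Nat.card S : F) ≠ 0) (hS : IsPGroup p S)
    (hconj : ∀ g : S, g ∉ R → ∀ r ∈ R, ∃ x : S, x * g * x⁻¹ = g * r)
    (hnc : ¬ IsCyclic (S ⧸ R)) :
    ∀ (n : ℕ) (W : Subgroup S) [W.Normal], Nat.card W = n → W ≤ R → ∀ ω : Cent F W,
      ¬ MulAction.stabilizer S ω ≤ R := by
  intro n
  induction n using Nat.strong_induction_on with
  | _ n ih =>
  intro W _ hn hW ω hle
  by_cases hWbot : W = ⊥
  · subst hWbot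
    apply hnc
    have htop : MulAction.stabilizer S ω = ⊤ := by
      rw [eq_top_iff]
      intro x _
      rw [MulAction.mem_stabilizer_iff]
      ext a
      rw [CentreChar.smul_apply]
      congr 1
      apply Subtype.ext
      ext z
      rw [coeff_zconj, inv_inv]
      by_cases hz : z = 1
      · rw [hz]; simp
      · rw [(mem_Zs_iff.1 a.2).1 z (by simpa using hz),
          (mem_Zs_iff.1 a.2).1 _ (fun h => hz (by
            have h' : x * z * x⁻¹ = 1 := Subgroup.mem_bot.1 h
            rwa [conj_eq_one_iff] at h'))]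
    rw [htop] at hle
    haveI : Subsingleton (S ⧸ R) := by
      rw [top_le_iff.1 hle]
      exact QuotientGroup.subsingleton_quotient_top
    infer_instance
  -- a normal subgroup of index `p`
  obtain ⟨W', ⟨hW'n, hW'lt⟩, hmax⟩ := Set.exists_max_image
    {U : Subgroup S | U.Normal ∧ U < W} (fun U => Nat.card U) (Set.toFinite _)
    ⟨⊥, inferInstance, bot_lt_iff_ne_bot.2 hWbot⟩
  haveI : W'.Normal := hW'n
  obtain ⟨y, hyW, hyW', hycen, hyp⟩ := exists_central_step hS W' W hW'lt.le (not_le_of_gt hW'lt)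
  have hidx : W'.relIndex W = p := by
    set U : Subgroup S := W' ⊔ Subgroup.zpowers y with hU
    have hUW : U ≤ W := sup_le hW'lt.le (Subgroup.zpowers_le.2 hyW)
    haveI hUn : U.Normal := by
      refine ⟨fun a ha t => ?_⟩
      have hcomap : U ≤ U.comap (MulAut.conj t).toMonoidHom := by
        refine sup_le (fun w hw => ?_) ?_
        · exact (le_sup_left : W' ≤ U) (hW'n.conj_mem w hw t)
        · rw [Subgroup.zpowers_le, Subgroup.mem_comap]
          show t * y * t⁻¹ ∈ U
          have := mul_mem ((le_sup_left : W' ≤ U) (hycen t))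
            ((le_sup_right : Subgroup.zpowers y ≤ U) (Subgroup.mem_zpowers y))
          simpa [mul_assoc] using this
      exact hcomap ha
    have hUeq : U = W := by
      by_contra hne
      have h1 := hmax U ⟨hUn, lt_of_le_of_ne hUW hne⟩
      have h2 : W' = U := Subgroup.eq_of_le_of_card_ge le_sup_left h1
      exact hyW' (h2 ▸ (le_sup_right : Subgroup.zpowers y ≤ U) (Subgroup.mem_zpowers y))
    have hy1 : QuotientGroup.mk' W' y ≠ 1 := fun h => hyW' ((QuotientGroup.eq_one_iff y).1 h)
    rw [← QuotientGroup.ker_mk' W', Subgroup.relIndex_ker, ← hUeq, hU, Subgroup.map_sup,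
      QuotientGroup.map_mk'_self, bot_sup_eq, MonoidHom.map_zpowers, Nat.card_zpowers]
    refine orderOf_eq_prime ?_ hy1
    rw [← map_pow]
    exact (QuotientGroup.eq_one_iff _).2 hyp
  obtain ⟨ω', X, hωX, hXcard, hXinv⟩ := exists_above hF hW'lt.le hidx ω
  have hcard_lt : Nat.card W' < n := by
    rw [← hn]
    exact lt_of_le_of_ne (Nat.le_of_dvd Nat.card_pos (Subgroup.card_dvd_of_le hW'lt.le))
      fun h => hW'lt.ne (Subgroup.eq_of_le_of_card_ge hW'lt.le h.ge)
  apply ih _ hcard_lt W' rfl (hW'lt.le.trans hW) ω'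
  set T' := MulAction.stabilizer S ω' with hT'
  apply stabilizer_le_of_isCyclic hF hS hconj hnc (hW'lt.le.trans hW)
  -- its image has order at most `p`
  have h1 : Nat.card T' ≤ p * Nat.card (T' ⊓ R : Subgroup S) := by
    have hidx2 := MulAction.index_stabilizer T' ω
    have hle2 : Nat.card (MulAction.stabilizer T' ω) ≤ Nat.card (T' ⊓ R : Subgroup S) := by
      refine Nat.card_le_card_of_injective (fun x => ⟨((x : T') : S), (x : T').2,
        hle x.2⟩) ?_
      intro a b h
      exact Subtype.ext (Subtype.ext (congrArg (fun z : (T' ⊓ R : Subgroup S) => (z : S)) h))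
    have horb : (MulAction.orbit T' ω).ncard ≤ p := by
      refine le_trans (Set.ncard_le_ncard (t := X) ?_ (Set.toFinite _)) ?_
      · rintro _ ⟨x, rfl⟩
        exact hXinv x (MulAction.mem_stabilizer_iff.1 x.2) ω hωX
      · rw [← Nat.card_coe_set_eq]; exact hXcard
    rw [← (MulAction.stabilizer T' ω).card_mul_index, hidx2, mul_comm]
    exact Nat.mul_le_mul horb hle2
  rw [card_eq_image_mul R T'] at h1
  have h2 : Nat.card (T'.map (QuotientGroup.mk' R)) ≤ p :=
    Nat.le_of_mul_le_mul_right h1 Nat.card_pos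
  obtain ⟨i, hi⟩ := IsPGroup.iff_card.1 ((hS.to_quotient R).to_subgroup (T'.map (QuotientGroup.mk' R)))
  rw [hi] at h2
  have hi1 : i ≤ 1 := by
    by_contra h
    have := Nat.pow_lt_pow_right hp.out.one_lt (show 1 < i by omega)
    rw [pow_one] at this
    omega
  interval_cases i
  · haveI : Subsingleton (T'.map (QuotientGroup.mk' R)) := (Nat.card_eq_one_iff_unique.1 hi).1
    exact isCyclic_of_subsingleton
  · exact isCyclic_of_prime_card (p := p) (by rwa [pow_one] at hi)

end Orbit

section Main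

universe w

variable {F : Type*} [Field F] [IsAlgClosed F] {R : Subgroup S} [R.Normal]

/-- A Camina pair of `p`-groups has no representation fixed-point-free outside `R`. -/
theorem false_of_rep (hp2 : p ≠ 2) (hpF : (p : F) ≠ 0) (hS : IsPGroup p S)
    (hconj : ∀ g : S, g ∉ R → ∀ r ∈ R, ∃ x : S, x * g * x⁻¹ = g * r)
    (hnc : ¬ IsCyclic (S ⧸ R)) {V : Type w} [AddCommGroup V] [Module F V] [FiniteDimensional F V]
    [Nontrivial V] (ρ : S →* Module.End F V)
    (hfpf : ∀ g : S, g ∉ R → ∀ x, ρ g x = x → x = 0) : False := by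
  classical
  obtain ⟨k, hk⟩ := IsPGroup.iff_card.1 hS
  have hF : (Nat.card S : F) ≠ 0 := by rw [hk, Nat.cast_pow]; exact pow_ne_zero _ hpF
  haveI := Fintype.ofFinite S
  haveI := Fintype.ofFinite (Cent F R)
  haveI := Fintype.ofFinite R
  let Φ : MonoidAlgebra F S →ₐ[F] Module.End F V := MonoidAlgebra.lift F (Module.End F V) S ρ
  have hΦ : ∀ s : S, Φ (single s 1) = ρ s := fun s => by simp [Φ]
  obtain ⟨ω, hω⟩ : ∃ ω : Cent F R, Φ (idem ω : MonoidAlgebra F S) ≠ 0 := by
    by_contra h
    push Not at h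
    have h1 := congrArg (fun a : Zs F R => Φ (a : MonoidAlgebra F S)) (sum_idem hF R)
    simp only [AddSubmonoidClass.coe_finsetSum, map_sum, h, Finset.sum_const_zero,
      OneMemClass.coe_one, map_one] at h1
    exact zero_ne_one h1
  set T := MulAction.stabilizer S ω with hT
  set e : Module.End F V := Φ (idem ω : MonoidAlgebra F S) with he
  have hRT : R ≤ T := fun r hr => MulAction.mem_stabilizer_iff.2 (smul_of_mem hr ω)
  have hcomm : ∀ t ∈ T, Commute (ρ t) e := by
    intro t ht
    have h1 : zconj t (idem ω) = idem ω := by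
      refine ext_cent hF fun ψ => ?_
      have h2 : ψ (zconj t (idem ω)) = (t⁻¹ • ψ) (idem ω) := by rw [CentreChar.smul_apply, inv_inv]
      rw [h2]
      by_cases hψ : ψ = ω
      · rw [hψ, show t⁻¹ • ω = ω from MulAction.mem_stabilizer_iff.1 (inv_mem ht)]
      · rw [apply_idem_of_ne hψ, apply_idem_of_ne]
        intro h
        rw [inv_smul_eq_iff, MulAction.mem_stabilizer_iff.1 ht] at h
        exact hψ h
    show ρ t * e = e * ρ t
    rw [← hΦ, he, ← map_mul, ← map_mul]
    congr 1
    ext x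
    rw [coeff_single_mul_apply, coeff_mul_single_apply, one_mul, mul_one]
    have h3 := congrArg (fun a : Zs F R => (a : MonoidAlgebra F S).coeff (x * t⁻¹)) h1
    simp only [coeff_zconj] at h3
    rw [← h3]
    congr 1
    group
  set U := LinearMap.range e with hU
  have hUinv : ∀ t : T, ∀ x ∈ U, ρ t x ∈ U := by
    rintro t _ ⟨x, rfl⟩
    exact ⟨ρ t x, by rw [← Module.End.mul_apply, ← (hcomm t t.2).eq, Module.End.mul_apply]⟩
  let ρU : T →* Module.End F U :=
    { toFun := fun t => (ρ (t : S)).restrict (hUinv t)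
      map_one' := by
        ext x
        show ρ ((1 : T) : S) (x : V) = (x : V)
        rw [OneMemClass.coe_one, map_one, Module.End.one_apply]
      map_mul' := fun u w => by
        ext x
        show ρ ((u * w : T) : S) (x : V) = ρ (u : S) (ρ (w : S) (x : V))
        rw [Subgroup.coe_mul, map_mul, Module.End.mul_apply] }
  haveI : Nontrivial U := Submodule.nontrivial_iff_ne_bot.2 fun h => hω (LinearMap.range_eq_bot.1 h)
  refine core (p := p) hp2 hpF hS R _ T U rfl ρU inferInstance
    (fun t ht x hx => Subtype.ext (hfpf (t : S) ht _ (congrArg Subtype.val hx))) ?_ ?_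
  · intro hcyc
    exact not_stabilizer_le hF hS hconj hnc _ R rfl le_rfl ω
      (stabilizer_le_of_isCyclic hF hS hconj hnc le_rfl ω hcyc)
  intro A hA hAc
  have hlift : ∀ B ∈ Algebra.adjoin F (ρU '' {t : T | (t : S) ∈ R}),
      ∃ a ∈ (mapDomainAlgHom F F R.subtype).range, ∀ x : U, ((B x : U) : V) = Φ a x := by
    intro B hB
    induction hB using Algebra.adjoin_induction with
    | mem B hB =>
      obtain ⟨t, ht, rfl⟩ := hB
      exact ⟨single (t : S) 1, ⟨single ⟨(t : S), ht⟩ 1, by simp⟩, fun x => by rw [hΦ]; rfl⟩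
    | algebraMap μ =>
      exact ⟨algebraMap F _ μ, Subalgebra.algebraMap_mem _ μ, fun x => by
        rw [AlgHom.commutes]; simp [Module.algebraMap_end_apply]⟩
    | add B B' _ _ hB hB' =>
      obtain ⟨a, ha, haB⟩ := hB
      obtain ⟨b, hb, hbB⟩ := hB'
      exact ⟨a + b, add_mem ha hb, fun x => by simp [haB, hbB]⟩
    | mul B B' _ _ hB hB' =>
      obtain ⟨a, ha, haB⟩ := hB
      obtain ⟨b, hb, hbB⟩ := hB'
      exact ⟨a * b, mul_mem ha hb, fun x => by
        simp only [map_mul, Module.End.mul_apply]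
        rw [haB, hbB]⟩
  obtain ⟨a, ha, haA⟩ := hlift A hA
  set z : MonoidAlgebra F S := ∑ r : R, single (r : S) 1 * a * single ((r : S)⁻¹) 1 with hz
  have hzmem : z ∈ Zs F R := by
    rw [Zs, Algebra.mem_inf]
    refine ⟨sum_mem fun r _ => mul_mem (mul_mem ⟨single r 1, by simp⟩ ha)
      ⟨single r⁻¹ 1, by simp⟩, ?_⟩
    rw [Subalgebra.mem_centralizer_iff]
    rintro _ ⟨w, hw, rfl⟩
    rw [hz, Finset.mul_sum, Finset.sum_mul]
    refine Fintype.sum_equiv (Equiv.mulLeft (⟨w, hw⟩ : R)) _ _ fun r => ?_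
    simp only [Equiv.coe_mulLeft, Subgroup.coe_mul, mul_inv_rev]
    rw [← mul_assoc, ← mul_assoc, single_mul_single, one_mul, mul_assoc _ (single ((r : S)⁻¹ * w⁻¹) _),
      single_mul_single, inv_mul_cancel_right, one_mul]
  have hzU : ∀ x : U, Φ z x = (Nat.card R : F) • ((A x : U) : V) := by
    intro x
    rw [hz, map_sum, LinearMap.sum_apply, Finset.sum_congr rfl (fun r _ => ?_), Finset.sum_const,
      Finset.card_univ, ← Nat.card_eq_fintype_card, ← Nat.cast_smul_eq_nsmul F]
    set t : T := ⟨(r : S), hRT r.2⟩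
    rw [map_mul, map_mul, hΦ, hΦ, Module.End.mul_apply, Module.End.mul_apply]
    have e1 : ρ ((r : S)⁻¹) (x : V) = ((ρU t⁻¹ x : U) : V) := rfl
    rw [e1, ← haA]
    have e2 : ∀ w : U, ρ (r : S) (w : V) = ((ρU t w : U) : V) := fun w => rfl
    rw [e2, ← Module.End.mul_apply (ρU t), ← (hAc t r.2).eq, Module.End.mul_apply,
      ← Module.End.mul_apply (ρU t), ← map_mul, mul_inv_cancel, map_one, Module.End.one_apply]
  have hRF : (Nat.card R : F) ≠ 0 := by
    obtain ⟨i, hi⟩ := IsPGroup.iff_card.1 (hS.to_subgroup R)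
    rw [hi, Nat.cast_pow]; exact pow_ne_zero _ hpF
  refine ⟨(Nat.card R : F)⁻¹ * ω ⟨z, hzmem⟩, LinearMap.ext fun x => Subtype.ext ?_⟩
  rw [LinearMap.smul_apply, Module.End.one_apply, SetLike.val_smul]
  have h1 : Φ z * e = ω ⟨z, hzmem⟩ • e := by
    have h2 := congrArg (fun b : Zs F R => Φ (b : MonoidAlgebra F S))
      (mul_idem hF ω ⟨z, hzmem⟩)
    simpa [he] using h2
  obtain ⟨x', hx'⟩ := x.2
  have h3 := LinearMap.congr_fun h1 x'
  rw [Module.End.mul_apply, LinearMap.smul_apply, hx', hzU] at h3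
  rw [← smul_smul, ← h3, inv_smul_smul₀ hRF]

/-- A Camina pair of `p`-groups, `p` odd, does not act coprimely with fixed points only in `R`. -/
theorem false_of_act (hp2 : p ≠ 2) (hS : IsPGroup p S) (hRbot : R ≠ ⊥) (hRtop : R ≠ ⊤)
    (hconj : ∀ g : S, g ∉ R → ∀ r ∈ R, ∃ x : S, x * g * x⁻¹ = g * r)
    {K : Type w} [Group K] [Finite K] [Nontrivial K] [MulDistribMulAction S K]
    (hK : ¬ p ∣ Nat.card K) (hfpf : ∀ g : S, g ∉ R → ∀ k : K, g • k = k → k = 1) : False := by
  classical
  have hnc : ¬ IsCyclic (S ⧸ R) := by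
    intro hc
    obtain ⟨gb, hgb⟩ := IsCyclic.exists_generator (α := S ⧸ R)
    obtain ⟨g, rfl⟩ := QuotientGroup.mk'_surjective R gb
    have hgR : g ∉ R := fun h => hRtop (by
      rw [eq_top_iff]
      intro x _
      obtain ⟨i, hi⟩ := hgb (QuotientGroup.mk' R x)
      rw [← QuotientGroup.eq_one_iff x]
      show QuotientGroup.mk' R x = 1
      rw [← hi]
      show QuotientGroup.mk' R g ^ i = 1
      rw [show QuotientGroup.mk' R g = 1 from (QuotientGroup.eq_one_iff g).2 h, one_zpow])
    have hR' : R ≤ commutator S := by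
      intro r hr
      obtain ⟨x, hx⟩ := hconj g hgR r hr
      have e : r = ⁅g⁻¹, x⁆ := by
        rw [commutatorElement_def, inv_inv, ← mul_inv_cancel_left g⁻¹ r, inv_inv, ← hx]
        group
      rw [e]
      exact Subgroup.commutator_mem_commutator (Subgroup.mem_top _) (Subgroup.mem_top _)
    have htop : Subgroup.zpowers g = ⊤ := by
      apply frattini_nongenerating
      rw [eq_top_iff]
      intro x _
      obtain ⟨i, hi⟩ := hgb (QuotientGroup.mk' R x)
      have h : (g ^ i)⁻¹ * x ∈ R := by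
        rw [← QuotientGroup.eq]
        exact hi
      have := mul_mem ((le_sup_left : Subgroup.zpowers g ≤ Subgroup.zpowers g ⊔ frattini S)
        (zpow_mem (Subgroup.mem_zpowers g) i))
        ((le_sup_right : frattini S ≤ Subgroup.zpowers g ⊔ frattini S)
          (CfsgLib.PGroup.commutator_le_frattini hS (hR' h)))
      simpa using this
    apply hRbot
    rw [eq_bot_iff]
    intro r hr
    obtain ⟨x, hx⟩ := hconj g hgR r hr
    have hxg : x ∈ Subgroup.zpowers g := htop ▸ Subgroup.mem_top x
    obtain ⟨i, rfl⟩ := hxg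
    rw [((Commute.refl g).zpow_left i).eq, mul_inv_cancel_right] at hx
    exact Subgroup.mem_bot.2 (left_eq_mul.1 hx)
  obtain ⟨q, hq, hqK⟩ := Nat.exists_prime_and_dvd (Finite.one_lt_card (α := K)).ne'
  haveI := Fact.mk hq
  have hqp : q ≠ p := fun e => hK (e ▸ hqK)
  obtain ⟨n, hn⟩ := IsPGroup.iff_card.1 hS
  have hcop : (Nat.card S).Coprime (Nat.card K) := by
    rw [hn]; exact Nat.Coprime.pow_left n ((Nat.Prime.coprime_iff_not_dvd hp.out).2 hK)
  have hsol : Group.IsSolvable S := by
    haveI := hS.isNilpotent; infer_instance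
  obtain ⟨Q, hQ⟩ := CfsgLib.Coprime85.exists_invariant_sylow (A := S) (G := K) hcop (Or.inl hsol) q
  haveI : Nontrivial (Q : Subgroup K) :=
    (Subgroup.nontrivial_iff_ne_bot _).2 (Q.ne_bot_of_dvd_card hqK)
  -- an invariant elementary abelian subgroup
  let M : Subgroup K :=
    { carrier := {x | x ∈ (Q : Subgroup K) ∧ x ^ q = 1 ∧ ∀ y ∈ (Q : Subgroup K), Commute x y}
      mul_mem' := fun {a b} ha hb => ⟨mul_mem ha.1 hb.1,
        by rw [(ha.2.2 b hb.1).mul_pow, ha.2.1, hb.2.1, one_mul],
        fun y hy => (ha.2.2 y hy).mul_left (hb.2.2 y hy)⟩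
      one_mem' := ⟨one_mem _, one_pow q, fun y _ => Commute.one_left y⟩
      inv_mem' := fun {a} ha => ⟨inv_mem ha.1, by rw [inv_pow, ha.2.1, inv_one],
        fun y hy => (ha.2.2 y hy).inv_left⟩ }
  haveI : IsMulCommutative M := ⟨⟨fun a b => Subtype.ext (a.2.2.2 b b.2.1).eq⟩⟩
  have hMinv : ∀ (s : S) (x : K), x ∈ M → s • x ∈ M := by
    intro s x hx
    refine ⟨hQ s x hx.1, by rw [← smul_pow', hx.2.1, smul_one], fun y hy => ?_⟩
    have h : s • (x * s⁻¹ • y) = s • (s⁻¹ • y * x) :=
      congrArg (s • ·) (hx.2.2 (s⁻¹ • y) (hQ s⁻¹ y hy)).eq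
    rw [smul_mul', smul_mul', smul_inv_smul] at h
    exact h
  haveI : Nontrivial M := by
    haveI := Q.isPGroup'.center_nontrivial
    obtain ⟨z, hz⟩ := exists_prime_orderOf_dvd_card' (G := Subgroup.center (Q : Subgroup K)) q
      (((IsPGroup.to_subgroup Q.isPGroup' (Subgroup.center (Q : Subgroup K))).nontrivial_iff_card.1
        inferInstance).elim fun n hn => hn.2 ▸ dvd_pow_self q hn.1.ne')
    have hzq : orderOf ((z : (Q : Subgroup K)) : K) = q := by
      rw [Subgroup.orderOf_coe, Subgroup.orderOf_coe, hz]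
    refine ⟨⟨((z : (Q : Subgroup K)) : K), (z : (Q : Subgroup K)).2,
      (orderOf_dvd_iff_pow_eq_one.1 (dvd_of_eq hzq)), fun y hy => ?_⟩, 1, fun h => ?_⟩
    · exact (congrArg Subtype.val (Subgroup.mem_center_iff.1 z.2 ⟨y, hy⟩)).symm
    · rw [show ((z : (Q : Subgroup K)) : K) = 1 from congrArg Subtype.val h, orderOf_one] at hzq
      exact hq.ne_one hzq.symm
  letI : CommGroup M := { (inferInstance : Group M) with mul_comm := mul_comm' }
  have hMq : ∀ a : Additive M, q • a = 0 := fun a =>
    congrArg Additive.ofMul (Subtype.ext (Additive.toMul a).2.2.1 : (Additive.toMul a) ^ q = 1)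
  letI : Module (ZMod q) (Additive M) := AddCommGroup.zmodModule hMq
  -- the representation
  set F := AlgebraicClosure (ZMod q)
  haveI : CharP F q := charP_of_injective_algebraMap (algebraMap (ZMod q) F).injective q
  have hpF : (p : F) ≠ 0 := by
    rw [Ne, CharP.cast_eq_zero_iff F q]
    exact fun h => hqp ((Nat.prime_dvd_prime_iff_eq hq hp.out).1 h)
  let act : S →* AddMonoid.End (Additive M) :=
    { toFun := fun s => AddMonoidHom.mk' (fun a => Additive.ofMul ⟨s • ((Additive.toMul a : M) : K),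
        hMinv s _ (Additive.toMul a).2⟩) (fun a b => congrArg Additive.ofMul (Subtype.ext
          (smul_mul' s ((Additive.toMul a : M) : K) ((Additive.toMul b : M) : K))))
      map_one' := AddMonoidHom.ext fun a => congrArg Additive.ofMul (Subtype.ext
          (one_smul S ((Additive.toMul a : M) : K)))
      map_mul' := fun s t => AddMonoidHom.ext fun a => congrArg Additive.ofMul (Subtype.ext
          (mul_smul s t ((Additive.toMul a : M) : K))) }
  let ρ : S →* Module.End F (Additive M →+ F) :=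
    { toFun := fun s =>
        { toFun := fun f => f.comp (act s⁻¹)
          map_add' := fun f g => rfl
          map_smul' := fun c f => rfl }
      map_one' := LinearMap.ext fun f => AddMonoidHom.ext fun a => by
        show f (act (1 : S)⁻¹ a) = f a
        rw [inv_one, map_one]; rfl
      map_mul' := fun s t => LinearMap.ext fun f => AddMonoidHom.ext fun a => by
        show f (act (s * t)⁻¹ a) = f (act t⁻¹ (act s⁻¹ a))
        rw [mul_inv_rev, map_mul]; rfl }
  haveI : FiniteDimensional F (Additive M →+ F) :=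
    FiniteDimensional.of_injective
      ({ toFun := fun f a => f a, map_add' := fun _ _ => rfl, map_smul' := fun _ _ => rfl } :
        (Additive M →+ F) →ₗ[F] (Additive M → F))
      (fun f g h => AddMonoidHom.ext fun a => congrFun h a)
  haveI : Nontrivial (Additive M →+ F) := by
    obtain ⟨a, ha⟩ := exists_ne (0 : Additive M)
    let b := Module.Basis.ofVectorSpace (ZMod q) (Additive M)
    obtain ⟨i, hi⟩ : ∃ i, b.repr a i ≠ 0 := by
      by_contra h
      push Not at h
      exact ha (b.repr.injective (Finsupp.ext fun i => by rw [h i, map_zero]; rfl))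
    refine ⟨(algebraMap (ZMod q) F).toAddMonoidHom.comp (b.coord i).toAddMonoidHom, 0, fun h => ?_⟩
    exact hi ((algebraMap (ZMod q) F).injective ((DFunLike.congr_fun h a).trans (map_zero _).symm))
  refine false_of_rep (F := F) hp2 hpF hS hconj hnc ρ fun g hg f hf => ?_
  have hg' : g⁻¹ ∉ R := fun h => hg (by simpa using R.inv_mem h)
  let A₁ : Additive M →+ Additive M := act g⁻¹
  let d : Additive M →+ Additive M := A₁ - AddMonoidHom.id (Additive M)
  have hd : Function.Injective d := by
    rw [injective_iff_map_eq_zero]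
    intro a ha
    have h1 : act g⁻¹ a = a := sub_eq_zero.1 (show A₁ a - a = 0 from ha)
    have h2 := hfpf g⁻¹ hg' ((Additive.toMul a : M) : K)
      (congrArg (fun b : Additive M => ((Additive.toMul b : M) : K)) h1)
    exact congrArg Additive.ofMul (Subtype.ext h2 : (Additive.toMul a : M) = 1)
  refine AddMonoidHom.ext fun a => ?_
  obtain ⟨b, rfl⟩ := (Finite.injective_iff_surjective.1 hd) a
  show f (A₁ b - b) = 0
  rw [map_sub, sub_eq_zero]
  exact DFunLike.congr_fun hf b

end Main

end CfsgLib.Structure81.CaminaFPF
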