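import Mathlib

/-!
# Characters of the centre of the group algebra of a normal subgroup

For a subgroup `W` of a finite group `S` and a field `F`, `Zs F W` is the centre of the group
algebra of `W`, seen inside the group algebra of `S`. Over an algebraically closed field in which
`|S|` is invertible it is the algebra of all functions on the finite set `Cent F W` of its
characters, and `S` acts on this set when `W` is normal.
-/

set_option autoImplicit false
set_option linter.unusedSectionVars false
set_option linter.style.haveILetI false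

namespace CfsgLib.Structure81.CentreChar

open MonoidAlgebra

variable {S : Type*} [Group S] {F : Type*} [Field F]

variable (F) in
/-- The centre of the group algebra of `W` inside the group algebra of `S`. -/
noncomputable def Zs (W : Subgroup S) : Subalgebra F (MonoidAlgebra F S) :=
  (mapDomainAlgHom F F W.subtype).range ⊓
    Subalgebra.centralizer F ((fun w => single w (1 : F)) '' (W : Set S))

variable (F) in
/-- The characters of the centre of the group algebra of `W`. -/
abbrev Cent (W : Subgroup S) : Type _ := Zs F W →ₐ[F] F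

theorem coeff_eq_zero_of_mem_range {W : Subgroup S} {a : MonoidAlgebra F S}
    (ha : a ∈ (mapDomainAlgHom F F W.subtype).range) {x : S} (hx : x ∉ W) : a.coeff x = 0 := by
  obtain ⟨b, rfl⟩ := ha
  induction b using MonoidAlgebra.induction_linear with
  | zero => simp
  | add b c hb hc => simp only [map_add, coeff_add, Finsupp.add_apply, hb, hc, add_zero]
  | single w r =>
    have h : (w : S) ≠ x := fun e => hx (e ▸ w.2)
    simp [h]

theorem mem_range_of_coeff {W : Subgroup S} {a : MonoidAlgebra F S}
    (ha : ∀ x, x ∉ W → a.coeff x = 0) : a ∈ (mapDomainAlgHom F F W.subtype).range := by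
  rw [← sum_coeff_single a]
  refine Subalgebra.sum_mem _ fun x hx => ?_
  have hxW : x ∈ W := by
    by_contra h
    exact (Finsupp.mem_support_iff.1 hx) (ha x h)
  exact ⟨single ⟨x, hxW⟩ (a.coeff x), by simp⟩

theorem mem_Zs_iff {W : Subgroup S} {a : MonoidAlgebra F S} :
    a ∈ Zs F W ↔ (∀ x, x ∉ W → a.coeff x = 0) ∧
      ∀ w ∈ W, ∀ x, a.coeff (w * x * w⁻¹) = a.coeff x := by
  rw [Zs, Algebra.mem_inf]
  refine and_congr ⟨fun h _ => coeff_eq_zero_of_mem_range h, mem_range_of_coeff⟩ ?_
  rw [Subalgebra.mem_centralizer_iff]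
  constructor
  · intro h w hw x
    have h1 := congrArg (fun b => b.coeff (w * x)) (h _ ⟨w, hw, rfl⟩)
    simpa [coeff_single_mul_apply, coeff_mul_single_apply] using h1.symm
  · rintro h _ ⟨w, hw, rfl⟩
    ext x
    rw [coeff_single_mul_apply, coeff_mul_single_apply, one_mul, mul_one]
    have h1 := h w hw (w⁻¹ * x)
    simpa [mul_assoc] using h1.symm

/-- Elements of `Zs F W` commute with everything supported in `W`. -/
theorem commute_of_mem {W : Subgroup S} {a b : MonoidAlgebra F S} (ha : a ∈ Zs F W)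
    (hb : b ∈ (mapDomainAlgHom F F W.subtype).range) : Commute a b := by
  obtain ⟨c, rfl⟩ := hb
  have h := (Subalgebra.mem_centralizer_iff F).1 (Algebra.mem_inf.1 ha).2
  induction c using MonoidAlgebra.induction_linear with
  | zero => simp
  | add b c hb hc => rw [map_add]; exact hb.add_right hc
  | single w r =>
    have h1 : mapDomainAlgHom F F W.subtype (single w r) = r • single (w : S) 1 := by simp
    show Commute a (mapDomainAlgHom F F W.subtype (single w r))
    rw [h1]
    exact Commute.smul_right (h _ ⟨w, w.2, rfl⟩).symm r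

/-- The centre is commutative. -/
noncomputable instance instCommRingZs (W : Subgroup S) : CommRing (Zs F W) :=
  { (Zs F W).toRing with
    mul_comm := fun a b => Subtype.ext (commute_of_mem a.2 (Algebra.mem_inf.1 b.2).1) }

theorem coeff_one_mul_comm (a b : MonoidAlgebra F S) [Fintype S] :
    (a * b).coeff 1 = ∑ x : S, a.coeff x * b.coeff x⁻¹ := by
  rw [coeff_mul_apply_left, Finsupp.sum_fintype _ _ (by simp)]
  simp

variable [Finite S]

/-- A nilpotent element of the group algebra has coefficient `0` at `1`. -/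
theorem coeff_one_eq_zero_of_isNilpotent (hF : (Nat.card S : F) ≠ 0) {a : MonoidAlgebra F S}
    (ha : IsNilpotent a) : a.coeff 1 = 0 := by
  classical
  haveI := Fintype.ofFinite S
  set b := (MonoidAlgebra.basis S F) with hb
  have hnil : IsNilpotent (LinearMap.mulLeft F a) := by
    obtain ⟨n, hn⟩ := ha
    exact ⟨n, by rw [LinearMap.pow_mulLeft, hn, LinearMap.mulLeft_zero_eq_zero]⟩
  have h1 := (LinearMap.isNilpotent_trace_of_isNilpotent hnil).eq_zero
  rw [LinearMap.trace_eq_matrix_trace F b, Matrix.trace] at h1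
  have h2 : ∀ x : S, (LinearMap.toMatrix b b (LinearMap.mulLeft F a)).diag x = a.coeff 1 := by
    intro x
    rw [Matrix.diag_apply, LinearMap.toMatrix_apply, LinearMap.mulLeft_apply]
    simp only [hb, MonoidAlgebra.basis_apply]
    show (a * single x 1).coeff x = a.coeff 1
    simp [coeff_mul_single_apply]
  rw [Finset.sum_congr rfl (fun x _ => h2 x), Finset.sum_const, Finset.card_univ,
    ← Nat.card_eq_fintype_card, nsmul_eq_mul] at h1
  exact (mul_eq_zero.1 h1).resolve_left hF

/-- The centre has no nonzero nilpotent element. -/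
theorem eq_zero_of_isNilpotent (hF : (Nat.card S : F) ≠ 0) {W : Subgroup S} {a : Zs F W}
    (ha : IsNilpotent a) : a = 0 := by
  apply Subtype.ext
  ext x
  by_cases hx : x ∈ W
  · have hc : Commute (a : MonoidAlgebra F S) (single x⁻¹ 1) :=
      commute_of_mem a.2 ⟨single ⟨x⁻¹, inv_mem hx⟩ 1, by simp⟩
    have h := coeff_one_eq_zero_of_isNilpotent hF (hc.isNilpotent_mul_right (ha.map (Zs F W).val))
    rwa [coeff_mul_single_apply, mul_one, inv_inv, one_mul] at h
  · exact (mem_Zs_iff.1 a.2).1 x hx

noncomputable instance instFiniteDimensionalZs (W : Subgroup S) :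
    FiniteDimensional F (Zs F W) := by
  haveI : FiniteDimensional F (MonoidAlgebra F S) :=
    Module.Finite.of_basis (MonoidAlgebra.basis S F)
  exact FiniteDimensional.finiteDimensional_submodule (Subalgebra.toSubmodule (Zs F W))

/-- Elements on which all characters vanish are zero. -/
theorem eq_zero_of_forall [IsAlgClosed F] (hF : (Nat.card S : F) ≠ 0) {W : Subgroup S}
    {a : Zs F W} (h : ∀ ω : Cent F W, ω a = 0) : a = 0 := by
  refine eq_zero_of_isNilpotent hF ?_
  rw [← mem_nilradical, nilradical_eq_sInf, Ideal.mem_sInf]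
  intro I hI
  haveI : I.IsPrime := hI
  haveI : IsArtinianRing (Zs F W) := IsArtinianRing.of_finite F _
  haveI : I.IsMaximal := IsArtinianRing.isMaximal_of_isPrime I
  letI := Ideal.Quotient.field I
  have hbij := IsAlgClosed.algebraMap_bijective_of_isIntegral (k := F) (K := (Zs F W) ⧸ I)
  let e : F ≃ₐ[F] ((Zs F W) ⧸ I) := AlgEquiv.ofBijective (Algebra.ofId F _) hbij
  have h1 := h (e.symm.toAlgHom.comp (Ideal.Quotient.mkₐ F I))
  have h2 : (Ideal.Quotient.mkₐ F I) a = 0 := by
    apply e.symm.injective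
    rw [map_zero]
    exact h1
  exact Ideal.Quotient.eq_zero_iff_mem.1 h2

theorem ext_cent [IsAlgClosed F] (hF : (Nat.card S : F) ≠ 0) {W : Subgroup S} {a b : Zs F W}
    (h : ∀ ω : Cent F W, ω a = ω b) : a = b :=
  sub_eq_zero.1 (eq_zero_of_forall hF fun ω => by rw [map_sub, h, sub_self])

noncomputable instance instFiniteCent (W : Subgroup S) : Finite (Cent F W) := inferInstance

/-- The idempotent of a character. -/
theorem exists_idem (W : Subgroup S) (ω : Cent F W) :
    ∃ e : Zs F W, ω e = 1 ∧ ∀ ψ : Cent F W, ψ ≠ ω → ψ e = 0 := by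
  classical
  haveI := Fintype.ofFinite (Cent F W)
  have h : ∀ ψ : Cent F W, ∃ b : Zs F W, ω b = 1 ∧ (ψ ≠ ω → ψ b = 0) := by
    intro ψ
    by_cases hψ : ψ = ω
    · exact ⟨1, map_one _, fun h => absurd hψ h⟩
    obtain ⟨a, ha⟩ : ∃ a : Zs F W, ψ a ≠ ω a := by
      by_contra hc
      push Not at hc
      exact hψ (AlgHom.ext hc)
    refine ⟨(ω a - ψ a)⁻¹ • (a - algebraMap F _ (ψ a)), ?_, fun _ => ?_⟩
    · rw [map_smul, map_sub, AlgHom.commutes, smul_eq_mul]
      exact inv_mul_cancel₀ (sub_ne_zero.2 (Ne.symm ha))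
    · rw [map_smul, map_sub, AlgHom.commutes]
      simp
  choose b hb1 hb0 using h
  refine ⟨∏ ψ, b ψ, ?_, fun ψ hψ => ?_⟩
  · rw [map_prod]; exact Finset.prod_eq_one fun x _ => hb1 x
  · rw [map_prod]; exact Finset.prod_eq_zero (Finset.mem_univ ψ) (hb0 ψ hψ)

/-- The idempotent of a character. -/
noncomputable def idem {W : Subgroup S} (ω : Cent F W) : Zs F W := (exists_idem W ω).choose

theorem apply_idem_self {W : Subgroup S} (ω : Cent F W) : ω (idem ω) = 1 :=
  (exists_idem W ω).choose_spec.1

theorem apply_idem_of_ne {W : Subgroup S} {ω ψ : Cent F W} (h : ψ ≠ ω) : ψ (idem ω) = 0 :=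
  (exists_idem W ω).choose_spec.2 ψ h

/-- Every function on the characters is an element of the centre. -/
theorem exists_apply_eq (W : Subgroup S) (v : Cent F W → F) :
    ∃ a : Zs F W, ∀ ω : Cent F W, ω a = v ω := by
  classical
  haveI := Fintype.ofFinite (Cent F W)
  refine ⟨∑ ψ, v ψ • idem ψ, fun ω => ?_⟩
  rw [map_sum, Finset.sum_eq_single ω]
  · rw [map_smul, apply_idem_self, smul_eq_mul, mul_one]
  · intro ψ _ hψ
    rw [map_smul, apply_idem_of_ne (Ne.symm hψ), smul_zero]
  · exact fun h => absurd (Finset.mem_univ ω) h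

theorem sum_idem [IsAlgClosed F] (hF : (Nat.card S : F) ≠ 0) (W : Subgroup S)
    [Fintype (Cent F W)] : ∑ ψ : Cent F W, idem ψ = 1 := by
  classical
  refine ext_cent hF fun ω => ?_
  rw [map_one, map_sum, Finset.sum_eq_single ω]
  · exact apply_idem_self ω
  · intro ψ _ hψ; exact apply_idem_of_ne (Ne.symm hψ)
  · exact fun h => absurd (Finset.mem_univ ω) h

theorem mul_idem [IsAlgClosed F] (hF : (Nat.card S : F) ≠ 0) {W : Subgroup S} (ω : Cent F W)
    (a : Zs F W) : a * idem ω = ω a • idem ω := by
  refine ext_cent hF fun ψ => ?_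
  rw [map_mul, map_smul, smul_eq_mul]
  by_cases h : ψ = ω
  · rw [h]
  · rw [apply_idem_of_ne h, mul_zero, mul_zero]

/-! ### The action of `S` -/

theorem coeff_domCongr_conj (t : S) (a : MonoidAlgebra F S) (x : S) :
    (domCongr F F (MulAut.conj t) a).coeff x = a.coeff (t⁻¹ * x * t) := by
  have h : x = MulAut.conj t (t⁻¹ * x * t) := by simp [mul_assoc]
  conv_lhs => rw [h]
  simp [mul_assoc]

theorem domCongr_conj_mem {W : Subgroup S} [hW : W.Normal] (t : S) {a : MonoidAlgebra F S}
    (ha : a ∈ Zs F W) : domCongr F F (MulAut.conj t) a ∈ Zs F W := by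
  rw [mem_Zs_iff] at ha ⊢
  refine ⟨fun x hx => ?_, fun w hw x => ?_⟩
  · rw [coeff_domCongr_conj]
    exact ha.1 _ fun h => hx (by simpa [mul_assoc] using hW.conj_mem _ h t)
  · rw [coeff_domCongr_conj, coeff_domCongr_conj]
    have h := ha.2 (t⁻¹ * w * t) (by simpa using hW.conj_mem _ hw t⁻¹) (t⁻¹ * x * t)
    rw [← h]
    congr 1
    group

/-- Conjugation on the centre. -/
noncomputable def zconj {W : Subgroup S} [W.Normal] (t : S) : Zs F W →ₐ[F] Zs F W :=
  ((domCongr F F (MulAut.conj t)).toAlgHom.comp (Zs F W).val).codRestrict (Zs F W)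
    fun a => domCongr_conj_mem t a.2

theorem coeff_zconj {W : Subgroup S} [W.Normal] (t : S) (a : Zs F W) (x : S) :
    (zconj t a : MonoidAlgebra F S).coeff x = (a : MonoidAlgebra F S).coeff (t⁻¹ * x * t) :=
  coeff_domCongr_conj t (a : MonoidAlgebra F S) x

theorem zconj_one {W : Subgroup S} [W.Normal] (a : Zs F W) : zconj (1 : S) a = a := by
  apply Subtype.ext; ext x; simp [coeff_zconj]

theorem zconj_mul {W : Subgroup S} [W.Normal] (s t : S) (a : Zs F W) :
    zconj (s * t) a = zconj s (zconj t a) := by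
  apply Subtype.ext; ext x
  simp only [coeff_zconj]
  congr 1
  group

theorem zconj_of_mem {W : Subgroup S} [W.Normal] {w : S} (hw : w ∈ W) (a : Zs F W) :
    zconj w a = a := by
  apply Subtype.ext; ext x
  rw [coeff_zconj]
  have h := (mem_Zs_iff.1 a.2).2 w⁻¹ (inv_mem hw) x
  rwa [inv_inv] at h

/-- `S` acts on the characters. -/
noncomputable instance instMulActionCent {W : Subgroup S} [W.Normal] :
    MulAction S (Cent F W) where
  smul t ω := ω.comp (zconj t⁻¹)
  one_smul ω := by
    show ω.comp (zconj (1 : S)⁻¹) = ω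
    ext a; simp [zconj_one]
  mul_smul s t ω := by
    show ω.comp (zconj (s * t)⁻¹) = (ω.comp (zconj t⁻¹)).comp (zconj s⁻¹)
    ext a; simp [zconj_mul, mul_inv_rev]

theorem smul_apply {W : Subgroup S} [W.Normal] (t : S) (ω : Cent F W) (a : Zs F W) :
    (t • ω) a = ω (zconj t⁻¹ a) := rfl

theorem smul_of_mem {W : Subgroup S} [W.Normal] {w : S} (hw : w ∈ W) (ω : Cent F W) :
    w • ω = ω := by
  ext a; rw [smul_apply, zconj_of_mem (inv_mem hw)]

variable (F) in
/-- The character of the trivial module. -/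
noncomputable def trivCent (W : Subgroup S) : Cent F W :=
  (MonoidAlgebra.lift F F S (1 : S →* F)).comp (Zs F W).val

theorem smul_trivCent {W : Subgroup S} [W.Normal] (t : S) :
    t • trivCent F W = trivCent F W := by
  ext a
  rw [smul_apply]
  show MonoidAlgebra.lift F F S (1 : S →* F)
      (domCongr F F (MulAut.conj t⁻¹) (a : MonoidAlgebra F S)) =
    MonoidAlgebra.lift F F S (1 : S →* F) (a : MonoidAlgebra F S)
  have h : (MonoidAlgebra.lift F F S (1 : S →* F)).comp
      (domCongr F F (MulAut.conj t⁻¹)).toAlgHom =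
      MonoidAlgebra.lift F F S (1 : S →* F) := by
    ext x
    simp
  exact AlgHom.congr_fun h a

/-! ### Counting fixed points -/

/-- Invariant functions. -/
def invFun (G X : Type*) [Group G] [MulAction G X] (F : Type*) [Field F] : Submodule F (X → F) where
  carrier := {f | ∀ (g : G) (x : X), f (g • x) = f x}
  add_mem' {f h} hf hh g x := by simp [hf g x, hh g x]
  zero_mem' g x := rfl
  smul_mem' c f hf g x := by simp [hf g x]

theorem finrank_invFun (G X : Type*) [Group G] [MulAction G X] [Finite X] :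
    Module.finrank F (invFun G X F) = Nat.card (MulAction.orbitRel.Quotient G X) := by
  let e : invFun G X F ≃ₗ[F] (MulAction.orbitRel.Quotient G X → F) :=
    { toFun := fun f => Quotient.lift (f : X → F) (fun a b h => by
        obtain ⟨g, hg⟩ := h
        rw [← hg]; exact f.2 g b)
      map_add' := fun f h => funext fun q => by induction q using Quotient.inductionOn with
        | h a => rfl
      map_smul' := fun c f => funext fun q => by induction q using Quotient.inductionOn with
        | h a => rfl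
      invFun := fun h => ⟨fun x => h (Quotient.mk _ x), fun g x => congrArg h
        (Quotient.sound ⟨g, rfl⟩)⟩
      left_inv := fun f => rfl
      right_inv := fun h => funext fun q => by induction q using Quotient.inductionOn with
        | h a => rfl }
  haveI := Fintype.ofFinite (MulAction.orbitRel.Quotient G X)
  rw [e.finrank_eq, Module.finrank_fintype_fun_eq_card, Nat.card_eq_fintype_card]

/-- The order of the centralizer of `z` in `W`. -/
noncomputable def cW (W : Subgroup S) (z : S) : ℕ := Nat.card {w : W // z * (w : S) = w * z}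

theorem cW_conj {W : Subgroup S} [hW : W.Normal] (x z : S) : cW W (x * z * x⁻¹) = cW W z := by
  refine (Nat.card_congr (Equiv.subtypeEquiv (MulAut.conjNormal (H := W) x).toEquiv
    fun w => ?_)).symm
  have h : ((MulAut.conjNormal x w : W) : S) = x * w * x⁻¹ := MulAut.conjNormal_apply x w
  show _ ↔ x * z * x⁻¹ * ((MulAut.conjNormal x w : W) : S) =
    ((MulAut.conjNormal x w : W) : S) * (x * z * x⁻¹)
  rw [h]
  constructor
  · intro h1
    calc x * z * x⁻¹ * (x * w * x⁻¹) = x * (z * w) * x⁻¹ := by group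
      _ = x * (w * z) * x⁻¹ := by rw [h1]
      _ = _ := by group
  · intro h1
    calc z * (w : S) = x⁻¹ * (x * z * x⁻¹ * (x * w * x⁻¹)) * x := by group
      _ = x⁻¹ * (x * w * x⁻¹ * (x * z * x⁻¹)) * x := by rw [h1]
      _ = _ := by group

theorem cW_eq_of_zpowers_eq {W : Subgroup S} {y z : S}
    (h : Subgroup.zpowers y = Subgroup.zpowers z) : cW W y = cW W z := by
  refine Nat.card_congr (Equiv.subtypeEquivRight fun w => ?_)
  have h1 : ∀ a b : S, b ∈ Subgroup.zpowers a → a * (w : S) = w * a → b * (w : S) = w * b := by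
    rintro a _ ⟨k, rfl⟩ hc
    exact (Commute.zpow_left hc k).eq
  exact ⟨h1 y z (h ▸ Subgroup.mem_zpowers z), h1 z y (h.symm ▸ Subgroup.mem_zpowers y)⟩

/-- Burnside's formula on both sides of the duality. -/
theorem sum_fixed_eq [IsAlgClosed F] (hF : (Nat.card S : F) ≠ 0) {W : Subgroup S} [W.Normal]
    [Fintype S] [Fintype W] [DecidableEq S] (x : S) [DecidablePred (· ∈ Subgroup.zpowers x)] :
    ∑ y ∈ Finset.univ.filter (· ∈ Subgroup.zpowers x), ∑ v : W, cW W ((v : S) * y) =
      Nat.card W * ∑ y ∈ Finset.univ.filter (· ∈ Subgroup.zpowers x),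
        Nat.card (MulAction.fixedBy (Cent F W) y) := by
  classical
  let Y : Subgroup S := Subgroup.zpowers x
  let φ : Y →* MulAut W := (MulAut.conjNormal (H := W)).comp Y.subtype
  let π : W ⋊[φ] Y →* S := SemidirectProduct.lift W.subtype Y.subtype (fun y => by
    ext v
    simp [φ, MulAut.conjNormal_apply, MulAut.conj_apply])
  letI : MulAction (W ⋊[φ] Y) W :=
    MulAction.compHom W ((MulAut.conjNormal (H := W)).comp π)
  haveI : Finite (W ⋊[φ] Y) := Finite.of_equiv (W × Y) SemidirectProduct.equivProd.symm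
  haveI : Fintype (W ⋊[φ] Y) := Fintype.ofFinite _
  haveI := Fintype.ofFinite (Cent F W)
  haveI := Fintype.ofFinite Y
  -- the fixed subspace seen on both sides
  let Fix : Submodule F (Zs F W) :=
    LinearMap.ker ((zconj x : Zs F W →ₐ[F] Zs F W).toLinearMap - LinearMap.id)
  have hFix : ∀ a, a ∈ Fix ↔ zconj x a = a := fun a => by
    simp [Fix, LinearMap.mem_ker, sub_eq_zero]
  have hFixY : ∀ a ∈ Fix, ∀ y ∈ Y, zconj y a = a := by
    intro a ha
    have : Y ≤ (Subgroup.mk (Submonoid.mk (Subsemigroup.mk {y | zconj y a = a}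
        (fun {s t} (hs : zconj s a = a) (ht : zconj t a = a) =>
          show zconj (s * t) a = a by rw [zconj_mul, ht, hs])) (zconj_one a))
        (fun {s} (hs : zconj s a = a) => show zconj s⁻¹ a = a by
          conv_lhs => rw [← hs]
          rw [← zconj_mul, inv_mul_cancel, zconj_one]) : Subgroup S) :=
      Subgroup.zpowers_le.2 ((hFix a).1 ha)
    exact fun y hy => this hy
  let Λ : Fix →ₗ[F] invFun Y (Cent F W) F :=
    { toFun := fun a => ⟨fun ω => ω (a : Zs F W), fun y ω => by
        show ω (zconj ((y : S))⁻¹ (a : Zs F W)) = ω (a : Zs F W)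
        rw [hFixY _ a.2 _ (inv_mem y.2)]⟩
      map_add' := fun a b => Subtype.ext (funext fun ω => map_add ω _ _)
      map_smul' := fun c a => Subtype.ext (funext fun ω => map_smul ω c _) }
  have hΛ : Function.Bijective Λ := by
    constructor
    · intro a b h
      exact Subtype.ext (ext_cent hF fun ω => congrFun (congrArg Subtype.val h) ω)
    · intro f
      obtain ⟨a, ha⟩ := exists_apply_eq (F := F) W (f : Cent F W → F)
      refine ⟨⟨a, (hFix a).2 (ext_cent hF fun ω => ?_)⟩, Subtype.ext (funext ha)⟩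
      have h1 : ω (zconj x a) = ((x⁻¹ : S) • ω) a := by rw [smul_apply, inv_inv]
      rw [h1, ha, ha]
      exact f.2 ⟨x⁻¹, inv_mem (Subgroup.mem_zpowers x)⟩ ω
  let Θ : Fix →ₗ[F] invFun (W ⋊[φ] Y) W F :=
    { toFun := fun a => ⟨fun w => ((a : Zs F W) : MonoidAlgebra F S).coeff w, fun k w => by
        show ((a : Zs F W) : MonoidAlgebra F S).coeff ((MulAut.conjNormal (π k) w : W) : S) = _
        rw [MulAut.conjNormal_apply]
        have h1 := congrArg (fun b : Zs F W => (b : MonoidAlgebra F S).coeff (k.right * w * (k.right : S)⁻¹))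
          (hFixY _ a.2 _ k.right.2)
        simp only [coeff_zconj] at h1
        have h2 := (mem_Zs_iff.1 (a : Zs F W).2).2 (k.left : S) k.left.2
          (k.right * w * (k.right : S)⁻¹)
        have h3 : π k = (k.left : S) * k.right := rfl
        rw [h3]
        calc _ = ((a : Zs F W) : MonoidAlgebra F S).coeff
              ((k.left : S) * (k.right * w * (k.right : S)⁻¹) * (k.left : S)⁻¹) := by
              congr 1; group
          _ = _ := h2
          _ = ((a : Zs F W) : MonoidAlgebra F S).coeff
              ((k.right : S)⁻¹ * (k.right * w * (k.right : S)⁻¹) * k.right) := h1.symm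
          _ = _ := by congr 1; group⟩
      map_add' := fun a b => Subtype.ext (funext fun w => by simp)
      map_smul' := fun c a => Subtype.ext (funext fun w => by simp) }
  have hΘ : Function.Bijective Θ := by
    constructor
    · intro a b h
      apply Subtype.ext; apply Subtype.ext
      ext z
      by_cases hz : z ∈ W
      · exact congrFun (congrArg Subtype.val h) ⟨z, hz⟩
      · rw [(mem_Zs_iff.1 (a : Zs F W).2).1 z hz, (mem_Zs_iff.1 (b : Zs F W).2).1 z hz]
    · intro f
      set h0 : S → F := fun z => if hz : z ∈ W then (f : W → F) ⟨z, hz⟩ else 0 with hh0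
      set a : MonoidAlgebra F S := MonoidAlgebra.ofCoeff (Finsupp.equivFunOnFinite.symm h0)
      have hcoe : ∀ z, a.coeff z = h0 z := fun z => rfl
      have hinv : ∀ k : W ⋊[φ] Y, ∀ z, h0 (π k * z * (π k)⁻¹) = h0 z := by
        intro k z
        by_cases hz : z ∈ W
        · have hz' : π k * z * (π k)⁻¹ ∈ W := (inferInstance : W.Normal).conj_mem z hz _
          simp only [hh0, dif_pos hz, dif_pos hz']
          rw [← f.2 k ⟨z, hz⟩]
          rfl
        · have hz' : π k * z * (π k)⁻¹ ∉ W := fun h => hz (by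
            simpa [mul_assoc] using (inferInstance : W.Normal).conj_mem _ h (π k)⁻¹)
          simp only [hh0, dif_neg hz, dif_neg hz']
      have hamem : a ∈ Zs F W := mem_Zs_iff.2 ⟨fun z hz => by simp [hcoe, hh0, hz],
        fun w hw z => by
          have h1 := hinv (SemidirectProduct.inl ⟨w, hw⟩) z
          simpa [hcoe, π] using h1⟩
      refine ⟨⟨⟨a, hamem⟩, (hFix _).2 ?_⟩, Subtype.ext (funext fun w => ?_)⟩
      · apply Subtype.ext; ext z
        rw [coeff_zconj]
        have h1 := hinv (SemidirectProduct.inr ⟨x, Subgroup.mem_zpowers x⟩)⁻¹ z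
        simpa [hcoe, π] using h1
      · simp [Θ, hcoe, hh0]
  have horb : Nat.card (MulAction.orbitRel.Quotient Y (Cent F W)) =
      Nat.card (MulAction.orbitRel.Quotient (W ⋊[φ] Y) W) := by
    rw [← finrank_invFun (F := F), ← finrank_invFun (F := F),
      ← (LinearEquiv.ofBijective Λ hΛ).finrank_eq, ← (LinearEquiv.ofBijective Θ hΘ).finrank_eq]
  -- Burnside
  haveI : Fintype (MulAction.orbitRel.Quotient Y (Cent F W)) := Fintype.ofFinite _
  haveI : Fintype (MulAction.orbitRel.Quotient (W ⋊[φ] Y) W) := Fintype.ofFinite _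
  have b1 := MulAction.sum_card_fixedBy_eq_card_orbits_mul_card_group Y (Cent F W)
  have b2 := MulAction.sum_card_fixedBy_eq_card_orbits_mul_card_group (W ⋊[φ] Y) W
  simp only [← Nat.card_eq_fintype_card] at b1 b2
  rw [Nat.card_congr SemidirectProduct.equivProd, Nat.card_prod, ← horb] at b2
  have e1 : ∑ y ∈ Finset.univ.filter (· ∈ Subgroup.zpowers x), Nat.card (MulAction.fixedBy (Cent F W) y) =
      ∑ y : Y, Nat.card (MulAction.fixedBy (Cent F W) y) :=
    Finset.sum_subtype _ (by simp [Y]) _
  have e2 : ∑ y ∈ Finset.univ.filter (· ∈ Subgroup.zpowers x), ∑ v : W, cW W ((v : S) * y) =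
      ∑ k : W ⋊[φ] Y, Nat.card (MulAction.fixedBy W k) := by
    rw [Finset.sum_subtype (Finset.univ.filter (· ∈ Subgroup.zpowers x)) (p := (· ∈ Y)) (by simp [Y])
      (fun y => ∑ v : W, cW W ((v : S) * y)),
      ← (SemidirectProduct.equivProd (φ := φ)).symm.sum_comp
        (fun k : W ⋊[φ] Y => Nat.card (MulAction.fixedBy W k)),
      Fintype.sum_prod_type, Finset.sum_comm]
    refine Finset.sum_congr rfl fun v _ => Finset.sum_congr rfl fun y _ => ?_
    refine Nat.card_congr (Equiv.subtypeEquivRight fun w => ?_)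
    show _ ↔ MulAut.conjNormal ((v : S) * y) w = w
    rw [Subtype.ext_iff, MulAut.conjNormal_apply, mul_inv_eq_iff_eq_mul]
  rw [e2, b2, e1, b1]
  simp only [MulAction.orbitRel.Quotient, Nat.card_eq_fintype_card]
  ring

/-- An element whose coset of `W` consists of conjugates fixes as many characters as classes. -/
theorem card_fixedBy_eq [IsAlgClosed F] (hF : (Nat.card S : F) ≠ 0) {W : Subgroup S} [W.Normal]
    {p : ℕ} [hp : Fact p.Prime] (hS : IsPGroup p S) {g : S} (hg1 : g ≠ 1)
    (hc : ∀ y : S, Subgroup.zpowers y = Subgroup.zpowers g → ∀ v ∈ W,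
      ∃ x : S, x * y * x⁻¹ = v * y) :
    Nat.card (MulAction.fixedBy (Cent F W) g) = cW W g := by
  classical
  haveI := Fintype.ofFinite S
  have key := sum_fixed_eq (F := F) hF (W := W)
  have h1 := key g
  have h2 := key (g ^ p)
  set A := Finset.univ.filter (· ∈ Subgroup.zpowers g) with hA
  set B := Finset.univ.filter (· ∈ Subgroup.zpowers (g ^ p)) with hB
  have hBA : B ⊆ A := fun y hy => by
    simp only [hB, hA, Finset.mem_filter, Finset.mem_univ, true_and] at hy ⊢
    exact Subgroup.zpowers_le.2 (pow_mem (Subgroup.mem_zpowers g) p) hy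
  rw [← Finset.sum_sdiff hBA, ← Finset.sum_sdiff hBA, h2, mul_add] at h1
  have h3 := Nat.add_right_cancel h1
  have hgen : ∀ y ∈ A \ B, Subgroup.zpowers y = Subgroup.zpowers g := by
    intro y hy
    simp only [hA, hB, Finset.mem_sdiff, Finset.mem_filter, Finset.mem_univ, true_and] at hy
    obtain ⟨k, rfl⟩ := (mem_powers_iff_mem_zpowers).2 hy.1
    refine le_antisymm (Subgroup.zpowers_le.2 (pow_mem (Subgroup.mem_zpowers g) k)) ?_
    rw [Subgroup.zpowers_le, ← mem_powers_iff_mem_zpowers]
    obtain ⟨i, hi⟩ := IsPGroup.iff_orderOf.1 hS g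
    have hk : k.Coprime (orderOf g) := by
      rw [hi]
      refine Nat.Coprime.pow_right _ (Nat.Coprime.symm ((Nat.Prime.coprime_iff_not_dvd hp.out).2 ?_))
      rintro ⟨d, rfl⟩
      exact hy.2 (by show g ^ (p * d) ∈ _; rw [pow_mul]; exact pow_mem (Subgroup.mem_zpowers _) d)
    obtain ⟨m, hm⟩ := exists_pow_eq_self_of_coprime hk
    exact ⟨m, hm⟩
  have hfix : ∀ y ∈ A \ B, Nat.card (MulAction.fixedBy (Cent F W) y) =
      Nat.card (MulAction.fixedBy (Cent F W) g) := by
    intro y hy
    refine Nat.card_congr (Equiv.setCongr (Set.ext fun ω => ?_))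
    have h := hgen y hy
    simp only [MulAction.mem_fixedBy, ← MulAction.mem_stabilizer_iff]
    rw [← Subgroup.zpowers_le, h, Subgroup.zpowers_le]
  have hcw : ∀ y ∈ A \ B, ∀ v : W, cW W ((v : S) * y) = cW W g := by
    intro y hy v
    obtain ⟨x, hx⟩ := hc y (hgen y hy) v v.2
    rw [← hx, cW_conj, cW_eq_of_zpowers_eq (hgen y hy)]
  rw [Finset.sum_congr rfl hfix, Finset.sum_congr rfl (fun y hy => Finset.sum_congr rfl
    (fun v _ => hcw y hy v)), Finset.sum_const, Finset.sum_const, Finset.sum_const,
    Finset.card_univ, ← Nat.card_eq_fintype_card, smul_eq_mul, smul_eq_mul, smul_eq_mul] at h3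
  have hne : (A \ B).card ≠ 0 := by
    rw [Finset.card_ne_zero]
    refine ⟨g, ?_⟩
    simp only [hA, hB, Finset.mem_sdiff, Finset.mem_filter, Finset.mem_univ, true_and]
    refine ⟨Subgroup.mem_zpowers g, fun h => ?_⟩
    have h4 := Subgroup.card_dvd_of_le (Subgroup.zpowers_le.2 h :
      Subgroup.zpowers g ≤ Subgroup.zpowers (g ^ p))
    rw [Nat.card_zpowers, Nat.card_zpowers] at h4
    obtain ⟨i, hi⟩ := IsPGroup.iff_orderOf.1 hS g
    have hi0 : i ≠ 0 := fun e => hg1 (orderOf_eq_one_iff.1 (by rw [hi, e, pow_zero]))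
    rw [orderOf_pow_of_dvd hp.out.ne_zero (hi ▸ dvd_pow_self p hi0)] at h4
    exact absurd (Nat.le_of_dvd (Nat.div_pos (Nat.le_of_dvd (orderOf_pos g)
      (hi ▸ dvd_pow_self p hi0)) hp.out.pos) h4)
      (not_le.2 (Nat.div_lt_self (orderOf_pos g) hp.out.one_lt))
  have hW : 0 < Nat.card W := Nat.card_pos
  refine Nat.eq_of_mul_eq_mul_left (Nat.pos_of_ne_zero hne) (Nat.eq_of_mul_eq_mul_left hW ?_)
  linarith

/-! ### Passing to a subgroup of index `p` -/

/-- Restricting an element of the group algebra to a coset of `W'`. -/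
noncomputable def mask (W' : Subgroup S) [W'.Normal] (q : S ⧸ W') (a : MonoidAlgebra F S) :
    MonoidAlgebra F S :=
  haveI : DecidablePred fun x : S => QuotientGroup.mk' W' x = q := Classical.decPred _
  ofCoeff (a.coeff.filter fun x => QuotientGroup.mk' W' x = q)

theorem coeff_mask_of_eq (W' : Subgroup S) [W'.Normal] {q : S ⧸ W'} (a : MonoidAlgebra F S) {x : S}
    (h : QuotientGroup.mk' W' x = q) : (mask W' q a).coeff x = a.coeff x := by
  classical
  unfold mask
  rw [MonoidAlgebra.coeff_ofCoeff]
  convert Finsupp.filter_apply_pos (p := fun x : S => QuotientGroup.mk' W' x = q) (f := a.coeff) h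

theorem coeff_mask_of_ne (W' : Subgroup S) [W'.Normal] {q : S ⧸ W'} (a : MonoidAlgebra F S) {x : S}
    (h : QuotientGroup.mk' W' x ≠ q) : (mask W' q a).coeff x = 0 := by
  classical
  unfold mask
  rw [MonoidAlgebra.coeff_ofCoeff]
  convert Finsupp.filter_apply_neg (p := fun x : S => QuotientGroup.mk' W' x = q) (f := a.coeff) h

/-- `a` lives on the coset `q` of `W'`. -/
def LivesOn (W' : Subgroup S) [W'.Normal] (q : S ⧸ W') (a : MonoidAlgebra F S) : Prop :=
  ∀ x, a.coeff x ≠ 0 → QuotientGroup.mk' W' x = q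

theorem LivesOn.mul {W' : Subgroup S} [W'.Normal] {q r : S ⧸ W'} {a b : MonoidAlgebra F S}
    (ha : LivesOn W' q a) (hb : LivesOn W' r b) : LivesOn W' (q * r) (a * b) := by
  intro x hx
  rw [coeff_mul_apply_left] at hx
  obtain ⟨y, hy, hy'⟩ := Finset.exists_ne_zero_of_sum_ne_zero hx
  have h1 := ha y (Finsupp.mem_support_iff.1 hy)
  have h2 := hb _ (right_ne_zero_of_mul hy')
  rw [← h1, ← h2, ← map_mul, mul_inv_cancel_left]

theorem LivesOn.one (W' : Subgroup S) [W'.Normal] :
    LivesOn W' 1 (1 : MonoidAlgebra F S) := by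
  classical
  intro x hx
  rw [MonoidAlgebra.one_def, coeff_single_apply] at hx
  by_cases h : (1 : S) = x
  · rw [← h, map_one]
  · rw [if_neg h] at hx; exact absurd rfl hx

theorem LivesOn.pow {W' : Subgroup S} [W'.Normal] {q : S ⧸ W'} {a : MonoidAlgebra F S}
    (ha : LivesOn W' q a) (n : ℕ) : LivesOn W' (q ^ n) (a ^ n) := by
  induction n with
  | zero => rw [pow_zero, pow_zero]; exact LivesOn.one W'
  | succ n ih => rw [pow_succ, pow_succ]; exact ih.mul ha

/-- Over a subgroup of index `p`, at most `p` characters lie above a given one. -/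
theorem exists_above [IsAlgClosed F] (hF : (Nat.card S : F) ≠ 0) {p : ℕ} [hp : Fact p.Prime]
    {W W' : Subgroup S} [W.Normal] [W'.Normal] (hle : W' ≤ W) (hidx : W'.relIndex W = p)
    (ω : Cent F W) :
    ∃ ω' : Cent F W', ∃ X : Set (Cent F W), ω ∈ X ∧ Nat.card X ≤ p ∧
      ∀ t : S, t • ω' = ω' → ∀ ψ ∈ X, t • ψ ∈ X := by
  classical
  haveI := Fintype.ofFinite (Cent F W')
  haveI := Fintype.ofFinite S
  -- orbit idempotents
  let f : Cent F W' → Zs F W' := fun ω' =>
    ∑ ψ ∈ Finset.univ.filter (fun ψ => ∃ w ∈ W, w • ω' = ψ), idem ψ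
  have hf : ∀ ω' ψ : Cent F W', ψ (f ω') = if ∃ w ∈ W, w • ω' = ψ then 1 else 0 := by
    intro ω' ψ
    rw [map_sum]
    by_cases h : ∃ w ∈ W, w • ω' = ψ
    · rw [if_pos h, Finset.sum_eq_single ψ]
      · exact apply_idem_self ψ
      · exact fun φ _ hφ => apply_idem_of_ne (Ne.symm hφ)
      · exact fun hn => absurd (Finset.mem_filter.2 ⟨Finset.mem_univ ψ, h⟩) hn
    · rw [if_neg h]
      refine Finset.sum_eq_zero fun φ hφ => apply_idem_of_ne fun e => h ?_
      rw [e]; exact (Finset.mem_filter.1 hφ).2
  have hfconj : ∀ ω' : Cent F W', ∀ t : S, (∀ ψ, (∃ w ∈ W, w • ω' = ψ) →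
      ∃ w ∈ W, w • ω' = t • ψ) → zconj t⁻¹ (f ω') = f ω' := by
    intro ω' t ht
    refine ext_cent hF fun ψ => ?_
    rw [← smul_apply, hf, hf]
    by_cases h : ∃ w ∈ W, w • ω' = ψ
    · rw [if_pos h, if_pos (ht ψ h)]
    · rw [if_neg h, if_neg]
      rintro h'
      apply h
      -- the map is injective on a finite orbit, hence onto
      let O : Finset (Cent F W') := Finset.univ.filter (fun ψ => ∃ w ∈ W, w • ω' = ψ)
      have himg : O.image (t • ·) = O := by
        refine Finset.eq_of_subset_of_card_le ?_ ?_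
        · intro φ hφ
          obtain ⟨χ, hχ, rfl⟩ := Finset.mem_image.1 hφ
          exact Finset.mem_filter.2 ⟨Finset.mem_univ _, ht χ (Finset.mem_filter.1 hχ).2⟩
        · rw [Finset.card_image_of_injective _ (MulAction.injective t)]
      have h1 : t • ψ ∈ O.image (t • ·) := by
        rw [himg]; exact Finset.mem_filter.2 ⟨Finset.mem_univ _, h'⟩
      obtain ⟨χ, hχ, hχ'⟩ := Finset.mem_image.1 h1
      rw [← MulAction.injective t hχ']
      exact (Finset.mem_filter.1 hχ).2
  have hW'W : ∀ x, x ∉ W → x ∉ W' := fun x hx h => hx (hle h)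
  have hfmem : ∀ ω' : Cent F W', ((f ω' : Zs F W') : MonoidAlgebra F S) ∈ Zs F W := by
    intro ω'
    rw [mem_Zs_iff]
    refine ⟨fun x hx => (mem_Zs_iff.1 (f ω').2).1 x (hW'W x hx), fun w hw x => ?_⟩
    have h := hfconj ω' w (fun ψ ⟨v, hv, e⟩ => ⟨w * v, mul_mem hw hv, by rw [mul_smul, e]⟩)
    conv_rhs => rw [← h]
    rw [coeff_zconj, inv_inv]
  let f' : Cent F W' → Zs F W := fun ω' => ⟨_, hfmem ω'⟩
  -- some orbit idempotent is not killed
  obtain ⟨ω', hω'⟩ : ∃ ω', ω (f' ω') ≠ 0 := by
    by_contra hc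
    push Not at hc
    have h1 : (∏ ω' : Cent F W', (1 - f ω')) = 0 := by
      refine ext_cent hF fun ψ => ?_
      rw [map_zero, map_prod]
      refine Finset.prod_eq_zero (Finset.mem_univ ψ) ?_
      rw [map_sub, map_one, hf, if_pos ⟨1, one_mem _, one_smul S ψ⟩, sub_self]
    have h2 : ∀ s : Finset (Cent F W'), ((∏ ω' ∈ s, (1 - f' ω') : Zs F W) : MonoidAlgebra F S) =
        ((∏ ω' ∈ s, (1 - f ω') : Zs F W') : MonoidAlgebra F S) := by
      intro s
      induction s using Finset.induction with
      | empty => simp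
      | insert a s ha ih =>
        rw [Finset.prod_insert ha, Finset.prod_insert ha, Subalgebra.coe_mul, Subalgebra.coe_mul,
          ih]
        rfl
    have h3 : (∏ ω' : Cent F W', (1 - f' ω') : Zs F W) = 0 := Subtype.ext (by rw [h2, h1]; rfl)
    have h4 := congrArg ω h3
    rw [map_prod, map_zero] at h4
    simp only [map_sub, map_one, hc, sub_zero, Finset.prod_const_one] at h4
    exact one_ne_zero h4
  set e := f' ω' with he
  have hee : e * e = e := by
    have : f ω' * f ω' = f ω' := ext_cent hF fun ψ => by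
      rw [map_mul, hf]; split_ifs <;> simp
    exact Subtype.ext (congrArg Subtype.val this :)
  set X : Set (Cent F W) := {ψ | ψ e = 1} with hX
  refine ⟨ω', X, ?_, ?_, ?_⟩
  · have h1 : ω e * ω e = ω e := by rw [← map_mul, hee]
    have h2 := mul_right_cancel₀ hω' (h1.trans (one_mul _).symm)
    exact h2
  · -- the part of the centre under `e` is spanned by one element for each coset
    have heW' : LivesOn W' 1 (e : MonoidAlgebra F S) := fun x hx => by
      have : x ∈ W' := by
        by_contra hn; exact hx ((mem_Zs_iff.1 (f ω').2).1 x hn)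
      exact (QuotientGroup.eq_one_iff x).2 this
    set Q := (Subgroup.map (QuotientGroup.mk' W') W) with hQ
    have hQcard : Nat.card Q = p := by
      rw [hQ, ← Subgroup.relIndex_ker, QuotientGroup.ker_mk', hidx]
    haveI : IsCyclic Q := isCyclic_of_prime_card hQcard
    have hcomm : ∀ w ∈ W, ∀ x ∈ W,
        QuotientGroup.mk' W' (w * x * w⁻¹) = QuotientGroup.mk' W' x := by
      intro w hw x hx
      have h1 : (⟨_, Subgroup.mem_map_of_mem _ hw⟩ * ⟨_, Subgroup.mem_map_of_mem _ hx⟩ : Q) =
          ⟨_, Subgroup.mem_map_of_mem _ hx⟩ * ⟨_, Subgroup.mem_map_of_mem _ hw⟩ :=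
        (IsCyclic.commGroup (α := Q)).mul_comm _ _
      have h2 : QuotientGroup.mk' W' w * QuotientGroup.mk' W' x =
          QuotientGroup.mk' W' x * QuotientGroup.mk' W' w := congrArg Subtype.val h1
      rw [map_mul, map_mul, map_inv, h2, mul_inv_cancel_right]
    have hmaskmem : ∀ (q : S ⧸ W') (a : Zs F W), mask W' q (a : MonoidAlgebra F S) ∈ Zs F W := by
      intro q a
      rw [mem_Zs_iff]
      refine ⟨fun x hx => ?_, fun w hw x => ?_⟩
      · by_cases h : QuotientGroup.mk' W' x = q
        · rw [coeff_mask_of_eq W' _ h]; exact (mem_Zs_iff.1 a.2).1 x hx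
        · rw [coeff_mask_of_ne W' _ h]
      · by_cases hx : x ∈ W
        · have h1 := hcomm w hw x hx
          by_cases h : QuotientGroup.mk' W' x = q
          · rw [coeff_mask_of_eq W' _ h, coeff_mask_of_eq W' _ (h1.trans h)]
            exact (mem_Zs_iff.1 a.2).2 w hw x
          · rw [coeff_mask_of_ne W' _ h, coeff_mask_of_ne W' _ (h1 ▸ h)]
        · have hx' : w * x * w⁻¹ ∉ W := fun h => hx (by
            simpa [mul_assoc] using mul_mem (mul_mem (inv_mem hw) h) hw)
          have z1 := (mem_Zs_iff.1 a.2).1 x hx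
          have z2 := (mem_Zs_iff.1 a.2).1 _ hx'
          by_cases h : QuotientGroup.mk' W' x = q <;>
            by_cases h' : QuotientGroup.mk' W' (w * x * w⁻¹) = q <;>
            simp only [coeff_mask_of_eq W' (a : MonoidAlgebra F S), coeff_mask_of_ne W' (a : MonoidAlgebra F S),
              h, h', z1, z2, ne_eq, not_false_eq_true, not_true_eq_false]
    -- in degree `1` everything is a multiple of `e`
    have hzero : ∀ a : Zs F W, LivesOn W' 1 (a : MonoidAlgebra F S) →
        ∃ c : F, e * a = c • e := by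
      intro a ha
      have ha' : (a : MonoidAlgebra F S) ∈ Zs F W' := by
        rw [mem_Zs_iff]
        refine ⟨fun x hx => ?_, fun w hw x => (mem_Zs_iff.1 a.2).2 w (hle hw) x⟩
        by_contra h
        exact hx ((QuotientGroup.eq_one_iff x).1 (ha x h))
      refine ⟨ω' ⟨_, ha'⟩, ?_⟩
      have h : f ω' * ⟨_, ha'⟩ = ω' ⟨_, ha'⟩ • f ω' := by
        refine ext_cent hF fun ψ => ?_
        rw [map_mul, map_smul, hf, smul_eq_mul]
        split_ifs with h
        · obtain ⟨w, hw, rfl⟩ := h
          rw [one_mul, mul_one, smul_apply]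
          congr 1
          apply Subtype.ext
          ext x
          rw [coeff_zconj, inv_inv]
          exact (mem_Zs_iff.1 a.2).2 w hw x
        · simp
      exact Subtype.ext (congrArg Subtype.val h :)
    have hqp : ∀ q : Q, (q : S ⧸ W') ^ p = 1 := fun q => by
      have h := pow_card_eq_one' (G := Q) (x := q)
      rw [hQcard] at h
      exact congrArg Subtype.val h
    -- a generator of each piece
    have hgen : ∀ q : Q, ∃ b : Zs F W, ∀ a : Zs F W, LivesOn W' (q : S ⧸ W') (a : MonoidAlgebra F S) →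
        ∃ c : F, e * a = c • b := by
      intro q
      by_cases hb : ∃ a : Zs F W, LivesOn W' (q : S ⧸ W') (a : MonoidAlgebra F S) ∧ e * a ≠ 0
      swap
      · push Not at hb
        exact ⟨0, fun a ha => ⟨0, by rw [hb a ha, zero_smul]⟩⟩
      obtain ⟨b, hb, hb0⟩ := hb
      refine ⟨e * b, fun a ha => ?_⟩
      have hbp : LivesOn W' 1 ((b ^ p : Zs F W) : MonoidAlgebra F S) := by
        have h := hb.pow p
        rw [hqp q] at h
        simpa using h
      have hba : LivesOn W' 1 ((b ^ (p - 1) * a : Zs F W) : MonoidAlgebra F S) := by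
        have h := (hb.pow (p - 1)).mul ha
        rw [← pow_succ, Nat.sub_add_cancel hp.out.one_le, hqp q] at h
        simpa using h
      obtain ⟨α, hα⟩ := hzero _ hbp
      obtain ⟨β, hβ⟩ := hzero _ hba
      have hα0 : α ≠ 0 := by
        rintro rfl
        apply hb0
        refine eq_zero_of_isNilpotent hF ⟨p, ?_⟩
        have hep : e ^ p = e := IsIdempotentElem.pow_eq (h := hee) hp.out.ne_zero
        rw [mul_pow, hep, hα, zero_smul]
      refine ⟨α⁻¹ * β, ?_⟩
      have h1 : α • (e * a) = β • (e * b) := by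
        calc α • (e * a) = (α • e) * a := (smul_mul_assoc α e a).symm
          _ = (e * b ^ p) * a := by rw [hα]
          _ = b * (e * (b ^ (p - 1) * a)) := by
              rw [← Nat.sub_add_cancel hp.out.one_le, pow_succ, Nat.add_sub_cancel]; ring
          _ = b * (β • e) := by rw [hβ]
          _ = β • (e * b) := by rw [mul_smul_comm, mul_comm b e]
      rw [mul_smul, ← h1, inv_smul_smul₀ hα0]
    choose b hb using hgen
    haveI := Fintype.ofFinite Q
    set P : Submodule F (Zs F W) := Submodule.span F (Set.range b)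
    have hP : ∀ a : Zs F W, e * a ∈ P := by
      intro a
      have hsum : a = ∑ q : Q, ⟨mask W' (q : S ⧸ W') (a : MonoidAlgebra F S), hmaskmem _ a⟩ := by
        apply Subtype.ext
        rw [AddSubmonoidClass.coe_finsetSum]
        ext x
        rw [coeff_sum, Finsupp.finsetSum_apply]
        by_cases hx : x ∈ W
        · rw [Finset.sum_eq_single ⟨_, Subgroup.mem_map_of_mem _ hx⟩]
          · exact (coeff_mask_of_eq W' _ rfl).symm
          · intro q _ hq
            exact coeff_mask_of_ne W' _ fun h => hq (Subtype.ext h.symm)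
          · exact fun h => absurd (Finset.mem_univ _) h
        · have z := (mem_Zs_iff.1 a.2).1 x hx
          rw [z]
          refine (Finset.sum_eq_zero fun q _ => ?_).symm
          by_cases h : QuotientGroup.mk' W' x = q
          · exact (coeff_mask_of_eq W' _ h).trans z
          · exact coeff_mask_of_ne W' _ h
      rw [hsum, Finset.mul_sum]
      refine Submodule.sum_mem _ fun q _ => ?_
      obtain ⟨c, hc⟩ := hb q ⟨mask W' (q : S ⧸ W') (a : MonoidAlgebra F S), hmaskmem _ a⟩
        (fun x hx => by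
          by_contra h
          exact hx (coeff_mask_of_ne W' _ h))
      rw [hc]
      exact P.smul_mem c (Submodule.subset_span ⟨q, rfl⟩)
    haveI := Fintype.ofFinite X
    let Ev : P →ₗ[F] (X → F) :=
      { toFun := fun a ψ => (ψ : Cent F W) (a : Zs F W)
        map_add' := fun a c => funext fun ψ => map_add (ψ : Cent F W) _ _
        map_smul' := fun r a => funext fun ψ => map_smul (ψ : Cent F W) r _ }
    have hEv : Function.Surjective Ev := by
      intro v
      obtain ⟨a, ha⟩ := exists_apply_eq (F := F) W (fun ψ => if h : ψ ∈ X then v ⟨ψ, h⟩ else 0)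
      refine ⟨⟨e * a, hP a⟩, funext fun ψ => ?_⟩
      show (ψ : Cent F W) (e * a) = v ψ
      rw [map_mul, ψ.2, one_mul, ha, dif_pos ψ.2]
    calc Nat.card X = Module.finrank F (X → F) := by
          rw [Module.finrank_fintype_fun_eq_card, Nat.card_eq_fintype_card]
      _ ≤ Module.finrank F P := LinearMap.finrank_le_finrank_of_surjective hEv
      _ ≤ Fintype.card Q := finrank_range_le_card b
      _ = p := by rw [← Nat.card_eq_fintype_card, hQcard]
  · intro t ht ψ hψ
    show (t • ψ) e = 1
    rw [smul_apply]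
    have h : zconj t⁻¹ e = e := by
      apply Subtype.ext
      refine (congrArg Subtype.val (hfconj ω' t ?_) :)
      rintro φ ⟨w, hw, rfl⟩
      refine ⟨t * w * t⁻¹, (inferInstance : W.Normal).conj_mem w hw t, ?_⟩
      conv_lhs => rw [← ht]
      rw [← mul_smul, ← mul_smul]
      congr 1
      group
    rw [h]
    exact hψ

end CfsgLib.Structure81.CentreChar
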