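import Cfsg.Agent.Lib.Structure81.CoprimeTopClasses

/-!
# Class sizes `1, n, m, n m` with `n`, `m` coprime: the two middle layers commute

If the class sizes are `1, n, m, n * m` with `n, m > 1` coprime, then every element with class size
`n` commutes with every element with class size `m`.
-/

set_option autoImplicit false
set_option linter.style.haveILetI false

namespace CfsgLib.Structure81.CoprimeClass

open Subgroup

variable {G : Type*} [Group G]

/-- The class sizes are `1, n, m, n * m`. -/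
structure Four (G : Type*) [Group G] (n m : ℕ) : Prop where
  hn : 1 < n
  hm : 1 < m
  cop : n.Coprime m
  sizes : ∀ g : G, idx g = 1 ∨ idx g = n ∨ idx g = m ∨ idx g = n * m
  exn : ∃ g : G, idx g = n
  exm : ∃ g : G, idx g = m
  exnm : ∃ g : G, idx g = n * m

theorem Four.symm {n m : ℕ} (h : Four G n m) : Four G m n :=
  ⟨h.hm, h.hn, h.cop.symm, fun g => by
    rcases h.sizes g with h1 | h1 | h1 | h1
    · exact Or.inl h1
    · exact Or.inr (Or.inr (Or.inl h1))
    · exact Or.inr (Or.inl h1)
    · exact Or.inr (Or.inr (Or.inr (by rw [h1, mul_comm]))), h.exm, h.exn,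
    h.exnm.imp fun _ h1 => by rw [h1, mul_comm]⟩

variable [Finite G]

theorem relIndex_dvd_index_of_normal_right (N : Subgroup G) [N.Normal] (H : Subgroup G) :
    H.relIndex N ∣ H.index := by
  have h1 : H.relIndex (H ⊔ N) * (H ⊔ N).index = H.index := relIndex_mul_index le_sup_left
  rw [← h1]
  refine Dvd.dvd.mul_right ?_ _
  have h2 : (N ⊓ H).relIndex N * N.relIndex (H ⊔ N) = (N ⊓ H).relIndex (H ⊔ N) :=
    relIndex_mul_relIndex _ _ _ inf_le_left le_sup_right
  have h3 : (N ⊓ H).relIndex H * H.relIndex (H ⊔ N) = (N ⊓ H).relIndex (H ⊔ N) :=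
    relIndex_mul_relIndex _ _ _ inf_le_right le_sup_left
  rw [← h3, inf_relIndex_left, inf_relIndex_right, relIndex_sup_right, mul_comm] at h2
  exact (Nat.eq_of_mul_eq_mul_left (Nat.pos_of_ne_zero
    (index_ne_zero_of_finite : (N.subgroupOf H).index ≠ 0)) h2) ▸ dvd_refl _

theorem coprime_orderOf_of_primes {a b : G} {p q i j : ℕ} (hp : p.Prime) (hq : q.Prime)
    (hpq : p ≠ q) (ha : a ^ p ^ i = 1) (hb : b ^ q ^ j = 1) :
    (orderOf a).Coprime (orderOf b) :=
  coprime_orderOf hp ha fun hd => hpq ((Nat.prime_dvd_prime_iff_eq hp hq).1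
    (hp.dvd_of_dvd_pow (hd.trans (orderOf_dvd_of_pow_eq_one hb))))

/-- Conjugates of a commuting pair of coprime class sizes commute. -/
theorem commute_all {u v : G} (hcop : (idx u).Coprime (idx v)) (hc : Commute u v) (g g' : G) :
    Commute (g * u * g⁻¹) (g' * v * g'⁻¹) := by
  obtain ⟨t, h1, h2⟩ := exists_simul hcop (⟨g, rfl⟩ : g * u * g⁻¹ ∈ clas u)
    (⟨g', rfl⟩ : g' * v * g'⁻¹ ∈ clas v)
  rw [← h1, ← h2]
  exact hc.map (MulAut.conj t).toMonoidHom

/-- If `comSub u` centralizes `u` then the class of `u` generates an abelian normal subgroup. -/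
theorem clas_closure_of_le_cen {u : G} (hL : comSub u ≤ cen u) :
    (closure (clas u)).Normal ∧ IsMulCommutative (closure (clas u)) ∧
      ∀ a ∈ closure (clas u), a ^ orderOf u = 1 := by
  have hL' : ∀ g g' : G, Commute (g * u * g⁻¹) (g' * u * g'⁻¹) := by
    intro g g'
    have h1 : Commute u (u⁻¹ * ((g⁻¹ * g') * u * (g⁻¹ * g')⁻¹)) :=
      (mem_cen.1 (hL (mem_comSub u (g⁻¹ * g')))).symm
    have h2 : Commute u ((g⁻¹ * g') * u * (g⁻¹ * g')⁻¹) := by
      have := (Commute.refl u).mul_right h1
      rwa [mul_inv_cancel_left] at this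
    have h3 := (h2.map (MulAut.conj g).toMonoidHom)
    simpa [mul_assoc] using h3
  haveI hcomm : IsMulCommutative (closure (clas u)) := isMulCommutative_closure (by
    rintro _ ⟨g, rfl⟩ _ ⟨g', rfl⟩
    exact (hL' g g').eq)
  refine ⟨⟨fun a ha h => ?_⟩, hcomm, fun a ha => ?_⟩
  · have : closure (clas u) ≤ (closure (clas u)).comap (MulAut.conj h).toMonoidHom := by
      rw [closure_le]
      rintro _ ⟨g, rfl⟩
      exact subset_closure ⟨h * g, by simp [mul_assoc]⟩
    exact this ha
  · induction ha using closure_induction with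
    | mem b hb =>
      obtain ⟨g, rfl⟩ := hb
      exact conj_pow_eq_one (pow_orderOf_eq_one u)
    | one => simp
    | mul a b ha hb iha ihb =>
      have : Commute a b :=
        congrArg Subtype.val (mul_comm' (⟨a, ha⟩ : closure (clas u)) ⟨b, hb⟩)
      rw [this.mul_pow, iha, ihb, one_mul]
    | inv a ha iha => rw [inv_pow, iha, inv_one]

/-- The coprime decomposition of an abelian normal subgroup, with explicit commutators. -/
theorem exists_split' (A : Subgroup G) [A.Normal] [IsMulCommutative A] {z : G} {N e : ℕ}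
    (hz : z ^ N = 1) (hA : ∀ a ∈ A, a ^ e = 1) (hNe : N.Coprime e) :
    (∀ x ∈ A, ∃ a ∈ A, ∃ b ∈ A, Commute a z ∧ x = a * (b⁻¹ * (z * b * z⁻¹))) ∧
      ∀ b ∈ A, Commute (b⁻¹ * (z * b * z⁻¹)) z → b⁻¹ * (z * b * z⁻¹) = 1 := by
  letI : CommGroup A := { (inferInstance : Group A) with mul_comm := fun a b => mul_comm' a b }
  let φ : A →* A := MonoidHom.mk' (fun a => a⁻¹ * MulAut.conjNormal z a) fun a b => by
    rw [map_mul, mul_inv, mul_mul_mul_comm]
  have hφ : ∀ a : A, ((φ a : A) : G) = (a : G)⁻¹ * (z * a * z⁻¹) := fun a => by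
    simp [φ, MulAut.conjNormal_apply]
  have hinter : ∀ b : A, Commute ((φ b : A) : G) z → φ b = 1 := by
    intro b hcz
    set c := φ b
    have hb : z * b * z⁻¹ = (b : G) * c := by rw [hφ]; group
    have hiter : ∀ i : ℕ, z ^ i * b * (z ^ i)⁻¹ = (b : G) * (c : G) ^ i := by
      intro i
      induction i with
      | zero => simp
      | succ i ih =>
        calc z ^ (i + 1) * b * (z ^ (i + 1))⁻¹ = z * (z ^ i * b * (z ^ i)⁻¹) * z⁻¹ := by
              rw [pow_succ']; group
          _ = (z * b * z⁻¹) * (z * (c : G) ^ i * z⁻¹) := by rw [ih]; group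
          _ = (b : G) * c * (c : G) ^ i := by rw [hb, ← (hcz.pow_left i).eq]; group
          _ = (b : G) * (c : G) ^ (i + 1) := by rw [pow_succ', mul_assoc]
    have h1 := hiter N
    rw [hz, one_mul, inv_one, mul_one, left_eq_mul] at h1
    refine Subtype.ext ?_
    exact orderOf_eq_one_iff.1 (Nat.eq_one_of_dvd_coprimes hNe (orderOf_dvd_of_pow_eq_one h1)
      (orderOf_dvd_of_pow_eq_one (hA _ c.2)))
  have hker : ∀ a : A, φ a = 1 ↔ Commute (a : G) z := by
    intro a
    rw [Subtype.ext_iff, hφ, OneMemClass.coe_one, inv_mul_eq_one, eq_mul_inv_iff_mul_eq]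
    exact Iff.rfl
  refine ⟨fun x hx => ?_, fun b hb hc => ?_⟩
  · let f : φ.ker × φ.range → A := fun p => (p.1 : A) * (p.2 : A)
    have hinj : Function.Injective f := by
      rintro ⟨⟨k1, hk1⟩, ⟨_, b1, rfl⟩⟩ ⟨⟨k2, hk2⟩, ⟨_, b2, rfl⟩⟩ h
      simp only [f] at h
      have h1 := congrArg φ h
      rw [map_mul, map_mul, MonoidHom.mem_ker.1 hk1, MonoidHom.mem_ker.1 hk2, one_mul, one_mul] at h1
      have h2 : φ (φ (b1 * b2⁻¹)) = 1 := by
        rw [map_mul, map_inv, map_mul, map_inv, h1, mul_inv_cancel]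
      have h3 := hinter _ ((hker _).1 h2)
      rw [map_mul, map_inv, mul_inv_eq_one] at h3
      have h4 : k1 = k2 := by rwa [h3, mul_left_inj] at h
      subst h4
      simp [h3]
    obtain ⟨⟨k, ⟨_, b, rfl⟩⟩, hkw⟩ := (hinj.bijective_of_nat_card_le (by
      rw [Nat.card_prod, mul_comm]
      have := φ.ker.card_mul_index
      rw [index_ker] at this
      exact le_of_eq (by rw [mul_comm] at this; exact this.symm))).2 ⟨x, hx⟩
    refine ⟨_, (k : A).2, _, b.2, (hker k).1 (MonoidHom.mem_ker.1 k.2), ?_⟩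
    rw [← hφ]
    exact congrArg Subtype.val hkw.symm
  · have := hinter ⟨b, hb⟩ (by rw [hφ]; exact hc)
    rw [← hφ ⟨b, hb⟩, this]
    rfl

variable {n m : ℕ}

namespace Four

theorem not_central (h : Four G n m) {g : G} (hg : idx g = n) : g ∉ center G := fun hc => by
  rw [← idx_eq_one_iff, hg] at hc; have := h.hn; omega

theorem not_dvd (h : Four G n m) : ¬ m ∣ n := fun hd =>
  h.hm.ne' (Nat.eq_one_of_dvd_coprimes h.cop hd dvd_rfl)

theorem eq_nm_of_dvd (h : Four G n m) {g : G} (hn : n ∣ idx g) (hm : m ∣ idx g) :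
    idx g = n * m := by
  rcases h.sizes g with h1 | h1 | h1 | h1
  · rw [h1] at hn; exact absurd (Nat.dvd_one.1 hn) h.hn.ne'
  · rw [h1] at hm; exact absurd hm h.not_dvd
  · rw [h1] at hn; exact absurd hn h.symm.not_dvd
  · exact h1

theorem eq_or_nm_of_dvd (h : Four G n m) {g : G} (hn : n ∣ idx g) : idx g = n ∨ idx g = n * m := by
  rcases h.sizes g with h1 | h1 | h1 | h1
  · rw [h1] at hn; exact absurd (Nat.dvd_one.1 hn) h.hn.ne'
  · exact Or.inl h1
  · rw [h1] at hn; exact absurd hn h.symm.not_dvd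
  · exact Or.inr h1

theorem eq_one_or_of_dvd (h : Four G n m) {g : G} (hn : idx g ∣ n) : idx g = 1 ∨ idx g = n := by
  rcases h.sizes g with h1 | h1 | h1 | h1
  · exact Or.inl h1
  · exact Or.inr h1
  · rw [h1] at hn; exact absurd hn h.not_dvd
  · rw [h1] at hn; exact absurd ((dvd_mul_left m n).trans hn) h.not_dvd

/-- An element of class size `n` has a part of prime power order with the same centralizer. -/
theorem exists_part (h : Four G n m) {g : G} (hg : idx g = n) :
    ∃ e p k : ℕ, p.Prime ∧ orderOf (g ^ e) = p ^ k ∧ idx (g ^ e) = n ∧ cen (g ^ e) = cen g := by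
  by_contra hno
  push Not at hno
  apply h.not_central hg
  refine mem_of_parts fun e p k hp hpk => ?_
  by_contra hc
  rcases h.eq_one_or_of_dvd (hg ▸ idx_pow_dvd g e) with h1 | h1
  · exact hc (idx_eq_one_iff.1 h1)
  · exact hno e p k hp hpk h1 (eq_of_le_of_index_le (cen_le_cen_pow g e) (hg.trans h1.symm).le).symm

/-- A maximal element centralizes whatever coprime element commutes with it. -/
theorem cen_le_of_nm (h : Four G n m) {a b : G} (hab : Commute a b)
    (hcop : (orderOf a).Coprime (orderOf b)) (ha : idx a = n * m) : cen a ≤ cen b := by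
  have hmul := cen_mul hab hcop
  have h1 : idx a ∣ idx (a * b) := index_dvd_of_le (hmul ▸ inf_le_left)
  have h2 : idx (a * b) = n * m := by
    rw [ha] at h1
    exact h.eq_nm_of_dvd ((dvd_mul_right n m).trans h1) ((dvd_mul_left m n).trans h1)
  have h3 : cen a ⊓ cen b = cen a := by
    refine eq_of_le_of_index_le inf_le_left ?_
    rw [← hmul]
    exact (h2.trans ha.symm).le
  exact h3 ▸ inf_le_right

end Four

/-- A noncommuting pair of prime power elements of class sizes `n` and `m`. -/
structure Bad (n m : ℕ) (u v : G) (p q : ℕ) : Prop where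
  hp : p.Prime
  hq : q.Prime
  hu : idx u = n
  hv : idx v = m
  hup : ∃ j : ℕ, u ^ p ^ j = 1
  hvq : ∃ i : ℕ, v ^ q ^ i = 1
  hnc : ¬ Commute u v

namespace Bad

variable {u v : G} {p q : ℕ}

theorem conj_left (b : Bad n m u v p q) (h : Four G n m) (t : G) :
    Bad n m (t * u * t⁻¹) v p q := by
  refine ⟨b.hp, b.hq, (idx_conj u t).trans b.hu, b.hv, ?_, b.hvq, fun hc => b.hnc ?_⟩
  · obtain ⟨j, hj⟩ := b.hup
    exact ⟨j, conj_pow_eq_one hj⟩
  · have h1 := commute_all (by rw [idx_conj, b.hu, b.hv]; exact h.cop) hc t⁻¹ 1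
    simpa [mul_assoc] using h1

theorem mul_eq (b : Bad n m u v p q) (h : Four G n m) (hlt : n < m) : idx (u * v) = m := by
  have hcop : (idx u).Coprime (idx v) := b.hu.symm ▸ b.hv.symm ▸ h.cop
  have h1 := idx_le_idx_mul_right hcop
  rw [b.hv] at h1
  rcases h.sizes (u * v) with h2 | h2 | h2 | h2
  · rw [h2] at h1; have := h.hm; omega
  · rw [h2] at h1; omega
  · exact h2
  · exfalso
    refine b.hnc ?_
    have hle : cen u ⊓ cen v ≤ cen (u * v) := fun g hg =>
      mem_cen.2 ((mem_cen.1 hg.1).mul_right (mem_cen.1 hg.2))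
    have h3 : cen u ⊓ cen v = cen (u * v) := by
      refine eq_of_le_of_index_le hle ?_
      rw [index_inf_eq hcop, show (cen u).index = n from b.hu, show (cen v).index = m from b.hv]
      exact h2.ge
    have h4 : u * v ∈ cen u := (h3.ge (mem_cen.2 (Commute.refl _))).1
    have h5 := (mem_cen.1 h4).eq
    rw [mul_assoc, mul_right_inj] at h5
    exact h5.symm

theorem q_dvd (b : Bad n m u v p q) (h : Four G n m) : q ∣ n := by
  by_contra hqn
  obtain ⟨i, hi⟩ := b.hvq
  obtain ⟨g, hg⟩ := exists_conj_mem (H := cen u) b.hq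
    (by rw [show (cen u).index = n from b.hu]; exact hqn) hi
  apply b.hnc
  have h1 := commute_all (u := u) (v := g * v * g⁻¹) (by rw [idx_conj, b.hu, b.hv]; exact h.cop)
    (mem_cen.1 hg).symm 1 g⁻¹
  simpa [mul_assoc] using h1

theorem p_dvd (b : Bad n m u v p q) (h : Four G n m) : p ∣ m := by
  by_contra hpm
  obtain ⟨j, hj⟩ := b.hup
  obtain ⟨g, hg⟩ := exists_conj_mem (H := cen v) b.hp
    (by rw [show (cen v).index = m from b.hv]; exact hpm) hj
  apply b.hnc
  have h1 := commute_all (u := g * u * g⁻¹) (v := v) (by rw [idx_conj, b.hu, b.hv]; exact h.cop)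
    (mem_cen.1 hg) g⁻¹ 1
  simpa [mul_assoc] using h1

theorem p_ne_q (b : Bad n m u v p q) (h : Four G n m) : p ≠ q := fun e =>
  b.hp.not_dvd_one (h.cop ▸ Nat.dvd_gcd (e ▸ b.q_dvd h) (b.p_dvd h))

theorem p_not_dvd_n (b : Bad n m u v p q) (h : Four G n m) : ¬ p ∣ n := fun hd =>
  b.hp.not_dvd_one (h.cop ▸ Nat.dvd_gcd hd (b.p_dvd h))

theorem comSub_le (b : Bad n m u v p q) (h : Four G n m) (hlt : n < m) : comSub u ≤ cen u := by
  have hcop : (idx u).Coprime (idx v) := b.hu.symm ▸ b.hv.symm ▸ h.cop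
  refine comSub_le_cen (Nat.Coprime.coprime_dvd_left ?_ (b.hu.symm ▸ h.cop.symm))
  rw [← b.hv, ← card_clas]
  exact card_dvd_of_mul_mem _ _ fun l hl w hw =>
    comSub_mul_mem hcop (by rw [b.mul_eq h hlt, b.hv]) hl hw

/-- The class of `u` generates an abelian normal `p`-subgroup. -/
theorem closure_props (b : Bad n m u v p q) (h : Four G n m) (hlt : n < m) :
    (closure (clas u)).Normal ∧ IsMulCommutative (closure (clas u)) ∧
      IsPGroup p (closure (clas u)) := by
  obtain ⟨h1, h2, h3⟩ := clas_closure_of_le_cen (b.comSub_le h hlt)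
  refine ⟨h1, h2, fun a => ?_⟩
  obtain ⟨j, hj⟩ := b.hup
  refine ⟨j, Subtype.ext ?_⟩
  rw [SubgroupClass.coe_pow, OneMemClass.coe_one]
  obtain ⟨c, hc⟩ := orderOf_dvd_of_pow_eq_one hj
  rw [hc, pow_mul, h3 _ a.2, one_pow]

/-- An element of a normal `p`-subgroup commutes with `u`. -/
theorem commute_of_mem (b : Bad n m u v p q) (h : Four G n m) {A : Subgroup G} [A.Normal]
    (hA : IsPGroup p A) {x : G} (hx : x ∈ A) : Commute x u := by
  haveI := Fact.mk b.hp
  obtain ⟨S⟩ := (inferInstance : Nonempty (Sylow p (cen u)))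
  have hS : Nat.card ((S : Subgroup (cen u)).map (cen u).subtype) =
      p ^ (Nat.card G).factorization p := by
    rw [card_map_of_injective (cen u).subtype_injective, S.card_eq_multiplicity]
    congr 1
    have hG := (cen u).card_mul_index
    rw [show (cen u).index = n from b.hu] at hG
    rw [← hG, Nat.factorization_mul Nat.card_pos.ne' (by have := h.hn; omega), Finsupp.add_apply,
      Nat.factorization_eq_zero_of_not_dvd (b.p_not_dvd_n h), add_zero]
  let S' : Sylow p G := Sylow.ofCard _ hS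
  have hle : A ≤ (S' : Subgroup G) := by
    rw [← S'.is_maximal' (IsPGroup.to_sup_of_normal_left hA S'.isPGroup') le_sup_right]
    exact le_sup_left
  have h2 : x ∈ (S : Subgroup (cen u)).map (cen u).subtype := by simpa [S'] using hle hx
  exact mem_cen.1 (map_subtype_le _ h2)

/-- In an abelian normal `p`-subgroup containing `u`, `u` is a commutator of `v` times a central
element. -/
theorem dec (b : Bad n m u v p q) (h : Four G n m) (hlt : n < m) (A : Subgroup G) [A.Normal]
    [IsMulCommutative A] {J : ℕ} (hA : ∀ a ∈ A, a ^ p ^ J = 1) (huA : u ∈ A) :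
    ∃ a ∈ center G, ∃ c ∈ A, u = a * (c⁻¹ * (v * c * v⁻¹)) := by
  obtain ⟨i, hi⟩ := b.hvq
  obtain ⟨a, haA, c, hcA, haz, hu⟩ := (exists_split' A hi hA (Nat.Coprime.pow _ _
    ((Nat.coprime_primes b.hq b.hp).2 (b.p_ne_q h).symm))).1 u huA
  refine ⟨a, ?_, c, hcA, hu⟩
  have hac : Commute a c := congrArg Subtype.val (mul_comm' (⟨a, haA⟩ : A) ⟨c, hcA⟩)
  have hm' : idx (a * v) = m := by
    rw [← b.mul_eq h hlt]
    have e1 : idx (v * u) = idx (u * v) := by
      rw [show v * u = v * (u * v) * v⁻¹ by group, idx_conj]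
    have e2 : a * v = c * (v⁻¹ * (v * u) * v) * c⁻¹ := by
      have e3 : v⁻¹ * (v * u) * v = a * (c⁻¹ * v * c) := by rw [hu]; group
      rw [e3]
      calc a * v = (a * v * c) * c⁻¹ := by group
        _ = c * c⁻¹ * (a * v * c) * c⁻¹ := by group
        _ = c * (c⁻¹ * a) * v * c * c⁻¹ := by group
        _ = c * (a * c⁻¹) * v * c * c⁻¹ := by rw [(hac.inv_right).eq]
        _ = c * (a * (c⁻¹ * v * c)) * c⁻¹ := by group
    rw [e2, idx_conj]
    have e4 : idx (v⁻¹ * (v * u) * v) = idx (v * u) := by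
      have := idx_conj (v * u) v⁻¹
      rwa [inv_inv] at this
    rw [e4, e1]
  have hcen : cen (a * v) = cen a ⊓ cen v := cen_mul haz
    (coprime_orderOf_of_primes b.hp b.hq (b.p_ne_q h) (hA a haA) hi)
  have hle : cen v ≤ cen a := by
    have h1 : cen a ⊓ cen v = cen v := by
      refine eq_of_le_of_index_le inf_le_right ?_
      rw [← hcen]
      exact (hm'.trans b.hv.symm).le
    exact h1 ▸ inf_le_left
  by_contra hac'
  rcases h.symm.eq_one_or_of_dvd ((index_dvd_of_le hle).trans b.hv.dvd) with h1 | h1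
  · exact hac' (idx_eq_one_iff.1 h1)
  · have heq : cen v = cen a := eq_of_le_of_index_le hle (b.hv.trans h1.symm).le
    refine b.hnc (mem_cen.1 (heq.ge (mem_cen.2 ?_)))
    exact congrArg Subtype.val (mul_comm' (⟨u, huA⟩ : A) ⟨a, haA⟩)

/-- Whatever centralizes the class of `v` centralizes `u`. -/
theorem commute_of_forall (b : Bad n m u v p q) (h : Four G n m) (hlt : n < m) {g : G}
    (hg : ∀ t : G, Commute g (t * v * t⁻¹)) : Commute g u := by
  obtain ⟨h1, h2, -⟩ := b.closure_props h hlt
  haveI := h1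
  haveI := h2
  obtain ⟨j, hj⟩ := b.hup
  obtain ⟨k, hk⟩ := orderOf_dvd_of_pow_eq_one hj
  obtain ⟨a, ha, c, -, hu⟩ := b.dec h hlt (closure (clas u)) (J := j) (fun x hx => by
    rw [hk, pow_mul, (clas_closure_of_le_cen (b.comSub_le h hlt)).2.2 x hx, one_pow])
    (subset_closure (mem_clas_self u))
  rw [hu]
  refine Commute.mul_right (mem_center_iff.1 ha g) ?_
  have e : c⁻¹ * (v * c * v⁻¹) = (c⁻¹ * v * c⁻¹⁻¹) * v⁻¹ := by group
  rw [e]
  refine (hg c⁻¹).mul_right ?_
  have := (hg 1).inv_right
  simpa using this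

/-- There is no bad pair with `n < m`. -/
theorem false_of_lt (b : Bad n m u v p q) (h : Four G n m) (hlt : n < m) : False := by
  haveI := Fact.mk b.hp
  obtain ⟨j, hj⟩ := b.hup
  obtain ⟨i, hi⟩ := b.hvq
  have hpq := b.p_ne_q h
  have hqm : ¬ q ∣ m := fun hd => b.hq.not_dvd_one (h.cop ▸ Nat.dvd_gcd (b.q_dvd h) hd)
  have hcop : (cen u).index.Coprime (cen v).index := by
    rw [show (cen u).index = n from b.hu, show (cen v).index = m from b.hv]; exact h.cop
  set D := cen u ⊓ cen v with hD
  have hDidx : D.index = n * m := by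
    rw [hD, index_inf_eq hcop, show (cen u).index = n from b.hu, show (cen v).index = m from b.hv]
  have hcarddvd : ∀ g : G, idx g = n * m → Nat.card (cen g) = Nat.card D := by
    intro g hg
    have h1 := (cen g).card_mul_index
    have h2 := D.card_mul_index
    rw [show (cen g).index = n * m from hg] at h1
    rw [hDidx, ← h1] at h2
    exact (Nat.eq_of_mul_eq_mul_right (by have := h.hn; have := h.hm; positivity) h2).symm
  have hcard : ∀ g : G, idx g = n * m → D ≤ cen g → D = cen g := fun g hg hle =>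
    eq_of_le_of_card_ge hle (hcarddvd g hg).le
  -- `M`, the centralizer of the class of `u`
  set M := centralizer (clas u) with hM
  have hM' : ∀ g ∈ M, ∀ t : G, Commute g (t * u * t⁻¹) := fun g hg t =>
    (mem_centralizer_iff.1 hg _ ⟨t, rfl⟩).symm
  have hMmem : ∀ g : G, (∀ t : G, Commute g (t * u * t⁻¹)) → g ∈ M := fun g hg => by
    rw [hM, mem_centralizer_iff]
    rintro _ ⟨t, rfl⟩
    exact (hg t).eq.symm
  have hMn : M.Normal := ⟨fun g hg t => hMmem _ fun s => by
    have := (hM' g hg (t⁻¹ * s)).map (MulAut.conj t).toMonoidHom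
    simpa [mul_assoc] using this⟩
  -- `D` lies in `M`
  have hDM : D ≤ M := by
    intro d hd
    refine mem_of_parts fun e s k hs hsk => ?_
    set y := d ^ e with hy
    have hyu : Commute y u := mem_cen.1 (cen u |>.pow_mem hd.1 e)
    have hyv : Commute y v := mem_cen.1 (cen v |>.pow_mem hd.2 e)
    have hys : y ^ s ^ k = 1 := pElem_pow hsk
    rcases h.sizes y with h1 | h1 | h1 | h1
    · exact center_le_centralizer _ (idx_eq_one_iff.1 h1)
    · refine hMmem _ fun t => (b.conj_left h t).commute_of_forall h hlt fun s' => ?_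
      have h2 := commute_all (u := y) (v := v) (by rw [h1, b.hv]; exact h.cop) hyv 1 s'
      simpa using h2
    · refine hMmem _ fun t => ?_
      have h2 := commute_all (u := y) (v := u) (by rw [h1, b.hu]; exact h.cop.symm) hyu 1 t
      simpa using h2
    · exfalso
      apply b.hnc
      by_cases hsp : s = p
      · have h2 := h.cen_le_of_nm hyv
          (coprime_orderOf_of_primes hs b.hq (by rw [hsp]; exact hpq) hys hi) h1
        exact mem_cen.1 (h2 (mem_cen.2 hyu.symm))
      · have h2 := h.cen_le_of_nm hyu (coprime_orderOf_of_primes hs b.hp hsp hys hj) h1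
        exact (mem_cen.1 (h2 (mem_cen.2 hyv.symm))).symm
  have hDT : ∀ t ∈ cen v, ∀ d ∈ D, t * d * t⁻¹ ∈ D := by
    intro t ht d hd
    refine ⟨?_, (cen v).mul_mem ((cen v).mul_mem ht hd.2) ((cen v).inv_mem ht)⟩
    have := hM' _ (hMn.conj_mem d (hDM hd) t) 1
    rw [one_mul, inv_one, mul_one] at this
    exact mem_cen.2 this
  -- no element of class size `m` in `M` of prime order other than `q`
  have hnom : ∀ (y : G) (s k : ℕ), s.Prime → s ≠ q → y ^ s ^ k = 1 → y ∈ M → idx y ≠ m := by
    intro y s k hs hsq hys hyM hym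
    haveI := Fact.mk b.hq
    obtain ⟨Q⟩ := (inferInstance : Nonempty (Sylow q (cen y)))
    obtain ⟨S⟩ := (inferInstance : Nonempty (Sylow q (cen v)))
    have hfull : ∀ (g : G) (U : Sylow q (cen g)), idx g = m →
        Nat.card ((U : Subgroup (cen g)).map (cen g).subtype) =
          q ^ (Nat.card G).factorization q := by
      intro g U hg
      rw [card_map_of_injective (cen g).subtype_injective, U.card_eq_multiplicity]
      congr 1
      have hG := (cen g).card_mul_index
      rw [show (cen g).index = m from hg] at hG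
      rw [← hG, Nat.factorization_mul Nat.card_pos.ne' (by have := h.hm; omega), Finsupp.add_apply,
        Nat.factorization_eq_zero_of_not_dvd hqm, add_zero]
    let Q' : Sylow q G := Sylow.ofCard _ (hfull y Q hym)
    let S' : Sylow q G := Sylow.ofCard _ (hfull v S b.hv)
    obtain ⟨g, hg⟩ := MulAction.exists_smul_eq G S' Q'
    have hvS : (⟨v, mem_cen.2 (Commute.refl v)⟩ : cen v) ∈ (S : Subgroup (cen v)) := by
      set v' : cen v := ⟨v, mem_cen.2 (Commute.refl v)⟩
      have hnorm : (S : Subgroup (cen v)) ≤ normalizer (zpowers v' : Set (cen v)) := by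
        refine le_trans ?_ (centralizer_le_normalizer _)
        intro t _
        rw [mem_centralizer_iff]
        rintro _ ⟨l, rfl⟩
        exact (Commute.zpow_left (Subtype.ext ((mem_cen.1 t.2).eq.symm) : Commute v' t) l).eq
      have := S.is_maximal' (IsPGroup.to_sup_of_normal_left' (isPGroup_zpowers b.hq
        (Subtype.ext (by simpa using hi) : v' ^ q ^ i = 1)) S.isPGroup' hnorm) le_sup_right
      exact this ▸ (le_sup_left : zpowers v' ≤ zpowers v' ⊔ S) (mem_zpowers v')
    set w := g * v * g⁻¹ with hw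
    have hwQ : w ∈ (Q : Subgroup (cen y)).map (cen y).subtype := by
      have h1 : w ∈ ((g • S' : Sylow q G) : Subgroup G) := by
        rw [Sylow.coe_subgroup_smul]
        refine Subgroup.mem_pointwise_smul_iff_inv_smul_mem.2 ?_
        have e : (MulAut.conj g)⁻¹ • w = v := by simp [hw, MulAut.smul_def, mul_assoc]
        rw [e]
        exact ⟨_, hvS, rfl⟩
      rw [hg] at h1
      simpa [Q'] using h1
    have hQw : (Q : Subgroup (cen y)).map (cen y).subtype ≤ cen w := by
      intro t ht
      have h1 : t ∈ ((g • S' : Sylow q G) : Subgroup G) := by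
        rw [hg]; simpa [Q'] using ht
      rw [Sylow.coe_subgroup_smul, Subgroup.mem_pointwise_smul_iff_inv_smul_mem] at h1
      have h2 : g⁻¹ * t * g ∈ (S : Subgroup (cen v)).map (cen v).subtype := by
        simpa [S', MulAut.smul_def, mul_assoc] using h1
      rw [hw, mem_cen]
      have h3 := (mem_cen.1 (map_subtype_le _ h2)).map (MulAut.conj g).toMonoidHom
      simpa [mul_assoc] using h3
    have hwy : Commute w y := mem_cen.1 (map_subtype_le _ hwQ)
    have hmul := cen_mul hwy (coprime_orderOf_of_primes b.hq hs hsq.symm (conj_pow_eq_one hi) hys)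
    have h2 : m ∣ idx (w * y) := hym ▸ index_dvd_of_le (hmul ▸ inf_le_right)
    have h3 : idx (w * y) = m := by
      rcases h.symm.eq_or_nm_of_dvd h2 with h3 | h3
      · exact h3
      · exfalso
        refine Nat.pow_succ_factorization_not_dvd (Nat.card_pos (α := G)).ne' b.hq ?_
        have h4 := (cen (w * y)).card_mul_index
        rw [show (cen (w * y)).index = m * n from h3] at h4
        have h5 : (Q : Subgroup (cen y)).map (cen y).subtype ≤ cen (w * y) :=
          hmul.symm ▸ le_inf hQw (map_subtype_le _)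
        have h6 := card_dvd_of_le h5
        rw [hfull y Q hym] at h6
        have h7 := mul_dvd_mul h6 ((b.q_dvd h).trans (dvd_mul_left n m))
        rwa [h4, ← pow_succ] at h7
    have hwm : idx w = m := (idx_conj v g).trans b.hv
    have h4 : cen w ⊓ cen y = cen y := by
      refine eq_of_le_of_index_le inf_le_right ?_
      rw [← hmul]
      exact (h3.trans hym.symm).le
    have h5 : u ∈ cen w := by
      refine (h4.ge (mem_cen.2 ?_)).1
      have := hM' y hyM 1
      simpa using this.symm
    apply b.hnc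
    have h6 := commute_all (u := u) (v := w) (by rw [hwm, b.hu]; exact h.cop) (mem_cen.1 h5) 1 g⁻¹
    simpa [hw, mul_assoc] using h6
  -- elements of class size `n` in `D` are `p`-elements
  have hnp : ∀ (x : G) (s k : ℕ), s.Prime → x ^ s ^ k = 1 → x ∈ D → idx x = n → s = p := by
    intro x s k hs hxs hxD hxn
    by_contra hsp
    have hxu : Commute x u := mem_cen.1 hxD.1
    have hmul := cen_mul hxu (coprime_orderOf_of_primes hs b.hp hsp hxs hj)
    have h1 : n ∣ idx (x * u) := b.hu ▸ index_dvd_of_le (hmul ▸ inf_le_right)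
    have h2 : idx (x * u) ≤ n * n := by
      rw [idx, hmul]
      refine index_inf_le.trans (le_of_eq ?_)
      rw [show (cen x).index = n from hxn, show (cen u).index = n from b.hu]
    rcases h.eq_or_nm_of_dvd h1 with h3 | h3
    · apply b.hnc
      have h4 : cen x ⊓ cen u = cen u := by
        refine eq_of_le_of_index_le inf_le_right ?_
        rw [← hmul]
        exact (h3.trans b.hu.symm).le
      have h5 : cen x = cen u :=
        (eq_of_le_of_index_le (h4 ▸ inf_le_left) (b.hu.trans hxn.symm).le).symm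
      exact (mem_cen.1 (h5.le (mem_cen.2 (mem_cen.1 hxD.2).symm))).symm
    · rw [h3] at h2
      exact absurd (Nat.le_of_mul_le_mul_left h2 (by have := h.hn; omega)) (not_le.2 hlt)
  -- elements of class sizes `n` and `m` in `D` commute
  have hgood : ∀ (x y : G) (k s l : ℕ), s.Prime → x ^ p ^ k = 1 → y ^ s ^ l = 1 → x ∈ D → y ∈ D →
      idx x = n → idx y = m → Commute x y := by
    intro x y k s l hs hxp hys hxD hyD hxn hym
    by_contra hnc
    have b' : Bad n m x y p s := ⟨b.hp, hs, hxn, hym, ⟨k, hxp⟩, ⟨l, hys⟩, hnc⟩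
    have hxu : Commute x u := mem_cen.1 hxD.1
    have hxv : Commute x v := mem_cen.1 hxD.2
    -- the product `x * u`
    have hJ : (cen x ⊓ cen u).index ≤ n * n := by
      refine index_inf_le.trans (le_of_eq ?_)
      rw [show (cen x).index = n from hxn, show (cen u).index = n from b.hu]
    have hle : cen x ⊓ cen u ≤ cen (x * u) := fun g hg =>
      mem_cen.2 ((mem_cen.1 hg.1).mul_right (mem_cen.1 hg.2))
    have hnJ : n ∣ (cen x ⊓ cen u).index := b.hu ▸ index_dvd_of_le inf_le_right
    have hlt' : n * n < n * m := Nat.mul_lt_mul_of_pos_left hlt (by have := h.hn; omega)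
    have hxu_n : idx (x * u) = n := by
      rcases h.sizes (x * u) with h1 | h1 | h1 | h1
      · exfalso
        apply b.hnc
        have h2 : Commute (x * u) v := (mem_center_iff.1 (idx_eq_one_iff.1 h1) v).symm
        have := (hxv.inv_left.mul_left h2)
        rwa [inv_mul_cancel_left] at this
      · exact h1
      · exfalso
        have h2 : n * m ∣ (cen x ⊓ cen u).index :=
          h.cop.mul_dvd_of_dvd_of_dvd hnJ (h1 ▸ index_dvd_of_le hle)
        have := Nat.le_of_dvd (Nat.pos_of_ne_zero index_ne_zero_of_finite) h2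
        omega
      · exfalso
        have := Nat.le_of_dvd (Nat.pos_of_ne_zero index_ne_zero_of_finite)
          (h1 ▸ index_dvd_of_le hle : n * m ∣ (cen x ⊓ cen u).index)
        omega
    have hxuv : ¬ Commute (x * u) v := fun hc => b.hnc (by
      have := hxv.inv_left.mul_left hc
      rwa [inv_mul_cancel_left] at this)
    have b'' : Bad n m (x * u) v p q := ⟨b.hp, b.hq, hxu_n, b.hv, ⟨k + j, by
      rw [hxu.mul_pow, pow_add, pow_mul, hxp, one_pow, one_mul, mul_comm (p ^ k), pow_mul, hj,
        one_pow]⟩, b.hvq, hxuv⟩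
    obtain ⟨hAx, hAxc, hAxp⟩ := b'.closure_props h hlt
    obtain ⟨hAu, hAuc, hAup⟩ := b.closure_props h hlt
    haveI := hAx
    haveI := hAu
    set B := closure (clas x ∪ clas u) with hB
    haveI hBc : IsMulCommutative B := isMulCommutative_closure (by
      rintro a (ha | ha) c (hc | hc)
      · exact congrArg Subtype.val
          (hAxc.is_comm.comm ⟨a, subset_closure ha⟩ ⟨c, subset_closure hc⟩)
      · obtain ⟨t, rfl⟩ := hc
        exact ((b.conj_left h t).commute_of_mem h hAxp (subset_closure ha)).eq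
      · obtain ⟨t, rfl⟩ := ha
        exact ((b.conj_left h t).commute_of_mem h hAxp (subset_closure hc)).eq.symm
      · exact congrArg Subtype.val
          (hAuc.is_comm.comm ⟨a, subset_closure ha⟩ ⟨c, subset_closure hc⟩))
    haveI hBn : B.Normal := by
      refine ⟨fun a ha t => ?_⟩
      have : B ≤ B.comap (MulAut.conj t).toMonoidHom := by
        rw [hB, closure_le]
        rintro _ (⟨s, rfl⟩ | ⟨s, rfl⟩)
        · exact subset_closure (Or.inl ⟨t * s, by simp [mul_assoc]⟩)
        · exact subset_closure (Or.inr ⟨t * s, by simp [mul_assoc]⟩)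
      exact this ha
    have hBexp : ∀ a ∈ B, a ^ p ^ (k + j) = 1 := by
      intro a ha
      induction ha using closure_induction with
      | mem c hc =>
        rcases hc with ⟨t, rfl⟩ | ⟨t, rfl⟩
        · rw [pow_add, pow_mul, conj_pow_eq_one hxp, one_pow]
        · rw [add_comm, pow_add, pow_mul, conj_pow_eq_one hj, one_pow]
      | one => simp
      | mul a c ha hc iha ihc =>
        have : Commute a c := congrArg Subtype.val (mul_comm' (⟨a, ha⟩ : B) ⟨c, hc⟩)
        rw [this.mul_pow, iha, ihc, one_mul]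
      | inv a ha iha => rw [inv_pow, iha, inv_one]
    have huB : u ∈ B := subset_closure (Or.inr (mem_clas_self u))
    have hxB : x ∈ B := subset_closure (Or.inl (mem_clas_self x))
    obtain ⟨a, ha, c, hcB, hue⟩ := b.dec h hlt B hBexp huB
    obtain ⟨a', ha', c', hcB', hxue⟩ := b''.dec h hlt B hBexp (mul_mem hxB huB)
    apply h.not_central hxn
    have hsplit := (exists_split' B hi hBexp (Nat.Coprime.pow _ _
      ((Nat.coprime_primes b.hq b.hp).2 hpq.symm))).2 (c' * c⁻¹) (mul_mem hcB' (inv_mem hcB))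
    have hcomm : ∀ a ∈ B, ∀ c ∈ B, a * c = c * a := fun a ha c hc =>
      congrArg Subtype.val (mul_comm' (⟨a, ha⟩ : B) ⟨c, hc⟩)
    have hconjB : ∀ a ∈ B, v * a * v⁻¹ ∈ B := fun a ha => hBn.conj_mem a ha v
    have ew : (c' * c⁻¹)⁻¹ * (v * (c' * c⁻¹) * v⁻¹) =
        (c'⁻¹ * (v * c' * v⁻¹)) * (c⁻¹ * (v * c * v⁻¹))⁻¹ := by
      have e1 := hcomm c hcB (c'⁻¹ * (v * c' * v⁻¹))
        (mul_mem (inv_mem hcB') (hconjB c' hcB'))
      have e2 := hcomm c hcB (v * c⁻¹ * v⁻¹) (hconjB _ (inv_mem hcB))
      calc (c' * c⁻¹)⁻¹ * (v * (c' * c⁻¹) * v⁻¹)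
          = c * (c'⁻¹ * (v * c' * v⁻¹)) * (v * c⁻¹ * v⁻¹) := by group
        _ = (c'⁻¹ * (v * c' * v⁻¹)) * (c * (v * c⁻¹ * v⁻¹)) := by rw [e1]; group
        _ = (c'⁻¹ * (v * c' * v⁻¹)) * ((v * c⁻¹ * v⁻¹) * c) := by rw [e2]
        _ = _ := by group
    set w := (c' * c⁻¹)⁻¹ * (v * (c' * c⁻¹) * v⁻¹)
    have hx_eq : x = a' * a⁻¹ * w := by
      have hxu' : x = x * u * u⁻¹ := by group
      rw [hxu', hxue, hue, ew, mul_inv_rev]
      have hca : ∀ g : G, Commute g a⁻¹ := fun g =>
        (mem_center_iff.1 (inv_mem ha) g : Commute g a⁻¹)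
      calc a' * (c'⁻¹ * (v * c' * v⁻¹)) * ((c⁻¹ * (v * c * v⁻¹))⁻¹ * a⁻¹)
          = a' * ((c'⁻¹ * (v * c' * v⁻¹) * (c⁻¹ * (v * c * v⁻¹))⁻¹) * a⁻¹) := by group
        _ = a' * (a⁻¹ * (c'⁻¹ * (v * c' * v⁻¹) * (c⁻¹ * (v * c * v⁻¹))⁻¹)) := by rw [(hca _).eq]
        _ = _ := by group
    have hwv : Commute w v := by
      have h1 : w = (a' * a⁻¹)⁻¹ * x := by rw [hx_eq]; group
      rw [h1]
      exact Commute.mul_left
        (mem_center_iff.1 (inv_mem (mul_mem ha' (inv_mem ha))) v).symm hxv
    rw [hx_eq, hsplit hwv, mul_one]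
    exact mul_mem ha' (inv_mem ha)
  by_cases hcase : ∀ (x : G) (s k : ℕ), s.Prime → x ^ s ^ k = 1 → x ∈ D → x ∉ center G → s = q
  · -- `D` is a `q`-group modulo the centre
    obtain ⟨y, hyD, hyc, k, hyq⟩ : ∃ y ∈ D, y ∉ center G ∧ ∃ k, y ^ q ^ k = 1 := by
      by_contra hno
      push Not at hno
      have hDZ : D ≤ center G := fun d hd => mem_of_parts fun e s k hs hsk => by
        by_contra hc
        have := hcase (d ^ e) s k hs (pElem_pow hsk) (pow_mem hd e) hc
        exact hno _ (pow_mem hd e) hc k (this ▸ pElem_pow hsk)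
      obtain ⟨w, hw⟩ := h.exnm
      have h1 : center G = cen w := eq_of_le_of_card_ge (center_le_centralizer _)
        ((hcarddvd w hw).le.trans (Nat.le_of_dvd Nat.card_pos (card_dvd_of_le hDZ)))
      have h2 : w ∈ center G := h1 ▸ mem_cen.2 (Commute.refl w)
      rw [← idx_eq_one_iff, hw] at h2
      have := Nat.eq_one_of_mul_eq_one_right h2
      have := h.hn; omega
    have hyu : Commute y u := mem_cen.1 hyD.1
    have hmul := cen_mul hyu (coprime_orderOf_of_primes b.hq b.hp hpq.symm hyq hj)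
    have hyu_nm : idx (y * u) = n * m := by
      rcases h.sizes y with h1 | h1 | h1 | h1
      · exact absurd (idx_eq_one_iff.1 h1) hyc
      · exact absurd (hnp y q k b.hq hyq hyD h1).symm hpq
      · exact h.eq_nm_of_dvd (b.hu ▸ index_dvd_of_le (hmul ▸ inf_le_right))
          (h1 ▸ index_dvd_of_le (hmul ▸ inf_le_left))
      · exfalso
        have h2 := h.cen_le_of_nm hyu (coprime_orderOf_of_primes b.hq b.hp hpq.symm hyq hj) h1
        exact b.hnc (mem_cen.1 (h2 (mem_cen.2 (mem_cen.1 hyD.2).symm))).symm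
    obtain ⟨S⟩ := (inferInstance : Nonempty (Sylow p D))
    set S0 := (S : Subgroup D).map D.subtype with hS0
    have hS0Z : S0 ≤ center G := by
      rintro _ ⟨d, hd, rfl⟩
      by_contra hc
      obtain ⟨l, hl⟩ := S.isPGroup' ⟨d, hd⟩
      exact hpq (hcase _ p l b.hp (by
        simpa using congrArg (fun t : (S : Subgroup D) => ((t : D) : G)) hl) d.2 hc)
    have hS0p : IsPGroup p S0 := S.isPGroup'.map _
    have hnorm : zpowers u ≤ normalizer (S0 : Set G) := by
      refine le_trans ?_ (centralizer_le_normalizer _)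
      intro t _
      rw [mem_centralizer_iff]
      exact fun z hz => (mem_center_iff.1 (hS0Z hz) t).symm
    have hbig : IsPGroup p (S0 ⊔ zpowers u : Subgroup G) :=
      IsPGroup.to_sup_of_normal_left' hS0p (isPGroup_zpowers b.hp hj) hnorm
    have hlecen : S0 ⊔ zpowers u ≤ cen (y * u) := sup_le (hS0Z.trans (center_le_centralizer _))
      (zpowers_le.2 (mem_cen.2 (hyu.symm.mul_right (Commute.refl u))))
    obtain ⟨r, hr⟩ := IsPGroup.iff_card.1 hbig
    have h1 : p ^ r ∣ Nat.card S0 := by
      rw [hS0, card_map_of_injective D.subtype_injective, S.card_eq_multiplicity]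
      refine pow_dvd_pow p ((b.hp.pow_dvd_iff_le_factorization Nat.card_pos.ne').1 ?_)
      rw [← hr, ← hcarddvd _ hyu_nm]
      exact card_dvd_of_le hlecen
    have h2 : S0 = S0 ⊔ zpowers u := eq_of_le_of_card_ge le_sup_left
      (by rw [hr]; exact Nat.le_of_dvd Nat.card_pos h1)
    exact h.not_central b.hu (hS0Z (h2 ▸ (le_sup_right : zpowers u ≤ S0 ⊔ zpowers u) (mem_zpowers u)))
  · -- some element of prime power order prime to `q`
    push Not at hcase
    obtain ⟨x, s, k, hs, hxs, hxD, hxc, hsq⟩ := hcase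
    have hxu : Commute x u := mem_cen.1 hxD.1
    have hxv : Commute x v := mem_cen.1 hxD.2
    have hxn : idx x = n := by
      rcases h.sizes x with h1 | h1 | h1 | h1
      · exact absurd (idx_eq_one_iff.1 h1) hxc
      · exact h1
      · exact absurd h1 (hnom x s k hs hsq hxs (hDM hxD))
      · exfalso
        exact b.hnc (mem_cen.1 (h.cen_le_of_nm hxv
          (coprime_orderOf_of_primes hs b.hq hsq hxs hi) h1 (mem_cen.2 hxu.symm)))
    have hxp := hnp x s k hs hxs hxD hxn
    have hxvmul := cen_mul hxv (coprime_orderOf_of_primes hs b.hq hsq hxs hi)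
    have hxvnm : idx (x * v) = n * m :=
      h.eq_nm_of_dvd (hxn ▸ index_dvd_of_le (hxvmul ▸ inf_le_left))
        (b.hv ▸ index_dvd_of_le (hxvmul ▸ inf_le_right))
    -- elements of `D` of order prime to `p` centralize `x`
    have hprime : ∀ (y : G) (r l : ℕ), r.Prime → r ≠ p → y ^ r ^ l = 1 → y ∈ D →
        y ∈ cen x := by
      intro y r l hr hrp hyr hyD
      rcases h.sizes y with h1 | h1 | h1 | h1
      · exact center_le_centralizer _ (idx_eq_one_iff.1 h1)
      · exact absurd (hnp y r l hr hyr hyD h1) hrp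
      · exact mem_cen.2 (hgood x y k r l hr (hxp ▸ hxs) hyr hxD hyD hxn h1).symm
      · exfalso
        have h2 := h.cen_le_of_nm (mem_cen.1 hyD.1)
          (coprime_orderOf_of_primes hr b.hp hrp hyr hj) h1
        exact b.hnc (mem_cen.1 (h2 (mem_cen.2 (mem_cen.1 hyD.2).symm))).symm
    set T := cen v
    haveI : (D.subgroupOf T).Normal := ⟨fun d hd t => by
      rw [mem_subgroupOf] at hd ⊢
      exact hDT t t.2 d hd⟩
    have hrel := relIndex_dvd_index_of_normal_right (D.subgroupOf T) ((cen x).subgroupOf T)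
    rw [relIndex_subgroupOf (inf_le_right : D ≤ T)] at hrel
    have hidxT : ((cen x).subgroupOf T).index = n := by
      show (cen x).relIndex T = n
      have h1 : (cen x ⊓ T).relIndex T * T.index = (cen x ⊓ T).index :=
        relIndex_mul_index inf_le_right
      rw [inf_relIndex_right, ← hxvmul, show (cen (x * v)).index = n * m from hxvnm,
        show T.index = m from b.hv] at h1
      exact Nat.eq_of_mul_eq_mul_right (by have := h.hm; omega) h1
    rw [hidxT] at hrel
    have hone : (cen x).relIndex D = 1 := by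
      by_contra hne
      obtain ⟨r, hr, hrd⟩ := Nat.exists_prime_and_dvd hne
      haveI := Fact.mk hr
      have hrn : r ∣ n := hrd.trans hrel
      have hrp : r ≠ p := fun e => b.p_not_dvd_n h (e ▸ hrn)
      obtain ⟨U⟩ := (inferInstance : Nonempty (Sylow r D))
      refine U.not_dvd_index (hrd.trans (index_dvd_of_le ?_))
      intro d hd
      rw [mem_subgroupOf]
      obtain ⟨l, hl⟩ := U.isPGroup' ⟨d, hd⟩
      exact hprime d r l hr hrp (by
        simpa using congrArg (fun t : (U : Subgroup D) => ((t : D) : G)) hl) d.2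
    rw [relIndex_eq_one] at hone
    have heq := hcard (x * v) hxvnm (by rw [hxvmul]; exact le_inf hone inf_le_right)
    have hvD : v ∈ D := heq ▸ mem_cen.2 (hxv.symm.mul_right (Commute.refl v))
    exact b.hnc (mem_cen.1 hvD.1).symm

end Bad

/-- Elements of class sizes `n` and `m` commute. -/
theorem Four.commute (h : Four G n m) {a c : G} (ha : idx a = n) (hc : idx c = m) :
    Commute a c := by
  have key : ∀ {n m : ℕ}, Four G n m → n < m → ∀ {a c : G}, idx a = n → idx c = m →
      Commute a c := by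
    intro n m h hlt a c ha hc
    obtain ⟨e, p, j, hp, hpj, hen, heq⟩ := h.exists_part ha
    obtain ⟨e', q, i, hq, hqi, hem, heq'⟩ := h.symm.exists_part hc
    by_contra hnc
    refine Bad.false_of_lt (u := a ^ e) (v := c ^ e')
      ⟨hp, hq, hen, hem, ⟨j, pElem_pow hpj⟩, ⟨i, pElem_pow hqi⟩, fun hcc => hnc ?_⟩ h hlt
    have h1 : c ^ e' ∈ cen a := heq ▸ mem_cen.2 hcc.symm
    have h2 : a ∈ cen c := heq' ▸ mem_cen.2 (mem_cen.1 h1).symm
    exact mem_cen.1 h2
  rcases lt_trichotomy n m with hlt | heq | hlt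
  · exact key h hlt ha hc
  · subst heq; exact absurd dvd_rfl h.not_dvd
  · exact (key h.symm hlt hc ha).symm

end CfsgLib.Structure81.CoprimeClass
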