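import Cfsg.Prelude.Def_OddOrderLocal
import Cfsg.Agent.Lib.Coprime.HyperplaneGeneration
import Cfsg.Agent.Lib.Coprime.Commutator
import Cfsg.Agent.Lib.SubgroupCount.Basic
import Cfsg.Agent.Lib.Transfer.Central

/-!
Non-normal TI subgroups `H` of a π-separable group which are Hall in their normalizer
(π the primes of `H`): `H` is Hall, the group is `N(H)` times a normal π'-subgroup, and the abelian
`p`-subgroups of `H` are cyclic.  Coprime action on groups with cyclic Sylow subgroups.
-/

set_option autoImplicit false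
set_option linter.style.haveILetI false

namespace CfsgLib.TIHall

open Subgroup
open scoped commutatorElement

variable {G : Type*} [Group G] [Finite G]

omit [Finite G] in
theorem mem_normalizer_of_conj_mem {H : Subgroup G} (hTI : Cfsg.IsTISubset (H : Set G)) {g x : G}
    (hx : x ∈ H) (hx1 : x ≠ 1) (hgx : g * x * g⁻¹ ∈ H) : g ∈ normalizer (H : Set G) := by
  by_contra h
  exact hx1 (hTI g h x hx hgx)

omit [Finite G] in
theorem normalizer_le_of_le {H P : Subgroup G} (hTI : Cfsg.IsTISubset (H : Set G)) (hP : P ≤ H)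
    (hne : P ≠ ⊥) : normalizer (P : Set G) ≤ normalizer (H : Set G) := by
  intro g hg
  obtain ⟨x, hx, hx1⟩ := P.bot_or_exists_ne_one.resolve_left hne
  exact mem_normalizer_of_conj_mem hTI (hP hx) hx1 (hP ((mem_normalizer_iff.mp hg x).mp hx))

/-- A TI subgroup which is Hall in its normalizer is a Hall subgroup. -/
theorem coprime_index {H : Subgroup G} (hTI : Cfsg.IsTISubset (H : Set G))
    (hHall : (Nat.card H).Coprime (H.subgroupOf (normalizer (H : Set G))).index) :
    (Nat.card H).Coprime H.index := by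
  by_contra hc
  obtain ⟨p, hp, hpH, hpi⟩ := Nat.Prime.not_coprime_iff_dvd.mp hc
  haveI := Fact.mk hp
  obtain ⟨P₀⟩ : Nonempty (Sylow p H) := inferInstance
  obtain ⟨P, hPdef⟩ : ∃ P : Subgroup G, P = (P₀ : Subgroup H).map H.subtype := ⟨_, rfl⟩
  have hPH : P ≤ H := hPdef ▸ map_subtype_le _
  have hPc : Nat.card P = p ^ (Nat.card H).factorization p := by
    rw [hPdef, card_subtype, P₀.card_eq_multiplicity]
  have hPne : P ≠ ⊥ := by
    intro h
    rw [h, card_bot] at hPc
    exact (Nat.one_lt_pow (hp.factorization_pos_of_dvd Nat.card_pos.ne' hpH).ne' hp.one_lt).ne hPc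
  have hPp : IsPGroup p P := hPdef ▸ P₀.2.map _
  obtain ⟨S, hS⟩ := hPp.exists_le_sylow
  have hPS : P = (S : Subgroup G) := by
    by_contra hne
    haveI := S.2.isNilpotent
    have hlt : P.subgroupOf (S : Subgroup G) < ⊤ :=
      lt_top_iff_ne_top.mpr fun h => hne (le_antisymm hS (subgroupOf_eq_top.mp h))
    obtain ⟨x, hx, hxn⟩ := SetLike.exists_of_lt
      (normalizerCondition_of_isNilpotent _ hlt)
    have hxN : (x : G) ∈ normalizer (H : Set G) := by
      refine normalizer_le_of_le hTI hPH hPne (mem_normalizer_iff.mpr fun y => ?_)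
      constructor
      · intro hy
        simpa [mem_subgroupOf] using
          (mem_normalizer_iff.mp hx ⟨y, hS hy⟩).mp (mem_subgroupOf.mpr hy)
      · intro hy
        have hyS : y ∈ (S : Subgroup G) := by
          simpa [mul_assoc] using
            mul_mem (mul_mem (inv_mem x.2) (hS hy)) x.2
        simpa [mem_subgroupOf] using
          (mem_normalizer_iff.mp hx ⟨y, hyS⟩).mpr (by simpa [mem_subgroupOf] using hy)
    obtain ⟨R, hR⟩ : ∃ R : Subgroup G, R = P ⊔ zpowers (x : G) := ⟨_, rfl⟩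
    have hRS : R ≤ (S : Subgroup G) := hR ▸ sup_le hS (zpowers_le.mpr x.2)
    have hRN : R ≤ normalizer (H : Set G) :=
      hR ▸ sup_le (hPH.trans le_normalizer) (zpowers_le.mpr hxN)
    have hPR : P < R := by
      refine lt_of_le_of_ne (hR ▸ le_sup_left) fun h => hxn (mem_subgroupOf.mpr ?_)
      exact h.ge (hR ▸ mem_sup_right (mem_zpowers _))
    obtain ⟨r, hr⟩ := IsPGroup.iff_card.mp (S.2.to_le hRS)
    have hdvd : Nat.card R ∣ Nat.card H := by
      have h1 : Nat.card R ∣ (H.subgroupOf (normalizer (H : Set G))).index * Nat.card H := by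
        refine (card_dvd_of_le hRN).trans (dvd_of_eq ?_)
        rw [mul_comm, ← (H.subgroupOf _).card_mul_index,
          Nat.card_congr (subgroupOfEquivOfLe le_normalizer).toEquiv]
      refine Nat.Coprime.dvd_of_dvd_mul_left ?_ h1
      rw [hr]
      exact Nat.Coprime.pow_left r (hHall.coprime_dvd_left hpH)
    have hle : r ≤ (Nat.card H).factorization p :=
      (hp.pow_dvd_iff_le_factorization Nat.card_pos.ne').mp (hr ▸ hdvd)
    have h2 : Nat.card R ≤ Nat.card P := by
      rw [hr, hPc]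
      exact Nat.pow_le_pow_right hp.pos hle
    exact hPR.ne (Subgroup.eq_of_le_of_card_ge hPR.le h2)
  exact S.not_dvd_index (hpi.trans (index_dvd_of_le (hPS ▸ hPH)))

theorem relIndex_dvd_index (H L : Subgroup G) [L.Normal] : H.relIndex L ∣ H.index := by
  have h1 := CfsgLib.Coprime.card_sup_mul_card_inf (H := H) (N := L) le_normalizer_of_normal
  have h2 := relIndex_mul_relIndex (⊥ : Subgroup G) H (H ⊔ L) bot_le le_sup_left
  have h3 := relIndex_mul_relIndex (⊥ : Subgroup G) (H ⊓ L) L bot_le inf_le_right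
  simp only [relIndex_bot_left, inf_relIndex_right] at h2 h3
  rw [← h2, ← h3, inf_comm L H] at h1
  have h4 : H.relIndex (H ⊔ L) = H.relIndex L := by
    have hpos : 0 < Nat.card H * Nat.card (H ⊓ L : Subgroup G) := Nat.mul_pos Nat.card_pos Nat.card_pos
    refine Nat.eq_of_mul_eq_mul_left hpos ?_
    calc Nat.card H * Nat.card (H ⊓ L : Subgroup G) * H.relIndex (H ⊔ L)
        = Nat.card H * H.relIndex (H ⊔ L) * Nat.card (H ⊓ L : Subgroup G) := by ring
      _ = _ := by rw [h1]; ring
  exact h4 ▸ relIndex_dvd_index_of_le le_sup_left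

/-- The normal π'-subgroup supplementing `N(H)`. -/
theorem exists_supplement {H : Subgroup G} (hTI : Cfsg.IsTISubset (H : Set G)) (hnn : ¬ H.Normal)
    (hcop : (Nat.card H).Coprime H.index)
    (hsep : ∃ (n : ℕ) (M : Fin (n + 1) → Subgroup G), M 0 = ⊥ ∧ M (Fin.last n) = ⊤ ∧ Monotone M ∧
      (∀ i, (M i).Normal) ∧ ∀ i : Fin n,
        (∀ q : ℕ, q.Prime → q ∣ (M i.castSucc).relIndex (M i.succ) → q ∣ Nat.card H) ∨
        ((M i.castSucc).relIndex (M i.succ)).Coprime (Nat.card H)) :
    ∃ K : Subgroup G, K.Normal ∧ (Nat.card K).Coprime (Nat.card H) ∧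
      K ⊔ normalizer (H : Set G) = ⊤ := by
  classical
  obtain ⟨n, M, hM0, hM1, hmono, hMn, hfac⟩ := hsep
  obtain ⟨K, -, ⟨hKn, hKc⟩, hKmax⟩ := Finite.exists_le_maximal
    (p := fun N : Subgroup G => N.Normal ∧ (Nat.card N).Coprime (Nat.card H)) (a := ⊥)
    ⟨inferInstance, by simp⟩
  haveI := hKn
  refine ⟨K, hKn, hKc, ?_⟩
  have hKtop : ¬ M (Fin.last n) ≤ K := by
    intro h
    rw [hM1, top_le_iff] at h
    subst h
    rw [card_top] at hKc
    have hH : H = ⊥ := by
      rw [← card_eq_one]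
      exact Nat.eq_one_of_dvd_coprimes hKc H.card_subgroup_dvd_card dvd_rfl
    exact hnn (hH ▸ inferInstance)
  obtain ⟨i, hi1, hi2⟩ : ∃ i : Fin n, M i.castSucc ≤ K ∧ ¬ M i.succ ≤ K := by
    by_contra! h
    refine hKtop ?_
    refine Fin.induction (motive := fun i => M i ≤ K) ?_ (fun i hi => h i hi) (Fin.last n)
    rw [hM0]
    exact bot_le
  haveI := hMn i.succ
  obtain ⟨L, hL⟩ : ∃ L : Subgroup G, L = M i.succ ⊔ K := ⟨_, rfl⟩
  haveI : L.Normal := hL ▸ inferInstance
  have hpi : ∀ q : ℕ, q.Prime → q ∣ K.relIndex L → q ∣ Nat.card H := by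
    rcases hfac i with h | h
    · intro q hq hd
      refine h q hq (hd.trans ?_)
      rw [hL, relIndex_sup_right]
      exact relIndex_dvd_of_le_left _ hi1
    · exfalso
      refine hi2 (le_trans le_sup_left (hKmax (y := M i.succ ⊔ K) ⟨inferInstance, ?_⟩ le_sup_right))
      refine Nat.Coprime.coprime_dvd_left (CfsgLib.Coprime.card_sup_dvd le_normalizer_of_normal) ?_
      refine Nat.Coprime.mul_left ?_ hKc
      have h2 := relIndex_mul_relIndex (⊥ : Subgroup G) (M i.castSucc) (M i.succ) bot_le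
        (hmono i.castSucc_le_succ)
      simp only [relIndex_bot_left] at h2
      rw [← h2]
      exact Nat.Coprime.mul_left (hKc.coprime_dvd_left (card_dvd_of_le hi1)) h
  have hKL : K ≤ L := hL ▸ le_sup_right
  -- `L = K (L ∩ H)`
  have hLle : L ≤ K ⊔ (L ⊓ H) := by
    rw [← relIndex_eq_one]
    refine Nat.eq_one_of_dvd_coprimes (a := K.relIndex L) (b := H.index) ?_
      (relIndex_dvd_of_le_left _ le_sup_left) ?_
    · refine Nat.coprime_of_dvd fun q hq h1 h2 => hq.not_dvd_one ?_
      exact hcop ▸ Nat.dvd_gcd (hpi q hq h1) h2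
    · refine (relIndex_dvd_of_le_left _ (le_sup_right : L ⊓ H ≤ K ⊔ L ⊓ H)).trans ?_
      rw [inf_comm, inf_relIndex_right]
      exact relIndex_dvd_index H L
  have hne : L ⊓ H ≠ ⊥ := fun h => hi2 <| by
    rw [h, sup_bot_eq] at hLle
    exact (hL ▸ le_sup_left : M i.succ ≤ L).trans hLle
  obtain ⟨p, hp, hpd⟩ := Nat.exists_prime_and_dvd (n := Nat.card (L ⊓ H : Subgroup G))
    (by rw [ne_eq, card_eq_one]; exact hne)
  haveI := Fact.mk hp
  obtain ⟨R₀⟩ : Nonempty (Sylow p ↥((L ⊓ H).subgroupOf L)) := inferInstance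
  have hidx : ¬ p ∣ ((R₀ : Subgroup _).map ((L ⊓ H).subgroupOf L).subtype).index := by
    rw [index_map_subtype]
    intro hd
    refine (hp.dvd_mul.mp hd).elim R₀.not_dvd_index fun h => ?_
    have h1 : ((L ⊓ H).subgroupOf L).index ∣ H.index := by
      change (L ⊓ H).relIndex L ∣ _
      rw [inf_comm, inf_relIndex_right]
      exact relIndex_dvd_index H L
    exact hp.not_dvd_one (hcop ▸ Nat.dvd_gcd (hpd.trans (card_dvd_of_le inf_le_right)) (h.trans h1))
  let R : Sylow p L := (R₀.2.map _).toSylow hidx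
  have h1 := Sylow.normalizer_sup_eq_top R
  have hRH : (R : Subgroup L).map L.subtype ≤ H := by
    rintro _ ⟨x, hx, rfl⟩
    exact (mem_subgroupOf.mp (map_subtype_le _ hx)).2
  have hRne : (R : Subgroup L).map L.subtype ≠ ⊥ := by
    rw [ne_eq, map_eq_bot_iff_of_injective _ L.subtype_injective]
    exact R.ne_bot_of_dvd_card (hpd.trans (card_dvd_of_le inf_le_left))
  refine top_le_iff.mp (h1.ge.trans (sup_le ?_ ?_))
  · exact (normalizer_le_of_le hTI hRH hRne).trans le_sup_right
  · exact hLle.trans (sup_le_sup_left (inf_le_right.trans le_normalizer) _)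

/-- Two commuting elements of order `p` in `H` generate a cyclic group. -/
theorem mem_zpowers_of_commute {H K : Subgroup G} [K.Normal] (hTI : Cfsg.IsTISubset (H : Set G))
    (hcop : (Nat.card K).Coprime (Nat.card H)) (hKH : ¬ K ≤ centralizer (H : Set G))
    {p : ℕ} [hp : Fact p.Prime] {a b : G} (ha : a ∈ H) (hb : b ∈ H) (hoa : orderOf a = p)
    (hob : orderOf b = p) (hab : Commute a b) : b ∈ zpowers a := by
  by_contra hnot
  obtain ⟨A, hAdef⟩ : ∃ A : Subgroup G, A = closure ({a, b} : Set G) := ⟨_, rfl⟩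
  have hAH : A ≤ H := hAdef ▸ (closure_le _).mpr (by rintro x (rfl | rfl); exacts [ha, hb])
  haveI hAc : IsMulCommutative A := hAdef ▸ isMulCommutative_closure (by
    rintro x (rfl | rfl) y (rfl | rfl)
    exacts [rfl, hab.eq, hab.eq.symm, rfl])
  have hAe : Cfsg.IsElementaryAbelian p A := by
    refine ⟨hAc, ?_⟩
    intro x hx
    rw [hAdef] at hx
    induction hx using closure_induction with
    | mem y hy =>
      rcases hy with rfl | rfl
      exacts [hoa ▸ pow_orderOf_eq_one _, hob ▸ pow_orderOf_eq_one _]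
    | one => simp
    | mul y z hy hz ihy ihz =>
      rw [← hAdef] at hy hz
      have : Commute y z := congrArg Subtype.val (mul_comm' (⟨y, hy⟩ : A) ⟨z, hz⟩)
      rw [this.mul_pow, ihy, ihz, one_mul]
    | inv y hy ihy => rw [inv_pow, ihy, inv_one]
  have haA : a ∈ A := hAdef ▸ subset_closure (Set.mem_insert _ _)
  have hbA : b ∈ A := hAdef ▸ subset_closure (Set.mem_insert_of_mem _ rfl)
  have hpA : p ∣ Nat.card A := hoa ▸ A.orderOf_dvd_natCard haA
  have hA1 : A ≠ ⊥ := by
    intro h
    have : a = 1 := mem_bot.mp (h ▸ haA)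
    rw [this, orderOf_one] at hoa
    exact hp.out.ne_one hoa.symm
  have hgen := CfsgLib.Coprime39.eq_hyperCent (X := K) hAe hA1
    (hcop.coprime_dvd_right (hpA.trans (card_dvd_of_le hAH))) le_normalizer_of_normal
  refine hKH (hgen.ge.trans (iSup_le ?_))
  rintro ⟨B, hBA, hBi⟩
  have hBne : B ≠ ⊥ := by
    rintro rfl
    rw [relIndex_bot_left] at hBi
    have h2 : zpowers a = A :=
      Subgroup.eq_of_le_of_card_ge (zpowers_le.mpr haA) (by rw [Nat.card_zpowers, hoa, hBi])
    exact hnot (h2 ▸ hbA)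
  obtain ⟨x, hx, hx1⟩ := B.bot_or_exists_ne_one.resolve_left hBne
  intro k ⟨hk, hkB⟩
  have hkx : k * x * k⁻¹ = x := by
    rw [← mem_centralizer_iff.mp hkB x hx, mul_inv_cancel_right]
  have hkN : k ∈ normalizer (H : Set G) :=
    mem_normalizer_of_conj_mem hTI (hAH (hBA hx)) hx1 (by rw [hkx]; exact hAH (hBA hx))
  rw [mem_centralizer_iff]
  intro y hy
  replace hy : y ∈ H := hy
  have h3 : ⁅k, y⁆ ∈ K ⊓ H := by
    refine mem_inf.mpr ⟨?_, mul_mem ((mem_normalizer_iff.mp hkN y).mp hy) (inv_mem hy)⟩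
    rw [commutatorElement_def, mul_assoc, mul_assoc]
    exact mul_mem hk (by
      rw [← mul_assoc]
      exact ‹K.Normal›.conj_mem _ (inv_mem hk) y)
  rw [inf_eq_bot_of_coprime hcop, mem_bot, commutatorElement_eq_one_iff_mul_comm] at h3
  exact h3.symm

/-- `H` has cyclic Sylow subgroups when its Sylow `2`-subgroups are abelian. -/
theorem isZGroup {H K : Subgroup G} [K.Normal] (hTI : Cfsg.IsTISubset (H : Set G))
    (hcop : (Nat.card K).Coprime (Nat.card H)) (hKH : ¬ K ≤ centralizer (H : Set G))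
    (h2 : ∀ P : Sylow 2 H, IsMulCommutative (P : Subgroup H)) : IsZGroup H := by
  refine ⟨fun p hp P => ?_⟩
  haveI := Fact.mk hp
  have hcomm : ∀ a b : (P : Subgroup H), orderOf a = p → orderOf b = p → Commute a b →
      b ∈ zpowers a := by
    intro a b ha hb hab
    have h1 := mem_zpowers_of_commute hTI hcop hKH (a := ((a : H) : G)) (b := ((b : H) : G))
      (a : H).2 (b : H).2 (by rw [orderOf_coe, orderOf_coe, ha])
      (by rw [orderOf_coe, orderOf_coe, hb]) (by
        have := congrArg (fun z : (P : Subgroup H) => ((z : H) : G)) hab.eq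
        exact this)
    obtain ⟨j, hj⟩ := mem_zpowers_iff.mp h1
    exact mem_zpowers_iff.mpr ⟨j, Subtype.ext (Subtype.ext (by simpa using hj))⟩
  obtain ⟨n, hn⟩ := IsPGroup.iff_card.mp P.2
  refine CfsgLib.SubgroupCount.isCyclic_of_unique hp n hn ?_ ?_
  · intro a b ha hb
    haveI : Nontrivial (P : Subgroup H) := ⟨⟨a, 1, fun h => by
      rw [h, orderOf_one] at ha; exact hp.ne_one ha.symm⟩⟩
    haveI := P.2.center_nontrivial
    obtain ⟨z, hz⟩ := exists_prime_orderOf_dvd_card' (G := center (P : Subgroup H)) p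
      (((IsPGroup.to_subgroup P.2 _).nontrivial_iff_card.1 inferInstance).elim
        fun n hn => hn.2 ▸ dvd_pow_self p hn.1.ne')
    have hz' : orderOf (z : (P : Subgroup H)) = p := by rw [orderOf_coe, hz]
    have hc : ∀ c : (P : Subgroup H), Commute (z : (P : Subgroup H)) c := fun c =>
      (mem_center_iff.mp z.2 c).symm
    have h1 : (z : (P : Subgroup H)) ∈ zpowers a := hcomm a z ha hz' (hc a).symm
    exact zpowers_le.mpr h1 (hcomm z b hz' hb (hc b))
  · rintro rfl A B hA hB
    haveI := h2 P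
    have key : ∀ C : Subgroup (P : Subgroup H), Nat.card C = 4 →
        ∃ c, C = zpowers c ∧ orderOf c = 4 := by
      intro C hC
      by_cases hcy : IsCyclic C
      · obtain ⟨g, hg⟩ := IsCyclic.exists_generator (α := C)
        refine ⟨g, le_antisymm (fun x hx => ?_) (zpowers_le.mpr g.2), ?_⟩
        · obtain ⟨j, hj⟩ := mem_zpowers_iff.mp (hg ⟨x, hx⟩)
          exact mem_zpowers_iff.mpr ⟨j, by simpa using congrArg Subtype.val hj⟩
        · rw [orderOf_coe, orderOf_eq_card_of_forall_mem_zpowers hg, hC]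
      exfalso
      obtain ⟨x, hx⟩ := exists_prime_orderOf_dvd_card' (G := C) 2 (hC ▸ by norm_num)
      obtain ⟨y, -, hy⟩ : ∃ y ∈ (⊤ : Subgroup C), y ∉ zpowers x := SetLike.exists_of_lt
        (lt_top_iff_ne_top.mpr fun h => by
          have h3 := congrArg (fun D : Subgroup C => Nat.card D) h
          simp only [Nat.card_zpowers, card_top, hx, hC] at h3
          omega)
      have hy2 : orderOf y = 2 := by
        have hd : orderOf y ∣ 4 := hC ▸ orderOf_dvd_natCard y
        have h4 : orderOf y ≠ 4 := fun h => hcy (isCyclic_of_orderOf_eq_card y (h.trans hC.symm))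
        have h1 : orderOf y ≠ 1 := fun h => hy (by rw [orderOf_eq_one_iff.mp h]; exact one_mem _)
        have h5 := Nat.le_of_dvd (by norm_num) hd
        interval_cases (orderOf y) <;> simp_all
      have h3 : (y : (P : Subgroup H)) ∈ zpowers (x : (P : Subgroup H)) :=
        hcomm _ _ (by rw [orderOf_coe, hx]) (by rw [orderOf_coe, hy2]) (mul_comm' _ _)
      obtain ⟨j, hj⟩ := mem_zpowers_iff.mp h3
      exact hy (mem_zpowers_iff.mpr ⟨j, Subtype.ext (by simpa using hj)⟩)
    obtain ⟨a, rfl, ha⟩ := key A hA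
    obtain ⟨b, rfl, hb⟩ := key B hB
    have ha2 : orderOf (a ^ 2) = 2 := by rw [orderOf_pow a, ha]; rfl
    have hb2 : orderOf (b ^ 2) = 2 := by rw [orderOf_pow b, hb]; rfl
    have hsq : b ^ 2 = a ^ 2 := by
      obtain ⟨j, hj⟩ := mem_zpowers_iff.mp (hcomm _ _ ha2 hb2 (mul_comm' _ _))
      rw [← zpow_mod_orderOf, ha2] at hj
      rcases Int.emod_two_eq j with h | h
      · simp only [Nat.cast_ofNat, h, zpow_zero] at hj
        rw [← hj, orderOf_one] at hb2
        exact absurd hb2 (by norm_num)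
      · simpa [h] using hj.symm
    have hbA : b ∈ zpowers a := by
      have hd : (a⁻¹ * b) ^ 2 = 1 := by
        rw [(show Commute a⁻¹ b from mul_comm' _ _).mul_pow, inv_pow, hsq, inv_mul_cancel]
      suffices h1 : a⁻¹ * b ∈ zpowers a by simpa using mul_mem (mem_zpowers a) h1
      by_cases h1 : a⁻¹ * b = 1
      · rw [h1]; exact one_mem _
      exact zpowers_le.mpr (pow_mem (mem_zpowers a) 2)
        (hcomm _ _ ha2 (orderOf_eq_prime hd h1) (mul_comm' _ _))
    exact (Subgroup.eq_of_le_of_card_ge (zpowers_le.mpr hbA)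
      (by rw [Nat.card_zpowers, Nat.card_zpowers, ha, hb])).symm

end CfsgLib.TIHall
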