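import Cfsg.Agent.Lib.TwoGroups.OneInvolution
import Cfsg.Agent.Lib.Frobenius.Action

/-!
A 2-group of automorphisms of an abelian group `V` of odd order has fewer than `|V|` square classes:
`|P : P²| < |V|`.
-/

set_option autoImplicit false
set_option linter.style.haveILetI false

namespace CfsgLib.TwoGroupRank

open Subgroup

universe u

section idx

variable {U Q : Type*} [Group U] [Group Q]

/-- The subgroup generated by the squares. -/
def sqSub (U : Type*) [Group U] : Subgroup U := closure (Set.range fun x : U => x ^ 2)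

/-- The index of the subgroup generated by the squares. -/
noncomputable def idx (U : Type*) [Group U] : ℕ := (sqSub U).index

theorem sqSub_normal : (sqSub U).Normal := by
  refine ⟨fun x hx g => ?_⟩
  have h : (sqSub U).map (MulAut.conj g).toMonoidHom ≤ sqSub U := by
    rw [sqSub, MonoidHom.map_closure]
    refine closure_mono ?_
    rintro _ ⟨_, ⟨y, rfl⟩, rfl⟩
    exact ⟨g * y * g⁻¹, by simp [conj_pow]⟩
  exact h ⟨x, hx, rfl⟩

theorem idx_le_card [Finite U] : idx U ≤ Nat.card U :=
  Nat.le_of_dvd Nat.card_pos (sqSub U).index_dvd_card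

theorem idx_le_mul [Finite U] (f : U →* Q) (hf : Function.Surjective f) :
    idx U ≤ idx Q * idx f.ker := by
  haveI := sqSub_normal (U := U)
  have h1 : (sqSub U ⊔ f.ker).index = idx Q := by
    have h := index_map (sqSub U) f
    have hm : (sqSub U).map f = sqSub Q := by
      rw [sqSub, sqSub, MonoidHom.map_closure, ← Set.range_comp]
      congr 1
      ext q
      constructor
      · rintro ⟨x, rfl⟩; exact ⟨f x, by simp⟩
      · rintro ⟨y, rfl⟩; obtain ⟨x, rfl⟩ := hf y; exact ⟨x, by simp⟩
    rw [hm, MonoidHom.range_eq_top.2 hf, index_top, mul_one] at h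
    exact h.symm
  have h2 : (sqSub U).relIndex f.ker ≤ idx f.ker := by
    refine Nat.le_of_dvd (Nat.pos_of_ne_zero index_ne_zero_of_finite) (index_dvd_of_le ?_)
    rw [sqSub, closure_le]
    rintro _ ⟨x, rfl⟩
    exact subset_closure ⟨(x : U), by simp⟩
  calc idx U = (sqSub U).relIndex (sqSub U ⊔ f.ker) * (sqSub U ⊔ f.ker).index :=
        (relIndex_mul_index le_sup_left).symm
    _ = (sqSub U).relIndex f.ker * idx Q := by rw [relIndex_sup_left, h1]
    _ ≤ idx f.ker * idx Q := Nat.mul_le_mul_right _ h2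
    _ = idx Q * idx f.ker := mul_comm _ _

theorem idx_le_range [Finite U] (f : U →* Q) (hf : Function.Injective f) : idx U ≤ idx f.range := by
  refine (idx_le_mul f.rangeRestrict f.rangeRestrict_surjective).trans ?_
  refine (Nat.mul_le_mul_left _ idx_le_card).trans (le_of_eq ?_)
  rw [f.ker_rangeRestrict, (MonoidHom.ker_eq_bot_iff f).2 hf, Subgroup.card_bot, mul_one]

theorem idx_le_index_two [Finite U] (M : Subgroup U) (hM : M.index ≤ 2) : idx U ≤ 2 * idx M := by
  haveI : M.Normal := by
    rcases Nat.lt_or_ge M.index 2 with h | h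
    · have h0 : M.index ≠ 0 := index_ne_zero_of_finite
      rw [index_eq_one.1 (show M.index = 1 by omega)]
      infer_instance
    · exact normal_of_index_eq_two (by omega)
  refine (idx_le_mul (QuotientGroup.mk' M) (QuotientGroup.mk'_surjective M)).trans ?_
  rw [QuotientGroup.ker_mk']
  exact Nat.mul_le_mul_right _ (idx_le_card.trans (by rw [← index_eq_card]; exact hM))

theorem idx_le_sq_ker [Finite U] (hcomm : ∀ a b : U, a * b = b * a) :
    idx U ≤ Nat.card {x : U // x ^ 2 = 1} := by
  let f : U →* U :=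
    { toFun := fun x => x ^ 2
      map_one' := one_pow 2
      map_mul' := fun a b => (show Commute a b from hcomm a b).mul_pow 2 }
  have h1 : sqSub U = f.range := by
    rw [sqSub, ← closure_eq f.range]
    rfl
  have h2 : f.range.index * Nat.card f.range = Nat.card U := index_mul_card _
  have h3 : Nat.card f.ker * f.ker.index = Nat.card U := card_mul_index _
  rw [index_ker, ← h2] at h3
  have h4 := Nat.eq_of_mul_eq_mul_right Nat.card_pos h3
  rw [idx, h1, ← h4]
  exact le_of_eq rfl

theorem idx_two_mul_le_card [Finite U] (h : ∃ a b : U, a * b ≠ b * a) :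
    idx U * 2 ≤ Nat.card U := by
  have hne : sqSub U ≠ ⊥ := by
    intro hb
    obtain ⟨a, b, hab⟩ := h
    have hsq : ∀ x : U, x⁻¹ = x := fun x => by
      have : x ^ 2 ∈ sqSub U := subset_closure ⟨x, rfl⟩
      rw [hb, mem_bot, pow_two] at this
      exact inv_eq_of_mul_eq_one_right this
    apply hab
    rw [← hsq (a * b), mul_inv_rev, hsq, hsq]
  rw [← (sqSub U).index_mul_card]
  exact Nat.mul_le_mul_left _ ((Subgroup.one_lt_card_iff_ne_bot _).2 hne)

end idx

set_option linter.unusedSectionVars false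

section action

variable {V : Type u} [CommGroup V] [Finite V] {P : Type u} [Group P] [Finite P]

/-- Restriction of an action by automorphisms to an invariant subgroup. -/
noncomputable def restr (φ : P →* MulAut V) (W : Subgroup V) (hW : ∀ g, ∀ v ∈ W, φ g v ∈ W) :
    P →* MulAut W where
  toFun g :=
    { toFun := fun v => ⟨φ g v, hW g v v.2⟩
      invFun := fun v => ⟨φ g⁻¹ v, hW g⁻¹ v v.2⟩
      left_inv := fun v => Subtype.ext (by
        show φ g⁻¹ (φ g v) = v
        rw [← MulAut.mul_apply, ← map_mul, inv_mul_cancel, map_one]; rfl)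
      right_inv := fun v => Subtype.ext (by
        show φ g (φ g⁻¹ v) = v
        rw [← MulAut.mul_apply, ← map_mul, mul_inv_cancel, map_one]; rfl)
      map_mul' := fun v w => Subtype.ext (map_mul (φ g) (v : V) w) }
  map_one' := MulEquiv.ext fun v => Subtype.ext (by
    show φ 1 v = v
    rw [map_one]; rfl)
  map_mul' g h := MulEquiv.ext fun v => Subtype.ext (by
    show φ (g * h) v = φ g (φ h v)
    rw [map_mul]; rfl)

/-- The action induced on the quotient by an invariant subgroup. -/
noncomputable def quot (φ : P →* MulAut V) (W : Subgroup V) (hW : ∀ g, ∀ v ∈ W, φ g v ∈ W) :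
    P →* MulAut (V ⧸ W) where
  toFun g :=
    { toFun := QuotientGroup.map W W (φ g).toMonoidHom (fun v hv => hW g v hv)
      invFun := QuotientGroup.map W W (φ g⁻¹).toMonoidHom (fun v hv => hW g⁻¹ v hv)
      left_inv := fun q => by
        induction q using QuotientGroup.induction_on with | _ v => ?_
        show ((φ g⁻¹ (φ g v) : V) : V ⧸ W) = v
        rw [← MulAut.mul_apply, ← map_mul, inv_mul_cancel, map_one]; rfl
      right_inv := fun q => by
        induction q using QuotientGroup.induction_on with | _ v => ?_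
        show ((φ g (φ g⁻¹ v) : V) : V ⧸ W) = v
        rw [← MulAut.mul_apply, ← map_mul, mul_inv_cancel, map_one]; rfl
      map_mul' := map_mul _ }
  map_one' := MulEquiv.ext fun q => by
    induction q using QuotientGroup.induction_on with | _ v => ?_
    show ((φ 1 v : V) : V ⧸ W) = v
    rw [map_one]; rfl
  map_mul' g h := MulEquiv.ext fun q => by
    induction q using QuotientGroup.induction_on with | _ v => ?_
    show ((φ (g * h) v : V) : V ⧸ W) = (φ g (φ h v) : V)
    rw [map_mul]; rfl

theorem eq_one_of_sq (hodd : Odd (Nat.card V)) {v : V} (hv : v * v = 1) : v = 1 := by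
  rw [← orderOf_eq_one_iff]
  refine Nat.eq_one_of_dvd_coprimes (Nat.coprime_two_right.2 hodd) (orderOf_dvd_natCard v) ?_
  exact orderOf_dvd_of_pow_eq_one (by rw [pow_two]; exact hv)

/-- The fixed points of an automorphism. -/
def fixedPts (α : MulAut V) : Subgroup V where
  carrier := {v | α v = v}
  one_mem' := map_one α
  mul_mem' {a b} (ha : α a = a) (hb : α b = b) := show α (a * b) = a * b by rw [map_mul, ha, hb]
  inv_mem' {a} (ha : α a = a) := show α a⁻¹ = a⁻¹ by rw [map_inv, ha]

theorem inverts_of_fixedPts_eq_bot (α : MulAut V) (hα : α * α = 1) (h : fixedPts α = ⊥) (v : V) :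
    α v = v⁻¹ := by
  have hm : v * α v ∈ fixedPts α := by
    show α (v * α v) = v * α v
    rw [map_mul, ← MulAut.mul_apply, hα, MulAut.one_apply, mul_comm]
  rw [h, mem_bot] at hm
  exact eq_inv_of_mul_eq_one_right hm

theorem card_mulAut_three (h : Nat.card V = 3) : Nat.card (MulAut V) ≤ 2 := by
  classical
  haveI : Fact (Nat.Prime 3) := ⟨Nat.prime_three⟩
  haveI : Nontrivial V := Finite.one_lt_card_iff_nontrivial.1 (by omega)
  haveI := Fintype.ofFinite V
  obtain ⟨v, hv⟩ := exists_ne (1 : V)
  let f : MulAut V → {x : V // x ≠ 1} := fun α => ⟨α v, fun he => hv (α.injective (he.trans (map_one α).symm))⟩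
  have hf : Function.Injective f := by
    intro α β hab
    refine MulEquiv.ext fun x => ?_
    obtain ⟨i, rfl⟩ := Subgroup.mem_zpowers_iff.1 (mem_zpowers_of_prime_card h hv (g' := x))
    rw [map_zpow, map_zpow, show α v = β v from congrArg Subtype.val hab]
  refine (Nat.card_le_card_of_injective f hf).trans (le_of_eq ?_)
  rw [Nat.card_eq_fintype_card, Fintype.card_subtype_compl, Fintype.card_subtype_eq,
    ← Nat.card_eq_fintype_card, h]

theorem combine {w x i j : ℕ} (hw : 3 ≤ w) (hx : 3 ≤ x) (h1 : 2 * i < w ∨ (w = 3 ∧ i ≤ 2))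
    (h2 : 2 * j < x ∨ (x = 3 ∧ j ≤ 2)) : 2 * (i * j) < w * x := by
  rcases h1 with h1 | ⟨rfl, h1⟩ <;> rcases h2 with h2 | ⟨rfl, h2⟩
  · calc 2 * (i * j) ≤ (2 * i) * (2 * j) := by
          rw [show (2 * i) * (2 * j) = 2 * (2 * (i * j)) by ring]; omega
      _ < w * x := Nat.mul_lt_mul'' h1 h2
  · have := Nat.mul_le_mul_left i h2; omega
  · have := Nat.mul_le_mul_right j h1; omega
  · have := Nat.mul_le_mul h1 h2; omega

/-- The induction statement. -/
def Good (n : ℕ) : Prop :=
  ∀ (V : Type u) [CommGroup V] [Finite V] (P : Type u) [Group P] [Finite P] (φ : P →* MulAut V),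
    Nat.card V = n → Odd n → 1 < n → IsPGroup 2 P → Function.Injective φ →
      2 * idx P < n ∨ (n = 3 ∧ idx P ≤ 2)

theorem good_image {n : ℕ} (hg : Good.{u} n) {U : Type u} [Group U] [Finite U] (hU : IsPGroup 2 U)
    {W : Type u} [CommGroup W] [Finite W] (ρ : U →* MulAut W) (hn : Nat.card W = n) (ho : Odd n)
    (h1 : 1 < n) : 2 * idx ρ.range < n ∨ (n = 3 ∧ idx ρ.range ≤ 2) :=
  hg W ρ.range ρ.range.subtype hn ho h1 (hU.of_surjective _ ρ.rangeRestrict_surjective)
    Subtype.val_injective

theorem reducible (φ : P →* MulAut V) (hodd : Odd (Nat.card V)) (hP : IsPGroup 2 P)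
    (hinj : Function.Injective φ) (hsmall : ∀ m < Nat.card V, Good.{u} m) (W : Subgroup V)
    (hW : ∀ g, ∀ v ∈ W, φ g v ∈ W) (hne : W ≠ ⊥) (hnt : W ≠ ⊤) :
    2 * idx P < Nat.card V := by
  have hcard : Nat.card V = Nat.card (V ⧸ W) * Nat.card W := W.card_eq_card_quotient_mul_card_subgroup
  have hw1 : 1 < Nat.card W := (Subgroup.one_lt_card_iff_ne_bot W).2 hne
  have hq1 : 1 < Nat.card (V ⧸ W) := by
    rw [← index_eq_card]
    exact one_lt_index_of_ne_top hnt
  have hwo : Odd (Nat.card W) := hodd.of_dvd_nat (Dvd.intro_left _ hcard.symm)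
  have hqo : Odd (Nat.card (V ⧸ W)) := hodd.of_dvd_nat (Dvd.intro _ hcard.symm)
  have hwlt : Nat.card W < Nat.card V := by
    rw [hcard]; exact lt_mul_of_one_lt_left (by omega) hq1
  have hqlt : Nat.card (V ⧸ W) < Nat.card V := by
    rw [hcard]; exact lt_mul_of_one_lt_right (by omega) hw1
  set ρ := restr φ W hW with hρ
  let ψ : ρ.ker →* MulAut (V ⧸ W) := (quot φ W hW).comp ρ.ker.subtype
  have hψ : Function.Injective ψ := by
    rw [← MonoidHom.ker_eq_bot_iff, Subgroup.eq_bot_iff_forall]
    rintro ⟨k, hk⟩ hk'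
    refine Subtype.ext (hinj ?_)
    rw [OneMemClass.coe_one, map_one]
    refine MulEquiv.ext fun v => ?_
    show φ k v = v
    have hkW : ∀ w ∈ W, φ k w = w := fun w hw => by
      have := MulEquiv.congr_fun (MonoidHom.mem_ker.1 hk) ⟨w, hw⟩
      exact congrArg Subtype.val this
    have hd : ∃ w ∈ W, φ k v = v * w := by
      have := MulEquiv.congr_fun (MonoidHom.mem_ker.1 hk') (v : V ⧸ W)
      have h2 : ((φ k v : V) : V ⧸ W) = (v : V ⧸ W) := this
      exact ⟨v⁻¹ * φ k v, QuotientGroup.eq.1 h2.symm, (mul_inv_cancel_left _ _).symm⟩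
    obtain ⟨w, hw, hkv⟩ := hd
    have hiter : ∀ i : ℕ, φ (k ^ i) v = v * w ^ i := by
      intro i
      induction i with
      | zero => rw [pow_zero, map_one, pow_zero, mul_one]; rfl
      | succ i ih =>
        rw [pow_succ', map_mul, MulAut.mul_apply, ih, map_mul, map_pow (φ k), hkW w hw, hkv,
          pow_succ', mul_assoc]
    obtain ⟨e, he⟩ := hP k
    have h3 := hiter (2 ^ e)
    rw [he, map_one, MulAut.one_apply, left_eq_mul] at h3
    have hw1' : w = 1 := orderOf_eq_one_iff.1 (Nat.eq_one_of_dvd_coprimes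
      ((Nat.coprime_two_right.2 hodd).pow_right e) (orderOf_dvd_natCard w)
      (orderOf_dvd_of_pow_eq_one h3))
    rw [hkv, hw1', mul_one]
  have b1 := good_image (hsmall _ hwlt) hP ρ rfl hwo hw1
  have b2 := good_image (hsmall _ hqlt) (hP.to_subgroup ρ.ker) ψ rfl hqo hq1
  have hb : idx P ≤ idx ρ.range * idx ψ.range := by
    refine (idx_le_mul ρ.rangeRestrict ρ.rangeRestrict_surjective).trans ?_
    rw [ρ.ker_rangeRestrict]
    exact Nat.mul_le_mul_left _ (idx_le_range ψ hψ)
  have hw3 : 3 ≤ Nat.card W := by obtain ⟨r, hr⟩ := hwo; omega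
  have hq3 : 3 ≤ Nat.card (V ⧸ W) := by obtain ⟨r, hr⟩ := hqo; omega
  have := combine hw3 hq3 b1 b2
  rw [hcard, mul_comm (Nat.card (V ⧸ W))]
  omega

/-- A non-central involution whose centralizer has index two induces a system of imprimitivity. -/
theorem imprimitive (φ : P →* MulAut V) (hodd : Odd (Nat.card V)) (hP : IsPGroup 2 P)
    (hinj : Function.Injective φ) (hsmall : ∀ m < Nat.card V, Good.{u} m) (z e g₀ : P)
    (hz : ∀ v, φ z v = v⁻¹) (hzc : ∀ g : P, g * z = z * g) (he : e * e = 1) (hez : e ≠ z)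
    (he1 : e ≠ 1) (hg₀ : g₀ * e * g₀⁻¹ = e * z)
    (hdich : ∀ g : P, g * e * g⁻¹ = e ∨ g * e * g⁻¹ = e * z) :
    2 * idx P < Nat.card V := by
  set M : Subgroup P := centralizer ({e} : Set P) with hMdef
  have hee : φ e * φ e = 1 := by rw [← map_mul, he, map_one]
  have heev : ∀ v, φ e (φ e v) = v := fun v => by rw [← MulAut.mul_apply, hee]; rfl
  set W := fixedPts (φ e) with hWdef
  set W' := fixedPts (φ (e * z)) with hW'def
  have hmemW : ∀ {v : V}, v ∈ W ↔ φ e v = v := Iff.rfl
  have hmemW' : ∀ {v : V}, v ∈ W' ↔ φ e v = v⁻¹ := by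
    intro v
    show φ (e * z) v = v ↔ _
    rw [map_mul, MulAut.mul_apply, hz, map_inv, inv_eq_iff_eq_inv]
  have hsq : Function.Surjective fun v : V => v ^ 2 :=
    (powCoprime (Nat.coprime_two_right.2 hodd)).surjective
  -- `V = W × W'`
  let f : W × W' →* V :=
    { toFun := fun p => (p.1 : V) * p.2
      map_one' := by simp
      map_mul' := fun p q => by simp [mul_mul_mul_comm] }
  have hf : Function.Bijective f := by
    constructor
    · rw [← MonoidHom.ker_eq_bot_iff, Subgroup.eq_bot_iff_forall]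
      rintro ⟨⟨a, ha⟩, ⟨b, hb⟩⟩ hab
      have hab' : a * b = 1 := hab
      have hb' : b = a⁻¹ := eq_inv_of_mul_eq_one_right hab'
      rw [hmemW] at ha
      rw [hmemW', hb', map_inv, ha, inv_inv] at hb
      have ha1 : a = 1 := eq_one_of_sq hodd (inv_eq_iff_mul_eq_one.1 hb)
      subst ha1
      rw [inv_one] at hb'
      subst hb'
      rfl
    · intro v
      obtain ⟨u, hu⟩ := hsq v
      dsimp only at hu
      refine ⟨(⟨u * φ e u, ?_⟩, ⟨u * (φ e u)⁻¹, ?_⟩), ?_⟩
      · rw [hmemW, map_mul, heev, mul_comm]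
      · rw [hmemW', map_mul, map_inv, heev, mul_inv_rev, inv_inv]
      · show u * φ e u * (u * (φ e u)⁻¹) = v
        rw [mul_mul_mul_comm, mul_inv_cancel, mul_one, ← pow_two, hu]
  have hcard : Nat.card W * Nat.card W' = Nat.card V := by
    rw [← Nat.card_prod]
    exact Nat.card_congr (Equiv.ofBijective f hf)
  have hswap : Nat.card W = Nat.card W' := by
    rw [← Subgroup.card_map_of_injective (K := W) (f := (φ g₀).toMonoidHom) (φ g₀).injective]
    congr 1
    refine congrArg (fun S : Subgroup V => (↥S : Type u)) ?_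
    ext v
    constructor
    · rintro ⟨u, hu, rfl⟩
      show φ (e * z) (φ g₀ u) = φ g₀ u
      rw [← MulAut.mul_apply, ← map_mul, ← hg₀, inv_mul_cancel_right, map_mul, MulAut.mul_apply]
      exact congrArg _ hu
    · intro hv
      refine ⟨φ g₀⁻¹ v, ?_, ?_⟩
      · show φ e (φ g₀⁻¹ v) = φ g₀⁻¹ v
        rw [← MulAut.mul_apply, ← map_mul, show e * g₀⁻¹ = g₀⁻¹ * (e * z) by rw [← hg₀]; group,
          map_mul, MulAut.mul_apply]
        exact congrArg _ hv
      · show φ g₀ (φ g₀⁻¹ v) = v
        rw [← MulAut.mul_apply, ← map_mul, mul_inv_cancel, map_one]; rfl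
  have hWinv : ∀ m : M, ∀ v ∈ W, φ m v ∈ W := by
    intro m v hv
    show φ e (φ m v) = φ m v
    rw [← MulAut.mul_apply, ← map_mul, ← mem_centralizer_singleton_iff.1 m.2, map_mul,
      MulAut.mul_apply]
    exact congrArg _ hv
  have hW'inv : ∀ m : M, ∀ v ∈ W', φ m v ∈ W' := by
    intro m v hv
    rw [hmemW'] at hv ⊢
    rw [← MulAut.mul_apply, ← map_mul, ← mem_centralizer_singleton_iff.1 m.2, map_mul,
      MulAut.mul_apply, hv, map_inv]
  let ρ := restr (φ.comp M.subtype) W hWinv
  let ρ' := restr (φ.comp M.subtype) W' hW'inv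
  let ψ : ρ.ker →* MulAut W' := ρ'.comp ρ.ker.subtype
  have hboth : ∀ m : M, ρ m = 1 → ρ' m = 1 → m = 1 := by
    intro m h1 h2
    refine Subtype.ext (hinj ?_)
    rw [OneMemClass.coe_one, map_one]
    refine MulEquiv.ext fun v => ?_
    obtain ⟨⟨a, b⟩, rfl⟩ := hf.2 v
    show φ m ((a : V) * b) = a * b
    rw [map_mul]
    exact congrArg₂ (· * ·) (congrArg Subtype.val (MulEquiv.congr_fun h1 a))
      (congrArg Subtype.val (MulEquiv.congr_fun h2 b))
  have hψ : Function.Injective ψ := by
    rw [← MonoidHom.ker_eq_bot_iff, Subgroup.eq_bot_iff_forall]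
    rintro ⟨m, hm⟩ hm'
    exact Subtype.ext (hboth m (MonoidHom.mem_ker.1 hm) (MonoidHom.mem_ker.1 hm'))
  have hz1 : z ≠ 1 := fun h => he1 (hinj (MulEquiv.ext fun v => by
    have h3 : ∀ v : V, v = 1 := fun v => eq_one_of_sq hodd (by
      have h4 := hz v
      rw [h, map_one, MulAut.one_apply] at h4
      exact eq_inv_iff_mul_eq_one.1 h4)
    rw [h3 (φ e v), h3 (φ 1 v)]))
  have hMi : M.index ≤ 2 := by
    have h2 : M.index = 2 := by
      rw [Subgroup.index_eq_two_iff]
      refine ⟨g₀, fun b => ?_⟩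
      have hne : e * z ≠ e := fun h => hz1 (mul_eq_left.1 h)
      have hmem : ∀ g : P, g ∈ M ↔ g * e * g⁻¹ = e := fun g => by
        rw [hMdef, mem_centralizer_singleton_iff, mul_inv_eq_iff_eq_mul]
      have hbg : b * g₀ * e * (b * g₀)⁻¹ = b * e * b⁻¹ * z := by
        calc b * g₀ * e * (b * g₀)⁻¹ = b * (g₀ * e * g₀⁻¹) * b⁻¹ := by group
          _ = b * e * (z * b⁻¹) := by rw [hg₀]; group
          _ = b * e * b⁻¹ * z := by rw [← hzc b⁻¹]; group
      rcases hdich b with hb | hb
      · exact Or.inr ⟨(hmem b).2 hb, fun h => hne ((hbg.trans (by rw [hb])).symm.trans ((hmem _).1 h))⟩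
      · refine Or.inl ⟨(hmem _).2 ?_, fun h => hne (hb.symm.trans ((hmem b).1 h))⟩
        rw [hbg, hb]
        have hzz : z * z = 1 := hinj (MulEquiv.ext fun v => by
          rw [map_mul, map_one, MulAut.mul_apply, hz, hz, inv_inv]; rfl)
        rw [mul_assoc, hzz, mul_one]
    omega
  have hwne : W ≠ ⊥ := by
    intro h
    refine hez (hinj (MulEquiv.ext fun v => ?_))
    rw [hz, inverts_of_fixedPts_eq_bot (φ e) hee h v]
  have hw1 : 1 < Nat.card W := (Subgroup.one_lt_card_iff_ne_bot W).2 hwne
  have hwlt : Nat.card W < Nat.card V := by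
    rw [← hcard, ← hswap]; exact lt_mul_of_one_lt_right (by omega) hw1
  have hwo : Odd (Nat.card W) := hodd.of_dvd_nat (Dvd.intro _ hcard)
  by_cases h3 : Nat.card W = 3
  · have hMc : Nat.card M ≤ 4 := by
      have hi : Function.Injective (fun m : M => (ρ m, ρ' m)) := by
        intro m m' h
        simp only [Prod.mk.injEq] at h
        refine mul_inv_eq_one.1 (hboth (m * m'⁻¹) ?_ ?_) <;>
          rw [map_mul, map_inv, mul_inv_eq_one]
        exacts [h.1, h.2]
      refine (Nat.card_le_card_of_injective _ hi).trans ?_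
      rw [Nat.card_prod]
      exact Nat.mul_le_mul (card_mulAut_three h3) (card_mulAut_three (hswap ▸ h3))
    have hPc : Nat.card P ≤ 8 := by
      rw [← M.card_mul_index]
      exact Nat.mul_le_mul hMc hMi
    have hnc : ∃ a b : P, a * b ≠ b * a := ⟨g₀, e, fun h => hz1 (by
      have h4 := hg₀
      rwa [h, mul_inv_cancel_right, left_eq_mul] at h4)⟩
    have := idx_two_mul_le_card hnc
    rw [← hcard, ← hswap, h3]
    omega
  · have b1 := (good_image (hsmall _ hwlt) (hP.to_subgroup M) ρ rfl hwo hw1).resolve_right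
      (fun h => h3 h.1)
    have b2 := (good_image (hsmall _ hwlt) ((hP.to_subgroup M).to_subgroup ρ.ker) ψ hswap.symm hwo
      hw1).resolve_right (fun h => h3 h.1)
    have hbM : idx M ≤ idx ρ.range * idx ψ.range := by
      refine (idx_le_mul ρ.rangeRestrict ρ.rangeRestrict_surjective).trans ?_
      rw [ρ.ker_rangeRestrict]
      exact Nat.mul_le_mul_left _ (idx_le_range ψ hψ)
    have hbP := idx_le_index_two M hMi
    have hlt := Nat.mul_lt_mul'' b1 b2
    rw [show 2 * idx ρ.range * (2 * idx ψ.range) = 4 * (idx ρ.range * idx ψ.range) by ring] at hlt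
    rw [← hcard, ← hswap]
    omega

end action

section primitive

variable {V : Type u} [CommGroup V] [Finite V] {P : Type u} [Group P] [Finite P]

/-- The primitive case: a self-centralizing cyclic normal subgroup. -/
theorem primitive (φ : P →* MulAut V) (hodd : Odd (Nat.card V)) (h5 : 5 ≤ Nat.card V)
    (hP : IsPGroup 2 P) (hinj : Function.Injective φ) (A : Subgroup P) [hAn : A.Normal]
    (hAs : centralizer (A : Set P) = A) (a z : P) (hA : A = zpowers a) (hz : ∀ v, φ z v = v⁻¹)
    (hzz : z * z = 1) (hzA : z ∈ A) (hone : ∀ x ∈ A, x * x = 1 → x = 1 ∨ x = z) :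
    2 * idx P < Nat.card V := by
  classical
  haveI : Fact (Nat.Prime 2) := ⟨Nat.prime_two⟩
  obtain ⟨v₀, hv₀⟩ : ∃ v : V, v ≠ 1 :=
    haveI : Nontrivial V := Finite.one_lt_card_iff_nontrivial.1 (by omega)
    exists_ne 1
  have hz1 : z ≠ 1 := by
    intro h
    have := hz v₀
    rw [h, map_one, MulAut.one_apply] at this
    exact hv₀ (eq_one_of_sq hodd (eq_inv_iff_mul_eq_one.1 this))
  obtain ⟨k, hk⟩ := IsPGroup.iff_orderOf.1 hP a
  obtain ⟨m, rfl⟩ : ∃ m, k = m + 1 := ⟨k - 1, by
    rcases Nat.eq_zero_or_pos k with rfl | hk0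
    · rw [pow_zero, orderOf_eq_one_iff] at hk
      rw [hA, hk, zpowers_one_eq_bot, mem_bot] at hzA
      exact absurd hzA hz1
    · omega⟩
  have haA : a ∈ A := hA ▸ mem_zpowers a
  have hcardA : Nat.card A = 2 ^ (m + 1) := by rw [hA, Nat.card_zpowers, hk]
  have hz_eq : a ^ 2 ^ m = z := by
    rcases hone (a ^ 2 ^ m) (pow_mem haA _) (by
      rw [← pow_add, ← mul_two, ← pow_succ, ← hk, pow_orderOf_eq_one]) with h | h
    · have := Nat.le_of_dvd (pow_pos two_pos m) (hk ▸ orderOf_dvd_of_pow_eq_one h)
      exact absurd this (Nat.not_le.2 (Nat.pow_lt_pow_right one_lt_two (by omega)))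
    · exact h
  -- `A` acts fixed-point-freely
  have hfree : ∀ x ∈ A, x ≠ 1 → ∀ v, φ x v = v → v = 1 := by
    intro x hx hx1 v hv
    obtain ⟨j, hj⟩ := IsPGroup.iff_orderOf.1 hP x
    rcases j with _ | j
    · exact absurd (orderOf_eq_one_iff.1 (by rw [hj, pow_zero])) hx1
    have hxz : x ^ 2 ^ j = z := by
      rcases hone (x ^ 2 ^ j) (pow_mem hx _) (by
        rw [← pow_add, ← mul_two, ← pow_succ, ← hj, pow_orderOf_eq_one]) with h | h
      · have := Nat.le_of_dvd (pow_pos two_pos j) (hj ▸ orderOf_dvd_of_pow_eq_one h)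
        exact absurd this (Nat.not_le.2 (Nat.pow_lt_pow_right one_lt_two (by omega)))
      · exact h
    have hfix : ∀ i : ℕ, φ (x ^ i) v = v := by
      intro i
      induction i with
      | zero => rw [pow_zero, map_one]; rfl
      | succ i ih => rw [pow_succ, map_mul, MulAut.mul_apply, hv, ih]
    have h2 := hfix (2 ^ j)
    rw [hxz, hz] at h2
    exact eq_one_of_sq hodd (inv_eq_iff_mul_eq_one.1 h2)
  have hdvd : 2 ^ (m + 1) ∣ Nat.card V - 1 := by
    letI : MulDistribMulAction A V := MulDistribMulAction.compHom V (φ.comp A.subtype)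
    have hf : CfsgLib.Frobenius.IsFPF A V := fun x hx v hv =>
      hfree x x.2 (fun h => hx (Subtype.ext h)) v hv
    rw [← hcardA]
    exact hf.card_dvd_sub_one
  -- the action on `A`
  let c : P →* MulAut A := MulAut.conjNormal
  have hker : c.ker ≤ A := by
    intro g hg
    rw [← hAs, mem_centralizer_iff]
    intro x hx
    have h1 : g * x * g⁻¹ = x :=
      congrArg Subtype.val (MulEquiv.congr_fun (MonoidHom.mem_ker.1 hg) ⟨x, hx⟩)
    exact (mul_inv_eq_iff_eq_mul.1 h1).symm
  have hb : idx P ≤ idx c.range * idx c.ker := by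
    have := idx_le_mul c.rangeRestrict c.rangeRestrict_surjective
    rwa [c.ker_rangeRestrict] at this
  have hA2 : idx c.ker ≤ 2 := by
    have hcommA : ∀ x y : c.ker, x * y = y * x := fun x y => Subtype.ext (by
      obtain ⟨i, hi⟩ := mem_zpowers_iff.1 (hA ▸ hker x.2 : (x : P) ∈ zpowers a)
      obtain ⟨j, hj⟩ := mem_zpowers_iff.1 (hA ▸ hker y.2 : (y : P) ∈ zpowers a)
      show (x : P) * y = y * x
      rw [← hi, ← hj, ← zpow_add, ← zpow_add, add_comm])
    refine (idx_le_sq_ker hcommA).trans ?_
    let f : {x : c.ker // x ^ 2 = 1} → ({1, z} : Set P) := fun x => ⟨(x.1 : P), by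
      rcases hone _ (hker x.1.2) (by
        rw [← pow_two, ← SubgroupClass.coe_pow, x.2, OneMemClass.coe_one]) with h | h <;> simp [h]⟩
    refine (Nat.card_le_card_of_injective f ?_).trans ?_
    · intro x y h
      exact Subtype.ext (Subtype.ext (congrArg Subtype.val h :))
    · rw [Nat.card_coe_set_eq]
      exact (Set.ncard_insert_le _ _).trans (by rw [Set.ncard_singleton])
  let a' : A := ⟨a, haA⟩
  have haut : ∀ α : MulAut A, ∃ j : ℕ, j < 2 ^ (m + 1) ∧ α a' = a' ^ j := by
    intro α
    have hmem : ((α a' : A) : P) ∈ zpowers a := hA ▸ (α a').2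
    rw [← mem_powers_iff_mem_zpowers, mem_powers_iff_mem_range_orderOf, Finset.mem_image] at hmem
    obtain ⟨j, hj, hj'⟩ := hmem
    exact ⟨j, hk ▸ Finset.mem_range.1 hj, Subtype.ext (by rw [SubgroupClass.coe_pow]; exact hj'.symm)⟩
  have hext : ∀ α β : MulAut A, α a' = β a' → α = β := by
    intro α β h
    refine MulEquiv.ext fun x => ?_
    obtain ⟨i, hi⟩ := mem_zpowers_iff.1 (hA ▸ x.2 : (x : P) ∈ zpowers a)
    have hx : x = a' ^ i := Subtype.ext (by rw [SubgroupClass.coe_zpow]; exact hi.symm)
    rw [hx, map_zpow, map_zpow, h]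
  have hautcomm : ∀ α β : c.range, α * β = β * α := by
    intro α β
    refine Subtype.ext (hext _ _ ?_)
    obtain ⟨i, -, hi⟩ := haut α
    obtain ⟨j, -, hj⟩ := haut β
    show (α : MulAut A) ((β : MulAut A) a') = (β : MulAut A) ((α : MulAut A) a')
    rw [hj, map_pow, hi, map_pow, hj, ← pow_mul, ← pow_mul, mul_comm]
  have hR4 : idx c.range ≤ 4 := by
    refine (idx_le_sq_ker hautcomm).trans ?_
    let f : {x : c.range // x ^ 2 = 1} → ({a, a⁻¹, a * z, a⁻¹ * z} : Set P) :=
      fun α => ⟨(((α.1 : MulAut A) a' : A) : P), by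
        obtain ⟨j, -, hj⟩ := haut α.1
        have h2 : (α.1 : MulAut A) ((α.1 : MulAut A) a') = a' := by
          rw [← MulAut.mul_apply, ← pow_two, ← SubgroupClass.coe_pow, α.2, OneMemClass.coe_one]
          rfl
        rw [hj, map_pow, hj, ← pow_mul] at h2
        have h3 : a ^ ((j * j : ℕ) : ℤ) = a ^ (1 : ℤ) := by
          rw [zpow_natCast, zpow_one]
          exact congrArg Subtype.val h2
        rw [zpow_eq_zpow_iff_modEq, hk, Int.modEq_comm, Int.modEq_iff_dvd] at h3
        push_cast at h3
        obtain ⟨-, hs⟩ := CfsgLib.TwoGroups.OneInvolution.two_split (m := m) (k := (j : ℤ))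
          (by rw [pow_two]; exact h3)
        rw [hj]
        show a ^ j ∈ _
        have hzpow : ∀ t : ℤ, z ^ t = 1 ∨ z ^ t = z := fun t =>
          hone _ (zpow_mem hzA t) (by rw [← (Commute.refl z).mul_zpow, hzz, one_zpow])
        rcases hs with ⟨t, ht⟩ | ⟨t, ht⟩
        · have : a ^ j = a * z ^ t := by
            rw [← zpow_natCast, ← hz_eq, ← zpow_natCast a (2 ^ m), ← zpow_mul,
              show (j : ℤ) = 1 + ((2 ^ m : ℕ) : ℤ) * t by push_cast; linarith, zpow_add, zpow_one]
          rw [this]
          rcases hzpow t with h | h <;> simp [h]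
        · have : a ^ j = a⁻¹ * z ^ t := by
            rw [← zpow_natCast, ← hz_eq, ← zpow_natCast a (2 ^ m), ← zpow_mul,
              show (j : ℤ) = -1 + ((2 ^ m : ℕ) : ℤ) * t by push_cast; linarith, zpow_add, zpow_neg,
              zpow_one]
          rw [this]
          rcases hzpow t with h | h <;> simp [h]⟩
    refine (Nat.card_le_card_of_injective f ?_).trans ?_
    · intro α β h
      exact Subtype.ext (Subtype.ext (hext _ _ (Subtype.ext (congrArg Subtype.val h :))))
    · rw [Nat.card_coe_set_eq]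
      refine (Set.ncard_insert_le _ _).trans ?_
      have h1 := Set.ncard_insert_le (a⁻¹) ({a * z, a⁻¹ * z} : Set P)
      have h2 := Set.ncard_insert_le (a * z) ({a⁻¹ * z} : Set P)
      rw [Set.ncard_singleton] at h2
      omega
  have hb8 : idx P ≤ 8 := hb.trans (Nat.mul_le_mul hR4 hA2)
  have hodd' := hodd
  obtain ⟨r, hr⟩ := hodd
  -- small cases: at most two automorphisms occur
  have hsmall : idx c.range ≤ Nat.card c.range := idx_le_card
  rcases (show m = 0 ∨ m = 1 ∨ 2 ≤ m by omega) with rfl | rfl | hm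
  · have hR1 : Nat.card c.range ≤ 1 := by
      refine (Nat.card_le_card_of_injective (fun _ => ()) fun α β _ => ?_).trans Nat.card_unique.le
      refine Subtype.ext (hext _ _ ?_)
      have key : ∀ γ : MulAut A, γ a' = a' := by
        intro γ
        obtain ⟨j, hj, hj'⟩ := haut γ
        rcases (show j = 0 ∨ j = 1 by omega) with rfl | rfl
        · rw [pow_zero, ← map_one γ] at hj'
          have h1 : a = 1 := congrArg Subtype.val (γ.injective hj')
          rw [h1, orderOf_one] at hk
          norm_num at hk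
        · rwa [pow_one] at hj'
      rw [key, key]
    have := hb.trans (Nat.mul_le_mul (hsmall.trans hR1) hA2)
    omega
  · by_cases h58 : 8 < Nat.card V
    · have hR2 : Nat.card c.range ≤ 2 := by
        let f : c.range → ({a, a⁻¹} : Set P) := fun α => ⟨(((α : MulAut A) a' : A) : P), by
          obtain ⟨j, hj, hj'⟩ := haut α
          have ha4 : a ^ 4 = 1 := by
            rw [show (4 : ℕ) = 2 ^ (1 + 1) by norm_num, ← hk, pow_orderOf_eq_one]
          rw [hj']
          show a ^ j ∈ _
          rcases (show j = 0 ∨ j = 1 ∨ j = 2 ∨ j = 3 by omega) with rfl | rfl | rfl | rfl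
          · rw [pow_zero, ← map_one (α : MulAut A)] at hj'
            have h1 : a = 1 := congrArg Subtype.val ((α : MulAut A).injective hj')
            rw [h1, orderOf_one] at hk
            norm_num at hk
          · simp
          · exfalso
            have h1 : (α : MulAut A) (a' ^ 2) = 1 := by
              rw [map_pow, hj', ← pow_mul]
              exact Subtype.ext ha4
            rw [← map_one (α : MulAut A)] at h1
            have h2 : a ^ 2 = 1 := congrArg Subtype.val ((α : MulAut A).injective h1)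
            have := Nat.le_of_dvd two_pos (hk ▸ orderOf_dvd_of_pow_eq_one h2)
            norm_num at this
          · refine Or.inr ?_
            rw [Set.mem_singleton_iff, eq_inv_iff_mul_eq_one, ← pow_succ]
            exact ha4⟩
        refine (Nat.card_le_card_of_injective f ?_).trans ?_
        · intro α β h
          exact Subtype.ext (hext _ _ (Subtype.ext (congrArg Subtype.val h :)))
        · rw [Nat.card_coe_set_eq]
          exact (Set.ncard_insert_le _ _).trans (by rw [Set.ncard_singleton])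
      have := hb.trans (Nat.mul_le_mul (hsmall.trans hR2) hA2)
      omega
    · have h5' : Nat.card V = 5 := by
        obtain ⟨t, ht⟩ := hdvd
        norm_num at ht
        omega
      haveI : Fact (Nat.Prime 5) := ⟨by norm_num⟩
      haveI : IsCyclic V := isCyclic_of_prime_card h5'
      have hcommAut : ∀ α β : MulAut V, α * β = β * α := fun α β =>
        (IsCyclic.mulAutMulEquiv V).injective (by rw [map_mul, map_mul, mul_comm])
      have hall : ∀ g : P, g ∈ A := by
        intro g
        rw [← hAs, mem_centralizer_iff]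
        intro x _
        exact hinj (by rw [map_mul, map_mul, hcommAut])
      have hR1 : Nat.card c.range ≤ 1 := by
        refine (Nat.card_le_card_of_injective (fun _ => ()) fun α β _ => ?_).trans Nat.card_unique.le
        obtain ⟨_, g, rfl⟩ := α
        obtain ⟨_, g', rfl⟩ := β
        refine Subtype.ext (MulEquiv.ext fun x => Subtype.ext ?_)
        show g * (x : P) * g⁻¹ = g' * x * g'⁻¹
        have hg : ∀ h : P, h * x * h⁻¹ = x := fun h =>
          mul_inv_eq_iff_eq_mul.2
            ((mem_centralizer_iff.1 (show h ∈ centralizer (A : Set P) by rw [hAs]; exact hall h) x x.2).symm)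
        rw [hg, hg]
      have := hb.trans (Nat.mul_le_mul (hsmall.trans hR1) hA2)
      omega
  · by_cases h17 : 16 < Nat.card V
    · omega
    obtain rfl : m = 2 := by
      have h1 := Nat.le_of_dvd (by omega) hdvd
      by_contra hne
      have h2 : 2 ^ 4 ≤ 2 ^ (m + 1) := Nat.pow_le_pow_right two_pos (by omega)
      omega
    have h9 : Nat.card V = 9 := by
      obtain ⟨t, ht⟩ := hdvd
      norm_num at ht
      omega
    have ha8 : a ^ 8 = 1 := by
      rw [show (8 : ℕ) = 2 ^ (2 + 1) by norm_num, ← hk, pow_orderOf_eq_one]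
    have ha4 : a ^ 4 = z := by rw [show (4 : ℕ) = 2 ^ 2 by norm_num]; exact hz_eq
    -- `a ↦ a⁵` does not occur
    have hno5 : ∀ g : P, g * a * g⁻¹ ≠ a ^ 5 := by
      intro g hg
      -- adjust `g` so that it fixes a vector
      have horb : ∀ w : V, w ≠ 1 → ∃ x ∈ A, φ x v₀ = w := by
        intro w hw
        haveI := Fintype.ofFinite V
        have hc : Fintype.card {u : V // u ≠ 1} = Nat.card A := by
          rw [Fintype.card_subtype_compl, Fintype.card_subtype_eq, ← Nat.card_eq_fintype_card, h9,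
            hcardA]
          norm_num
        let f : A → {u : V // u ≠ 1} := fun x => ⟨φ x v₀, fun h => hv₀
          ((φ (x : P)).injective (h.trans (map_one (φ (x : P))).symm))⟩
        have hf : Function.Injective f := by
          intro x y h
          by_contra hne
          have h1 : φ x v₀ = φ y v₀ := congrArg Subtype.val h
          refine hv₀ (hfree ((y : P)⁻¹ * x) (mul_mem (inv_mem y.2) x.2)
            (fun h' => hne (Subtype.ext (inv_mul_eq_one.1 h').symm)) v₀ ?_)
          rw [map_mul, MulAut.mul_apply, h1, ← MulAut.mul_apply, ← map_mul, inv_mul_cancel,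
            map_one]
          rfl
        obtain ⟨x, hx⟩ := (hf.bijective_of_nat_card_le
          (by rw [Nat.card_eq_fintype_card (α := {u : V // u ≠ 1}), hc])).2 ⟨w, hw⟩
        exact ⟨x, x.2, congrArg Subtype.val hx⟩
      obtain ⟨x, hxA, hx⟩ := horb (φ g v₀) (fun h => hv₀ ((φ g).injective (h.trans (map_one _).symm)))
      set g' := x⁻¹ * g with hg'
      have hxa : Commute x a := by
        obtain ⟨i, hi⟩ := mem_zpowers_iff.1 (hA ▸ hxA)
        rw [← hi]
        exact (Commute.refl a).zpow_left i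
      have hg'a : g' * a * g'⁻¹ = a ^ 5 := by
        calc g' * a * g'⁻¹ = x⁻¹ * (g * a * g⁻¹) * x := by rw [hg']; group
          _ = x⁻¹ * (a ^ 5 * x) := by rw [hg]; group
          _ = a ^ 5 := by rw [← (hxa.pow_right 5).eq, inv_mul_cancel_left]
      have hfixv : φ g' v₀ = v₀ := by
        rw [hg', map_mul, MulAut.mul_apply, ← hx, ← MulAut.mul_apply, ← map_mul, inv_mul_cancel,
          map_one]
        rfl
      have hcomm2 : g' * a ^ 2 = a ^ 2 * g' := by
        have h2 : g' * a ^ 2 * g'⁻¹ = a ^ 2 := by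
          rw [← conj_pow, hg'a, ← pow_mul, show 5 * 2 = 2 + 8 by norm_num, pow_add, ha8, mul_one]
        exact mul_inv_eq_iff_eq_mul.1 h2
      have hF2 : φ (a ^ 2) v₀ ∈ fixedPts (φ g') := by
        show φ g' (φ (a ^ 2) v₀) = _
        rw [← MulAut.mul_apply, ← map_mul, hcomm2, map_mul, MulAut.mul_apply, hfixv]
      have hF1 : v₀ ∈ fixedPts (φ g') := hfixv
      haveI := Fintype.ofFinite (fixedPts (φ g'))
      have hFd : Nat.card (fixedPts (φ g')) ∣ 9 := h9 ▸ card_subgroup_dvd_card _
      have hF4 : 4 ≤ Nat.card (fixedPts (φ g')) := by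
        rw [← SetLike.coe_sort_coe, Nat.card_coe_set_eq]
        have hne1 : ∀ y : P, y ∈ A → φ y v₀ ≠ 1 := fun y _ h =>
          hv₀ ((φ y).injective (h.trans (map_one (φ y)).symm))
        have hne : ∀ y ∈ A, y ≠ 1 → φ y v₀ ≠ v₀ := fun y hy hy1 h => hv₀ (hfree y hy hy1 v₀ h)
        have h2A : a ^ 2 ∈ A := pow_mem haA 2
        have ha2ne : a ^ 2 ≠ 1 := fun h => by
          have := Nat.le_of_dvd two_pos (hk ▸ orderOf_dvd_of_pow_eq_one h)
          norm_num at this
        have hza : z * a ^ 2 ∈ A := mul_mem hzA h2A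
        have hza1 : z * a ^ 2 ≠ 1 := fun h => by
          rw [← ha4, ← pow_add] at h
          have := Nat.le_of_dvd (by norm_num) (hk ▸ orderOf_dvd_of_pow_eq_one h)
          norm_num at this
        have hd1 : v₀ ≠ v₀⁻¹ := fun h => hv₀ (eq_one_of_sq hodd' (eq_inv_iff_mul_eq_one.1 h))
        have hd2 : φ (a ^ 2) v₀ ≠ v₀ := hne _ h2A ha2ne
        have hd3 : φ (a ^ 2) v₀ ≠ v₀⁻¹ := fun h => hne _ hza hza1 (by
          rw [map_mul, MulAut.mul_apply, h, hz, inv_inv])
        have hsub : ({1, v₀, v₀⁻¹, φ (a ^ 2) v₀} : Set V) ⊆ (fixedPts (φ g') : Set V) := by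
          rintro u (rfl | rfl | rfl | rfl)
          exacts [one_mem _, hF1, inv_mem hF1, hF2]
        refine le_trans (le_of_eq ?_) (Set.ncard_le_ncard hsub)
        rw [Set.ncard_insert_of_notMem, Set.ncard_insert_of_notMem, Set.ncard_insert_of_notMem,
          Set.ncard_singleton]
        · simp only [Set.mem_singleton_iff]
          exact fun h => hd3 h.symm
        · simp only [Set.mem_insert_iff, Set.mem_singleton_iff, not_or]
          exact ⟨hd1, fun h => hd2 h.symm⟩
        · simp only [Set.mem_insert_iff, Set.mem_singleton_iff, not_or]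
          exact ⟨fun h => hv₀ h.symm, fun h => hv₀ (inv_eq_one.1 h.symm),
            fun h => hne1 _ h2A h.symm⟩
      have htop : fixedPts (φ g') = ⊤ := by
        apply Subgroup.eq_top_of_card_eq
        rw [h9]
        have h9' : (9 : ℕ) = 3 ^ 2 := by norm_num
        rw [h9'] at hFd
        obtain ⟨i, hi, hi'⟩ := (Nat.dvd_prime_pow Nat.prime_three).1 hFd
        have hi2 : i = 2 := by
          by_contra hne2
          have : 3 ^ i ≤ 3 ^ 1 := Nat.pow_le_pow_right (by norm_num) (by omega)
          omega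
        rw [hi', hi2]
        norm_num
      have hg1 : g' = 1 := hinj (MulEquiv.ext fun u => by
        rw [map_one]
        exact (show u ∈ fixedPts (φ g') by rw [htop]; exact mem_top u))
      rw [hg1, one_mul, inv_one, mul_one] at hg'a
      have h4 : a ^ 4 = 1 := by
        have := hg'a.symm
        rwa [pow_succ, mul_eq_right] at this
      exact hz1 (ha4 ▸ h4)
    have hR2 : Nat.card c.range ≤ 2 := by
      by_contra hgt
      have h8 : a' ^ 8 = 1 := Subtype.ext ha8
      have hval : ∀ α : c.range, (α : MulAut A) a' = a' ∨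
          (α : MulAut A) a' = a' ^ 3 ∨ (α : MulAut A) a' = a' ^ 7 := by
        intro α
        obtain ⟨j, hj, hj'⟩ := haut α
        have hev : ∀ i : ℕ, j = 2 * i → False := by
          rintro i rfl
          have h1 : (α : MulAut A) (a' ^ 4) = 1 := by
            rw [map_pow, hj', ← pow_mul, show 2 * i * 4 = 8 * i by ring, pow_mul, h8, one_pow]
          rw [← map_one (α : MulAut A)] at h1
          exact hz1 (ha4 ▸ congrArg Subtype.val ((α : MulAut A).injective h1))
        norm_num at hj
        rcases (show j = 0 ∨ j = 1 ∨ j = 2 ∨ j = 3 ∨ j = 4 ∨ j = 5 ∨ j = 6 ∨ j = 7 by omega) with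
          rfl | rfl | rfl | rfl | rfl | rfl | rfl | rfl
        · exact (hev 0 rfl).elim
        · exact Or.inl (by rw [hj', pow_one])
        · exact (hev 1 rfl).elim
        · exact Or.inr (Or.inl hj')
        · exact (hev 2 rfl).elim
        · obtain ⟨_, g, rfl⟩ := α
          exact (hno5 g (congrArg Subtype.val hj' :)).elim
        · exact (hev 3 rfl).elim
        · exact Or.inr (Or.inr hj')
      -- two different non-trivial automorphisms multiply to `a ↦ a⁵`
      have h37 : ∀ α β : c.range, (α : MulAut A) a' = a' ^ 3 → (β : MulAut A) a' = a' ^ 7 →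
          False := by
        intro α β hα hβ
        obtain ⟨_, g, hg⟩ := (α * β : c.range)
        have h5 : ((α * β : c.range) : MulAut A) a' = a' ^ 5 := by
          show (α : MulAut A) ((β : MulAut A) a') = _
          rw [hβ, map_pow, hα, ← pow_mul, show 3 * 7 = 5 + 8 * 2 by norm_num, pow_add, pow_mul, h8,
            one_pow, mul_one]
        obtain ⟨g, hg⟩ := (α * β : c.range).2
        rw [← hg] at h5
        exact hno5 g (congrArg Subtype.val h5 :)
      apply hgt
      by_cases h3 : ∃ α : c.range, (α : MulAut A) a' = a' ^ 3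
      · obtain ⟨α₀, hα₀⟩ := h3
        let f : c.range → ({a', a' ^ 3} : Set A) := fun α => ⟨(α : MulAut A) a', by
          rcases hval α with h | h | h
          · simp [h]
          · simp [h]
          · exact (h37 α₀ α hα₀ h).elim⟩
        refine (Nat.card_le_card_of_injective f ?_).trans ?_
        · intro α β h
          exact Subtype.ext (hext _ _ (congrArg Subtype.val h :))
        · rw [Nat.card_coe_set_eq]
          exact (Set.ncard_insert_le _ _).trans (by rw [Set.ncard_singleton])
      · push Not at h3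
        let f : c.range → ({a', a' ^ 7} : Set A) := fun α => ⟨(α : MulAut A) a', by
          rcases hval α with h | h | h
          · simp [h]
          · exact (h3 α h).elim
          · simp [h]⟩
        refine (Nat.card_le_card_of_injective f ?_).trans ?_
        · intro α β h
          exact Subtype.ext (hext _ _ (congrArg Subtype.val h :))
        · rw [Nat.card_coe_set_eq]
          exact (Set.ncard_insert_le _ _).trans (by rw [Set.ncard_singleton])
    have := hb.trans (Nat.mul_le_mul (hsmall.trans hR2) hA2)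
    omega

end primitive

/-- The main bound. -/
theorem good_all : ∀ n, Good.{u} n := by
  intro n
  induction n using Nat.strong_induction_on with
  | _ n ih => ?_
  intro V _ _ P _ _ φ hn hodd hn1 hP hinj
  subst hn
  obtain ⟨r, hr⟩ := id hodd
  by_cases h3 : Nat.card V = 3
  · refine Or.inr ⟨h3, idx_le_card.trans ?_⟩
    exact (Nat.card_le_card_of_injective φ hinj).trans (card_mulAut_three h3)
  refine Or.inl ?_
  have h5 : 5 ≤ Nat.card V := by omega
  rcases subsingleton_or_nontrivial P with hs | hnt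
  · have h1 : idx P ≤ 1 := idx_le_card.trans (Finite.card_le_one_iff_subsingleton.2 hs)
    omega
  by_cases hred : ∃ W : Subgroup V, (∀ g, ∀ v ∈ W, φ g v ∈ W) ∧ W ≠ ⊥ ∧ W ≠ ⊤
  · obtain ⟨W, hW, hne, hnt'⟩ := hred
    exact reducible φ hodd hP hinj ih W hW hne hnt'
  haveI : Fact (Nat.Prime 2) := ⟨Nat.prime_two⟩
  have hirr : ∀ W : Subgroup V, (∀ g, ∀ v ∈ W, φ g v ∈ W) → W = ⊥ ∨ W = ⊤ := by
    intro W hW
    by_contra h
    push Not at h
    exact hred ⟨W, hW, h.1, h.2⟩
  -- a central involution inverts `V`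
  have hinv : ∀ x : P, (∀ g, g * x = x * g) → x * x = 1 → x ≠ 1 → ∀ v, φ x v = v⁻¹ := by
    intro x hxc hxx hx1
    refine inverts_of_fixedPts_eq_bot _ (by rw [← map_mul, hxx, map_one]) ?_
    rcases hirr (fixedPts (φ x)) (fun g v hv => by
        show φ x (φ g v) = φ g v
        rw [← MulAut.mul_apply, ← map_mul, ← hxc g, map_mul, MulAut.mul_apply]
        exact congrArg _ hv) with h | h
    · exact h
    · refine absurd (hinj (MulEquiv.ext fun v => ?_)) hx1
      rw [map_one]
      exact (show v ∈ fixedPts (φ x) by rw [h]; exact mem_top v)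
  haveI := hP.center_nontrivial
  obtain ⟨⟨z, hzc'⟩, hzord⟩ := exists_prime_orderOf_dvd_card' (G := center P) 2
    (((IsPGroup.to_subgroup hP (center P)).nontrivial_iff_card.1 inferInstance).elim
      fun e he => he.2 ▸ dvd_pow_self 2 he.1.ne')
  rw [Subgroup.orderOf_mk] at hzord
  have hzc : ∀ g : P, g * z = z * g := Subgroup.mem_center_iff.1 hzc'
  have hz1 : z ≠ 1 := fun h => by rw [h, orderOf_one] at hzord; norm_num at hzord
  have hzz : z * z = 1 := by rw [← pow_two, ← hzord, pow_orderOf_eq_one]
  have hz := hinv z hzc hzz hz1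
  haveI : Group.IsNilpotent P := hP.isNilpotent
  obtain ⟨A, -, hAn, hAc, hAs⟩ := CfsgLib.OddOrder41.exists_normal_abelian_self_centralizing
    (⊥ : Subgroup P) inferInstance ⟨⟨fun u v => Subsingleton.elim _ _⟩⟩
  have hzA : z ∈ A := by
    rw [← hAs, mem_centralizer_iff]
    exact fun w _ => hzc w
  have hAcomm : ∀ x ∈ A, ∀ y ∈ A, x * y = y * x := fun x hx y hy =>
    congrArg Subtype.val (mul_comm' (⟨x, hx⟩ : A) ⟨y, hy⟩)
  by_cases hone : ∀ x ∈ A, x * x = 1 → x = 1 ∨ x = z
  · haveI : Finite A := inferInstance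
    obtain ⟨⟨a, ha⟩, -, hgen⟩ := CfsgLib.TwoGroups.OneInvolution.exists_generator
      (hP.to_subgroup A) (fun x y hx hy => by
        have key : ∀ w : A, orderOf w = 2 → (w : P) = z := by
          intro w hw
          rcases hone w w.2 (by
            rw [← pow_two, ← hw, ← Subgroup.orderOf_coe]; exact pow_orderOf_eq_one _) with h | h
          · have : w = 1 := Subtype.ext h
            rw [this, orderOf_one] at hw
            norm_num at hw
          · exact h
        exact Subtype.ext ((key x hx).trans (key y hy).symm))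
      ⊤ ⟨⟨fun u v => Subtype.ext (mul_comm' (u : A) (v : A))⟩⟩
    refine primitive φ hodd h5 hP hinj A hAs a z ?_ hz hzz hzA hone
    have := congrArg (Subgroup.map A.subtype) hgen
    rw [MonoidHom.map_zpowers, ← MonoidHom.range_eq_map, Subgroup.range_subtype] at this
    exact this
  · push Not at hone
    obtain ⟨e₁, he₁A, he₁, he₁1, he₁z⟩ := hone
    have hex : ∃ k, ∃ e ∈ Subgroup.upperCentralSeries P k, e ∈ A ∧ e * e = 1 ∧ e ≠ 1 ∧ e ≠ z := by
      obtain ⟨k, hk⟩ := Group.IsNilpotent.nilpotent' (G := P)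
      exact ⟨k, e₁, by rw [hk]; exact mem_top _, he₁A, he₁, he₁1, he₁z⟩
    classical
    obtain ⟨e, hek, heA, hee, he1, hez⟩ := Nat.find_spec hex
    have hkpos : Nat.find hex ≠ 0 := by
      intro h
      rw [h, Subgroup.upperCentralSeries_zero, mem_bot] at hek
      exact he1 hek
    obtain ⟨k', hk'⟩ := Nat.exists_eq_succ_of_ne_zero hkpos
    rw [hk', Subgroup.mem_upperCentralSeries_succ_iff] at hek
    have hdich : ∀ g : P, g * e * g⁻¹ = e ∨ g * e * g⁻¹ = e * z := by
      intro g
      have hcA : e * g * e⁻¹ * g⁻¹ ∈ A := by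
        have := mul_mem heA (hAn.conj_mem e⁻¹ (inv_mem heA) g)
        simpa [mul_assoc] using this
      have heinv : e⁻¹ = e := inv_eq_of_mul_eq_one_right hee
      have hc2 : (e * g * e⁻¹ * g⁻¹) * (e * g * e⁻¹ * g⁻¹) = 1 := by
        have hcm := hAcomm e heA _ (hAn.conj_mem e⁻¹ (inv_mem heA) g)
        calc (e * g * e⁻¹ * g⁻¹) * (e * g * e⁻¹ * g⁻¹)
            = e * ((g * e⁻¹ * g⁻¹) * e) * (g * e⁻¹ * g⁻¹) := by group
          _ = e * (e * (g * e⁻¹ * g⁻¹)) * (g * e⁻¹ * g⁻¹) := by rw [← hcm]
          _ = (e * e) * (g * (e⁻¹ * e⁻¹) * g⁻¹) := by group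
          _ = 1 := by rw [heinv, hee, mul_one, mul_inv_cancel, mul_one]
      have hconj : g * e * g⁻¹ = e * (e * g * e⁻¹ * g⁻¹) := by
        rw [← mul_assoc, ← mul_assoc, ← mul_assoc, hee, one_mul, heinv]
      by_cases h1 : e * g * e⁻¹ * g⁻¹ = 1
      · exact Or.inl (by rw [hconj, h1, mul_one])
      by_cases h2 : e * g * e⁻¹ * g⁻¹ = z
      · exact Or.inr (by rw [hconj, h2])
      exfalso
      have hmin := Nat.find_min hex (show k' < Nat.find hex by omega)
      exact hmin ⟨_, hek g, hcA, hc2, h1, h2⟩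
    obtain ⟨g₀, hg₀⟩ : ∃ g₀ : P, g₀ * e * g₀⁻¹ = e * z := by
      by_contra hno
      push Not at hno
      have hec : ∀ g : P, g * e = e * g := fun g =>
        mul_inv_eq_iff_eq_mul.1 ((hdich g).resolve_right (hno g))
      have := hinv e hec hee he1
      exact hez (hinj (MulEquiv.ext fun v => by rw [this, hz]))
    exact imprimitive φ hodd hP hinj ih z e g₀ hz hzc hee hez he1 hg₀ hdich

/-- A faithful 2-group of automorphisms of a nontrivial abelian group of odd order has fewer square
classes than the group has elements. -/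
theorem idx_lt_card {V : Type u} [CommGroup V] [Finite V] {P : Type u} [Group P] [Finite P]
    (φ : P →* MulAut V) (hodd : Odd (Nat.card V)) (h1 : 1 < Nat.card V) (hP : IsPGroup 2 P)
    (hinj : Function.Injective φ) : idx P < Nat.card V := by
  rcases good_all (Nat.card V) V P φ rfl hodd h1 hP hinj with h | ⟨h, h'⟩ <;> omega

end CfsgLib.TwoGroupRank
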