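import Cfsg.Agent.Lib.Coprime.Commutator
import Cfsg.Agent.Lib.Transfer.Central
import Mathlib.GroupTheory.SpecificGroups.ZGroup

/-!
Coprime action of `Q` on a group `H` with cyclic Sylow subgroups: `|[H,Q]|` and `|C_H(Q)|` are
coprime.
-/

set_option autoImplicit false
set_option linter.style.haveILetI false

namespace CfsgLib.ZGroupCoprime

open Subgroup
open scoped commutatorElement

/-- An endomorphism of a cyclic group which fixes an element of order `p` and has period prime
to `p` on a `p`-element fixes that element. -/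
theorem fix_of_periodic {A : Type*} [Group A] [IsCyclic A] {p : ℕ} [hp : Fact p.Prime] (s : A →* A)
    {w v : A} (hw : orderOf w = p) (hsw : s w = w) {e : ℕ} (hv : v ^ p ^ e = 1) {n : ℕ}
    (hn : ¬ p ∣ n) (hper : s^[n] v = v) : s v = v := by
  obtain ⟨t, ht⟩ := s.map_cyclic
  have hiter : ∀ i : ℕ, s^[i] v = v ^ (t ^ i) := by
    intro i
    induction i with
    | zero => simp
    | succ i ih => rw [Function.iterate_succ_apply', ih, map_zpow, ht, ← zpow_mul, pow_succ']
  have hpt : (p : ℤ) ∣ t - 1 := by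
    rw [← hw, orderOf_dvd_iff_zpow_eq_one, zpow_sub, zpow_one, ← ht w, hsw, mul_inv_cancel]
  have h1 : Function.IsPeriodicPt s (p ^ e) v := by
    rw [Function.IsPeriodicPt, Function.IsFixedPt, hiter]
    have h2 := dvd_sub_pow_of_dvd_sub hpt e
    rw [one_pow] at h2
    obtain ⟨j, hj⟩ := h2
    rw [show t ^ p ^ e = ((p ^ e : ℕ) : ℤ) * ((p : ℤ) * j) + 1 by
      push_cast; rw [pow_succ] at hj; linarith [hj], zpow_add, zpow_mul, zpow_natCast, hv, one_zpow,
      one_mul, zpow_one]
  have h3 := h1.gcd (show Function.IsPeriodicPt s n v from hper)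
  rw [((hp.out.coprime_iff_not_dvd.mpr hn).pow_left e).gcd_eq_one] at h3
  exact h3

variable {G : Type*} [Group G] [Finite G]

theorem coprime_commutator_centralizer (Q H : Subgroup G) [IsZGroup H]
    (hQH : Q ≤ normalizer (H : Set G)) (hcop : (Nat.card Q).Coprime (Nat.card H)) :
    (Nat.card (⁅H, Q⁆ : Subgroup G)).Coprime
      (Nat.card (H ⊓ centralizer (Q : Set G) : Subgroup G)) := by
  by_contra hc
  obtain ⟨p, hp, hpD, hpC⟩ := Nat.Prime.not_coprime_iff_dvd.mp hc
  haveI := Fact.mk hp
  have hDH : ⁅H, Q⁆ ≤ H := CfsgLib.Coprime.commutator_le_of_normalizes hQH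
  obtain ⟨x, hxD, hxo⟩ : ∃ x ∈ ⁅H, Q⁆, orderOf x = p := by
    obtain ⟨x, hx⟩ := exists_prime_orderOf_dvd_card' (G := (⁅H, Q⁆ : Subgroup G)) p hpD
    exact ⟨x, x.2, by rw [orderOf_coe, hx]⟩
  obtain ⟨c, hcC, hco⟩ : ∃ c ∈ H ⊓ centralizer (Q : Set G), orderOf c = p := by
    obtain ⟨x, hx⟩ := exists_prime_orderOf_dvd_card' (G := (H ⊓ centralizer (Q : Set G) :
      Subgroup G)) p hpC
    exact ⟨x, x.2, by rw [orderOf_coe, hx]⟩
  have hpH : p ∣ Nat.card H := hpC.trans (card_dvd_of_le inf_le_left)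
  have hqn : ∀ q ∈ Q, ¬ p ∣ orderOf q := fun q hq hd => hp.not_dvd_one
    (hcop ▸ Nat.dvd_gcd (hd.trans (Q.orderOf_dvd_natCard hq)) hpH)
  have hmem : ∀ q ∈ Q, ∀ y : H, q * y * q⁻¹ ∈ H := fun q hq y =>
    (mem_normalizer_iff.mp (hQH hq) _).mp y.2
  let σ : ∀ q, q ∈ Q → (H →* H) := fun q hq =>
    { toFun := fun y => ⟨q * y * q⁻¹, hmem q hq y⟩
      map_one' := Subtype.ext (by simp)
      map_mul' := fun y z => Subtype.ext (by simp [mul_assoc]) }
  have hσc : ∀ q (hq : q ∈ Q), σ q hq ⟨c, hcC.1⟩ = ⟨c, hcC.1⟩ := fun q hq =>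
    Subtype.ext (show q * c * q⁻¹ = c by
      rw [mem_centralizer_iff.mp hcC.2 q hq, mul_inv_cancel_right])
  have hσiter : ∀ q (hq : q ∈ Q) (i : ℕ) (y : H),
      (((σ q hq)^[i] y : H) : G) = q ^ i * y * (q ^ i)⁻¹ := by
    intro q hq i
    induction i with
    | zero => simp
    | succ i ih =>
      intro y
      rw [Function.iterate_succ_apply']
      change q * (((σ q hq)^[i] y : H) : G) * q⁻¹ = _
      rw [ih, pow_succ', mul_inv_rev]
      group
  have hσper : ∀ q (hq : q ∈ Q) (y : H), (σ q hq)^[orderOf q] y = y := fun q hq y =>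
    Subtype.ext (by rw [hσiter q hq, pow_orderOf_eq_one]; simp)
  have hcomm_eq : ∀ q (hq : q ∈ Q) (h : H),
      (⁅(h : G), q⁆ : G) = ((h * σ q hq h⁻¹ : H) : G) := fun q hq h => by
    simp [σ, commutatorElement_def, mul_assoc]
  by_cases hpH' : p ∣ Nat.card (_root_.commutator H)
  · -- `p` divides `|H'|`: the `p`-elements form a cyclic subgroup of `H'` fixed by `Q`
    have hidx : ¬ p ∣ (_root_.commutator H).index := fun hd => hp.not_dvd_one
      ((IsZGroup.coprime_commutator_index H) ▸ Nat.dvd_gcd hpH' hd)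
    have hpel : ∀ y : H, (∃ k, y ^ p ^ k = 1) → y ∈ _root_.commutator H := by
      rintro y ⟨k, hk⟩
      have h1 : orderOf (QuotientGroup.mk' (_root_.commutator H) y) ∣ p ^ k :=
        (orderOf_map_dvd _ y).trans (orderOf_dvd_of_pow_eq_one hk)
      have h2 : orderOf (QuotientGroup.mk' (_root_.commutator H) y) ∣
          (_root_.commutator H).index := orderOf_dvd_natCard _
      exact (QuotientGroup.eq_one_iff y).mp (orderOf_eq_one_iff.mp
        (Nat.eq_one_of_dvd_coprimes ((hp.coprime_iff_not_dvd.mpr hidx).pow_left k) h1 h2))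
    haveI : IsCyclic (_root_.commutator H) := IsZGroup.isCyclic_commutator _
    -- `Q` fixes all `p`-elements of `H`
    have hfix : ∀ q (hq : q ∈ Q) (y : H), (∃ k, y ^ p ^ k = 1) → σ q hq y = y := by
      intro q hq y ⟨k, hk⟩
      have hcmap : ∀ z ∈ _root_.commutator H, σ q hq z ∈ _root_.commutator H := by
        intro z hz
        have h1 : (_root_.commutator H).map (σ q hq) ≤ _root_.commutator H := by
          rw [_root_.commutator_def, map_commutator]
          exact commutator_mono le_top le_top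
        exact h1 (mem_map_of_mem _ hz)
      let s : _root_.commutator H →* _root_.commutator H :=
        ((σ q hq).comp (_root_.commutator H).subtype).codRestrict _ fun z => hcmap _ z.2
      have hs : ∀ (i : ℕ) (z : _root_.commutator H),
          ((s^[i] z : _root_.commutator H) : H) = (σ q hq)^[i] (z : H) := by
        intro i
        induction i with
        | zero => simp
        | succ i ih =>
          intro z
          rw [Function.iterate_succ_apply', Function.iterate_succ_apply', ← ih]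
          rfl
      have hc1 : (⟨c, hcC.1⟩ : H) ^ p ^ 1 = 1 :=
        Subtype.ext (by rw [pow_one, ← hco]; simp [pow_orderOf_eq_one])
      have := fix_of_periodic s (w := ⟨⟨c, hcC.1⟩, hpel _ ⟨1, hc1⟩⟩) (v := ⟨y, hpel y ⟨k, hk⟩⟩)
        (by rw [← Subgroup.orderOf_coe, ← Subgroup.orderOf_coe, hco]) (Subtype.ext (hσc q hq))
        (e := k) (Subtype.ext (by simpa using hk)) (hqn q hq)
        (Subtype.ext (by rw [hs]; exact hσper q hq y))
      exact congrArg Subtype.val this
    obtain ⟨S, hSdef⟩ : ∃ S : Subgroup H, S = centralizer {y : H | ∃ k, y ^ p ^ k = 1} := ⟨_, rfl⟩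
    have hS : ∀ z, z ∈ S ↔ ∀ y : H, (∃ k, y ^ p ^ k = 1) → y * z = z * y := by
      intro z
      rw [hSdef, mem_centralizer_iff]
      rfl
    have hpelS : ∀ y : H, (∃ k, y ^ p ^ k = 1) → y ∈ S := fun y hy => (hS y).mpr fun z hz =>
      congrArg Subtype.val (mul_comm' (⟨z, hpel z hz⟩ : _root_.commutator H) ⟨y, hpel y hy⟩)
    have hδ : ∀ q (hq : q ∈ Q) (h : H), h * σ q hq h⁻¹ ∈ S := by
      intro q hq h
      refine (hS _).mpr fun y hy => ?_
      obtain ⟨k, hk⟩ := hy
      have h1 := hfix q hq (h⁻¹ * y * h) ⟨k, by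
        rw [show h⁻¹ * y * h = MulAut.conj h⁻¹ y by simp, ← map_pow, hk, map_one]⟩
      have h2 : σ q hq y = y := hfix q hq y ⟨k, hk⟩
      rw [map_mul, map_mul, h2] at h1
      rw [map_inv]
      rw [map_inv] at h1
      calc y * (h * (σ q hq h)⁻¹) = h * (h⁻¹ * y * h) * (σ q hq h)⁻¹ := by group
        _ = h * ((σ q hq h)⁻¹ * y * σ q hq h) * (σ q hq h)⁻¹ := by rw [h1]
        _ = _ := by group
    -- the p-part of the abelianization of `S`
    obtain ⟨a, m, hm, hcard⟩ := Nat.exists_eq_pow_mul_and_not_dvd (n := Nat.card S)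
      Nat.card_pos.ne' p hp.ne_one
    let χ : S →* Abelianization S := (powMonoidHom m).comp Abelianization.of
    have hχ : ∀ z : S, χ z = Abelianization.of (z ^ m) := fun z => (map_pow _ _ _).symm
    have hχp : ∀ z : S, χ z ^ p ^ a = 1 := fun z => by
      rw [hχ, ← map_pow, ← pow_mul, mul_comm, ← hcard, pow_card_eq_one', map_one]
    have hχq : ∀ q (hq : q ∈ Q) (z w : S), (w : H) = σ q hq z → χ w = χ z := by
      intro q hq z w hw
      rw [hχ, hχ]
      congr 1
      apply Subtype.ext
      rw [SubgroupClass.coe_pow, hw, ← map_pow]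
      refine hfix q hq _ ⟨a, ?_⟩
      rw [← pow_mul, mul_comm, ← hcard]
      exact congrArg Subtype.val (pow_card_eq_one' (x := z))
    have hχδ : ∀ q (hq : q ∈ Q) (h : H), χ ⟨h * σ q hq h⁻¹, hδ q hq h⟩ = 1 := by
      intro q hq h
      have hmemi : ∀ i : ℕ, h * ((σ q hq)^[i] h⁻¹) ∈ S := by
        intro i
        have h1 := hδ (q ^ i) (pow_mem hq i) h
        rwa [show σ (q ^ i) (pow_mem hq i) h⁻¹ = (σ q hq)^[i] h⁻¹ from
          Subtype.ext (hσiter q hq i h⁻¹).symm] at h1
      have hstep : ∀ i : ℕ, χ ⟨_, hmemi i⟩ = χ ⟨_, hδ q hq h⟩ ^ i := by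
        intro i
        induction i with
        | zero =>
          rw [pow_zero, show (⟨_, hmemi 0⟩ : S) = 1 from Subtype.ext (mul_inv_cancel h), map_one]
        | succ i ih =>
          have hw : (σ q hq) (h * (σ q hq)^[i] h⁻¹) ∈ S := by
            have h1 := mul_mem (inv_mem (hδ q hq h)) (hmemi (i + 1))
            rw [Function.iterate_succ_apply', map_inv] at h1
            rw [map_mul]
            simpa [mul_assoc] using h1
          have e : (⟨_, hmemi (i + 1)⟩ : S) = ⟨_, hδ q hq h⟩ * ⟨_, hw⟩ := by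
            apply Subtype.ext
            simp [Function.iterate_succ_apply', mul_assoc]
          rw [e, map_mul, hχq q hq ⟨_, hmemi i⟩ ⟨_, hw⟩ rfl, ih, pow_succ']
      have h1 := hstep (orderOf q)
      rw [show (⟨_, hmemi (orderOf q)⟩ : S) = 1 from
        Subtype.ext (by simp [hσper q hq h⁻¹]), map_one] at h1
      have hco' : (p ^ a).Coprime (orderOf q) :=
        (hp.coprime_iff_not_dvd.mpr (hqn q hq)).pow_left a
      exact orderOf_eq_one_iff.mp (Nat.eq_one_of_dvd_coprimes hco'
        (orderOf_dvd_of_pow_eq_one (hχp _)) (orderOf_dvd_of_pow_eq_one h1.symm))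
    have hker : ⁅H, Q⁆ ≤ (χ.ker.map S.subtype).map H.subtype := by
      refine commutator_le.mpr fun h hh q hq => ⟨_, ⟨⟨_, hδ q hq ⟨h, hh⟩⟩, hχδ q hq _, rfl⟩, ?_⟩
      exact (hcomm_eq q hq ⟨h, hh⟩).symm
    obtain ⟨_, ⟨z, hz, rfl⟩, hzx⟩ := hker hxD
    have hzo : orderOf z = p := by
      rw [← Subgroup.orderOf_coe, ← Subgroup.orderOf_coe, ← hxo]
      exact congrArg orderOf hzx
    -- `z` is central in `S` and lies in a cyclic Sylow subgroup: it is not a commutator
    have hzc : z ∈ center S := by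
      rw [mem_center_iff]
      intro g
      exact Subtype.ext ((hS (g : H)).mp g.2 (z : H) ⟨1, by
        rw [pow_one, ← hzo, ← Subgroup.orderOf_coe]; exact pow_orderOf_eq_one _⟩).symm
    obtain ⟨P, hP⟩ := (IsPGroup.of_card (n := 1) (by rw [Nat.card_zpowers, hzo, pow_one]) :
      IsPGroup p (zpowers z)).exists_le_sylow
    have hzd : z ∈ _root_.commutator S := by
      have h1 : Abelianization.of z ^ m = 1 := by
        have := MonoidHom.mem_ker.mp hz
        rwa [hχ, map_pow] at this
      have h2 : Abelianization.of z ^ p = 1 := by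
        rw [← map_pow, ← hzo, pow_orderOf_eq_one, map_one]
      rw [← Abelianization.ker_of]
      exact orderOf_eq_one_iff.mp (Nat.eq_one_of_dvd_coprimes (hp.coprime_iff_not_dvd.mpr hm)
        (orderOf_dvd_of_pow_eq_one h2) (orderOf_dvd_of_pow_eq_one h1))
    haveI : IsCyclic (P : Subgroup S) := inferInstance
    have h3 := CfsgLib.Transfer.eq_one_of_central_commutator (P : Subgroup S)
      IsCyclic.isMulCommutative P.card_coprime_index (hP (mem_zpowers z)) hzd hzc
    rw [h3, orderOf_one] at hzo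
    exact hp.ne_one hzo.symm
  · -- `p` does not divide `|H'|`: `Q` fixes the `p`-part of `H/H'`
    haveI : IsCyclic (Abelianization H) := IsZGroup.isCyclic_abelianization
    obtain ⟨a, m, hm, hcard⟩ := Nat.exists_eq_pow_mul_and_not_dvd (n := Nat.card (Abelianization H))
      Nat.card_pos.ne' p hp.ne_one
    let χ : H →* Abelianization H := (powMonoidHom m).comp Abelianization.of
    have hof : ∀ y : H, orderOf y = p → Abelianization.of y ^ m ≠ 1 := by
      intro y hy h1
      have h2 : Abelianization.of y ^ p = 1 := by rw [← map_pow, ← hy, pow_orderOf_eq_one, map_one]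
      have h3 : y ∈ _root_.commutator H := by
        rw [← Abelianization.ker_of]
        exact orderOf_eq_one_iff.mp (Nat.eq_one_of_dvd_coprimes (hp.coprime_iff_not_dvd.mpr hm)
          (orderOf_dvd_of_pow_eq_one h2) (orderOf_dvd_of_pow_eq_one h1))
      exact hpH' (hy ▸ (_root_.commutator H).orderOf_dvd_natCard h3)
    have hχo : orderOf (χ ⟨c, hcC.1⟩) = p := by
      refine orderOf_eq_prime ?_ (hof _ (by rw [← Subgroup.orderOf_coe, hco]))
      rw [← map_pow, show (⟨c, hcC.1⟩ : H) ^ p = 1 from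
        Subtype.ext (by rw [← hco]; simp [pow_orderOf_eq_one]), map_one]
    have hker : ⁅H, Q⁆ ≤ χ.ker.map H.subtype := by
      refine commutator_le.mpr fun h hh q hq => ?_
      let s := Abelianization.map (σ q hq)
      have hs : ∀ y : H, s (χ y) = χ (σ q hq y) := fun y => by simp [s, χ]
      have hsi : ∀ (i : ℕ) (y : H), s^[i] (χ y) = χ ((σ q hq)^[i] y) := by
        intro i
        induction i with
        | zero => simp
        | succ i ih =>
          intro y
          rw [Function.iterate_succ_apply', ih, hs, Function.iterate_succ_apply']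
      have h1 : s (χ ⟨h, hh⟩) = χ ⟨h, hh⟩ :=
        fix_of_periodic s hχo (by rw [hs, hσc q hq]) (e := a)
          (show (Abelianization.of (⟨h, hh⟩ : H) ^ m) ^ p ^ a = 1 by
            rw [← pow_mul, mul_comm, ← hcard, pow_card_eq_one']) (hqn q hq)
          (by rw [hsi, hσper q hq])
      refine ⟨(⟨h, hh⟩ : H) * σ q hq ⟨h, hh⟩⁻¹, ?_, (hcomm_eq q hq ⟨h, hh⟩).symm⟩
      change χ _ = 1
      rw [map_mul, map_inv, map_inv, ← hs, h1, mul_inv_cancel]
    obtain ⟨z, hz, hzx⟩ := hker hxD
    exact hof z (by rw [← Subgroup.orderOf_coe, ← hxo]; exact congrArg orderOf hzx) hz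

end CfsgLib.ZGroupCoprime
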